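import Groth.Agent.Lib.Hens.Pair
import Mathlib.RingTheory.Spectrum.Prime.Noetherian
import Mathlib.RingTheory.Artinian.Module
import Mathlib.RingTheory.Spectrum.Maximal.Basic
import Mathlib.RingTheory.LocalRing.ResidueField.Basic

/-!
Finite algebras over local rings and decomposition into local factors.
-/

namespace Groth.Agent.Hens

universe u v w

open IsLocalRing

section Separated

variable {B : Type v} [CommRing B]

theorem mem_jacobson_bot_of_forall {x : B} (h : ∀ n : MaximalSpectrum B, x ∈ n.asIdeal) :
    x ∈ Ideal.jacobson (⊥ : Ideal B) :=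
  Ideal.mem_sInf.mpr fun {m} hm => h ⟨m, hm.2⟩

theorem isUnit_of_forall_notMem {x : B} (h : ∀ n : MaximalSpectrum B, x ∉ n.asIdeal) : IsUnit x := by
  by_contra hx
  obtain ⟨m, hm, hxm⟩ := exists_max_ideal_of_mem_nonunits hx
  exact h ⟨m, hm⟩ hxm

/-- If maximal ideals are separated by idempotents, the ring is the product of its localizations
at maximal ideals. -/
theorem bijective_pi_localization [Finite (MaximalSpectrum B)]
    (h : ∀ n : MaximalSpectrum B, ∃ e : B, IsIdempotentElem e ∧ e ∉ n.asIdeal ∧
      ∀ n', n' ≠ n → e ∈ n'.asIdeal) :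
    Function.Bijective
      (RingHom.pi (fun n : MaximalSpectrum B => algebraMap B (Localization.AtPrime n.asIdeal))) := by
  classical
  choose e he hen hen' using h
  have horth : ∀ n k, n ≠ k → e n * e k = 0 := fun n k hnk =>
    idempotent_eq_of_sub_mem le_rfl ((he n).mul (he k)) .zero (by
      rw [sub_zero]
      refine mem_jacobson_bot_of_forall fun m => ?_
      rcases eq_or_ne m n with rfl | hm
      · exact Ideal.mul_mem_left _ _ (hen' k m hnk)
      · exact Ideal.mul_mem_right _ _ (hen' n m hm))
  have hone : ∀ n, algebraMap B (Localization.AtPrime n.asIdeal) (e n) = 1 := fun n =>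
    (IsIdempotentElem.iff_eq_one_of_isUnit
      (IsLocalization.map_units (M := n.asIdeal.primeCompl) _ ⟨e n, hen n⟩)).mp ((he n).map _)
  have hzero : ∀ n k, n ≠ k → algebraMap B (Localization.AtPrime k.asIdeal) (e n) = 0 := fun n k hnk => by
    rw [← mul_one (algebraMap B _ (e n)), ← hone k, ← map_mul, horth n k hnk, map_zero]
  constructor
  · rw [injective_iff_map_eq_zero]
    intro x hx
    let J : Ideal B := (Submodule.span B {x}).annihilator
    have : J = ⊤ := by
      by_contra hne
      obtain ⟨m, hm, hle⟩ := Ideal.exists_le_maximal _ hne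
      have := congrFun hx ⟨m, hm⟩
      simp only [RingHom.pi_apply, Pi.zero_apply] at this
      obtain ⟨⟨c, hc⟩, hcx⟩ := (IsLocalization.map_eq_zero_iff m.primeCompl _ _).mp this
      exact hc (hle (Submodule.mem_annihilator_span_singleton _ _ |>.mpr (by simpa using hcx)))
    have h1 : (1 : B) ∈ J := this ▸ Submodule.mem_top
    simpa [J, Submodule.mem_annihilator_span_singleton] using h1
  · intro y
    let _ := Fintype.ofFinite (MaximalSpectrum B)
    have : ∀ k : MaximalSpectrum B, ∃ b : B,
        algebraMap B (Localization.AtPrime k.asIdeal) b = y k := by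
      intro k
      obtain ⟨b, ⟨s, hs⟩, hbs⟩ := IsLocalization.exists_mk'_eq k.asIdeal.primeCompl (y k)
      have hu : IsUnit (s * e k + (1 - e k)) := by
        refine isUnit_of_forall_notMem fun m hm => ?_
        rcases eq_or_ne m k with rfl | hmk
        · have h1 : s * e m ∈ m.asIdeal := by
            have := m.asIdeal.mul_mem_right (e m) hm
            have h2 : (s * e m + (1 - e m)) * e m = s * e m := by
              linear_combination (s - 1) * (he m).eq
            rwa [h2] at this
          exact (m.isMaximal.isPrime.mul_notMem hs (hen m)) h1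
        · have h1 := hen' k m hmk
          have h2 : (1 : B) = (s * e k + (1 - e k)) - (s - 1) * e k := by ring
          exact m.isMaximal.ne_top ((Ideal.eq_top_iff_one _).mpr
            (h2 ▸ sub_mem hm (Ideal.mul_mem_left _ _ h1)))
      obtain ⟨w, hw⟩ := hu.exists_left_inv
      refine ⟨b * w, ?_⟩
      rw [← hbs, IsLocalization.eq_mk'_iff_mul_eq, ← map_mul]
      have hs' : algebraMap B (Localization.AtPrime k.asIdeal) (s * e k + (1 - e k)) =
          algebraMap B _ s := by
        simp [hone k]
      rw [map_mul, map_mul, show algebraMap B (Localization.AtPrime k.asIdeal) ((⟨s, hs⟩ : k.asIdeal.primeCompl) : B) =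
        algebraMap B _ (s * e k + (1 - e k)) from hs'.symm, mul_assoc, ← map_mul, hw, map_one, mul_one]
    choose b hb using this
    refine ⟨∑ k, b k * e k, funext fun m => ?_⟩
    rw [RingHom.pi_apply, map_sum, Finset.sum_eq_single m]
    · rw [map_mul, hone, mul_one, hb]
    · intro k _ hk; rw [map_mul, hzero k m hk, mul_zero]
    · simp

end Separated

variable {A : Type u} [CommRing A] [IsLocalRing A] {B : Type v} [CommRing B] [Algebra A B]

theorem maximalIdeal_map_le [Algebra.IsIntegral A B] (n : MaximalSpectrum B) :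
    (maximalIdeal A).map (algebraMap A B) ≤ n.asIdeal :=
  (map_le_jacobson_of_isIntegral (maximalIdeal_le_jacobson _)).trans
    (sInf_le ⟨bot_le, n.isMaximal⟩)

theorem isArtinianRing_quotient [Module.Finite A B] :
    IsArtinianRing (B ⧸ (maximalIdeal A).map (algebraMap A B)) := by
  have : Module.Finite (A ⧸ maximalIdeal A) (B ⧸ (maximalIdeal A).map (algebraMap A B)) :=
    Module.Finite.of_restrictScalars_finite A _ _
  let _ : Field (A ⧸ maximalIdeal A) := Ideal.Quotient.field _
  exact IsArtinianRing.of_finite (A ⧸ maximalIdeal A) _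

theorem finite_maximalSpectrum [Module.Finite A B] : Finite (MaximalSpectrum B) := by
  have : Algebra.IsIntegral A B := Algebra.IsIntegral.of_finite A B
  have := isArtinianRing_quotient (A := A) (B := B)
  let f : MaximalSpectrum B → MaximalSpectrum (B ⧸ (maximalIdeal A).map (algebraMap A B)) :=
    fun n => ⟨n.asIdeal.map (Ideal.Quotient.mk _),
      Ideal.IsMaximal.map_of_surjective_of_ker_le Ideal.Quotient.mk_surjective
        (by rw [Ideal.mk_ker]; exact maximalIdeal_map_le n)⟩
  have hc : ∀ n : MaximalSpectrum B, (n.asIdeal.map (Ideal.Quotient.mk _)).comap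
      (Ideal.Quotient.mk ((maximalIdeal A).map (algebraMap A B))) = n.asIdeal := fun n => by
    rw [Ideal.comap_map_of_surjective' _ Ideal.Quotient.mk_surjective, sup_eq_left, Ideal.mk_ker]
    exact maximalIdeal_map_le n
  refine Finite.of_injective f fun n k hnk => MaximalSpectrum.ext ?_
  rw [← hc n, ← hc k]
  exact congrArg (fun m : MaximalSpectrum (B ⧸ (maximalIdeal A).map (algebraMap A B)) => m.asIdeal.comap (Ideal.Quotient.mk _)) hnk

theorem bijective_pi_localization_of_surjOn [Module.Finite A B]
    (h : Set.SurjOn (Ideal.Quotient.mk ((maximalIdeal A).map (algebraMap A B)))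
      {e : B | IsIdempotentElem e} {e | IsIdempotentElem e}) :
    Function.Bijective
      (RingHom.pi (fun n : MaximalSpectrum B => algebraMap B (Localization.AtPrime n.asIdeal))) := by
  have : Algebra.IsIntegral A B := Algebra.IsIntegral.of_finite A B
  have := finite_maximalSpectrum (A := A) (B := B)
  have := isArtinianRing_quotient (A := A) (B := B)
  refine bijective_pi_localization fun n => ?_
  set π := Ideal.Quotient.mk ((maximalIdeal A).map (algebraMap A B))
  have hker : ∀ k : MaximalSpectrum B, RingHom.ker π ≤ k.asIdeal := fun k => by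
    rw [Ideal.mk_ker]; exact maximalIdeal_map_le k
  have hp : ∀ k : MaximalSpectrum B, (k.asIdeal.map π).IsPrime := fun k =>
    Ideal.map_isPrime_of_surjective Ideal.Quotient.mk_surjective (hker k)
  have := hp n
  obtain ⟨r, hr, hri, hr'⟩ := IsArtinianRing.exists_not_mem_forall_mem_of_ne (n.asIdeal.map π)
  obtain ⟨e, he, rfl⟩ := h hri
  have hc : ∀ k : MaximalSpectrum B, (k.asIdeal.map π).comap π = k.asIdeal := fun k => by
    rw [Ideal.comap_map_of_surjective' _ Ideal.Quotient.mk_surjective, sup_eq_left]; exact hker k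
  refine ⟨e, he, fun h => hr (Ideal.mem_map_of_mem π h), fun k hk => ?_⟩
  rw [← hc k]
  exact hr' _ (hp k) fun h => hk (MaximalSpectrum.ext (by rw [← hc k, h, hc n]))

theorem surjOn_of_ringEquiv_pi [Module.Finite A B] {ι : Type w} [Fintype ι] {C : ι → Type*}
    [∀ j, CommRing (C j)] [∀ j, IsLocalRing (C j)] (e : B ≃+* (∀ j, C j)) :
    Set.SurjOn (Ideal.Quotient.mk ((maximalIdeal A).map (algebraMap A B)))
      {e : B | IsIdempotentElem e} {e | IsIdempotentElem e} := by
  classical
  have : Algebra.IsIntegral A B := Algebra.IsIntegral.of_finite A B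
  intro x hx
  obtain ⟨b, rfl⟩ := Ideal.Quotient.mk_surjective x
  set M := (maximalIdeal A).map (algebraMap A B)
  have hb : b * b - b ∈ M := Ideal.Quotient.eq.mp ((map_mul _ b b).trans hx)
  let p : ∀ j, B →+* C j := fun j => (Pi.evalRingHom C j).comp e.toRingHom
  have hp : ∀ j, Function.Surjective (p j) := fun j c =>
    ⟨e.symm (Pi.single j c), by simp [p]⟩
  have hpM : ∀ j, ∀ y ∈ M, p j y ∈ maximalIdeal (C j) := by
    intro j y hy
    have hmax := Ideal.comap_isMaximal_of_surjective (p j) (hp j) (K := maximalIdeal (C j))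
    exact maximalIdeal_map_le (A := A) ⟨_, hmax⟩ hy
  have hcomp : ∀ j, ∃ ε : C j, IsIdempotentElem ε ∧ ∃ y ∈ M, p j y = ε - p j b := by
    intro j
    rcases IsLocalRing.isUnit_or_isUnit_one_sub_self (p j b) with hu | hu
    · obtain ⟨w, hw⟩ := hu.exists_left_inv
      obtain ⟨w, rfl⟩ := hp j w
      refine ⟨1, .one, -(w * (b * b - b)), neg_mem (M.mul_mem_left _ hb), ?_⟩
      simp only [map_neg, map_mul, map_sub]
      linear_combination (1 - p j b) * hw
    · obtain ⟨w, hw⟩ := hu.exists_left_inv
      obtain ⟨w, rfl⟩ := hp j w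
      refine ⟨0, .zero, w * (b * b - b), M.mul_mem_left _ hb, ?_⟩
      simp only [map_mul, map_sub]
      linear_combination (-(p j b)) * hw
  choose ε hε y hy hyε using hcomp
  refine ⟨e.symm ε, ?_, ?_⟩
  · exact IsIdempotentElem.map (funext fun j => hε j : IsIdempotentElem ε) e.symm
  · rw [Ideal.Quotient.eq]
    have : e.symm ε - b = ∑ j, e.symm (Pi.single j 1) * y j := by
      apply e.injective
      funext k
      simp only [map_sum, map_mul, map_sub, RingEquiv.apply_symm_apply, Finset.sum_apply,
        Pi.mul_apply, Pi.sub_apply]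
      rw [Finset.sum_eq_single k]
      · rw [Pi.single_eq_same, one_mul]; exact (hyε k).symm
      · intro j _ hj; rw [Pi.single_eq_of_ne (Ne.symm hj), zero_mul]
      · simp
    rw [this]
    exact sum_mem fun j _ => M.mul_mem_left _ (hy j)

end Groth.Agent.Hens
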