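import Groth.Agent.Lib.Hens.Pair
import Mathlib.RingTheory.Smooth.StandardSmoothOfFree

/-!
Multivariate Hensel lemma for henselian pairs.
-/

namespace Groth.Agent.Hens

universe u v

variable {A : Type u} [CommRing A] {I : Ideal A} {n : ℕ}

/-- The jacobian of a square system. -/
noncomputable def jacDet (P : Fin n → MvPolynomial (Fin n) A) : MvPolynomial (Fin n) A :=
  (Matrix.of fun i j => MvPolynomial.pderiv j (P i)).det

theorem etale_away_jacDet (P : Fin n → MvPolynomial (Fin n) A) :
    Algebra.Etale A (Localization.Away (Ideal.Quotient.mk (Ideal.span (Set.range P)) (jacDet P))) := by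
  let P₀ : Algebra.PreSubmersivePresentation A (MvPolynomial (Fin n) A ⧸ Ideal.span (Set.range P))
      (Fin n) (Fin n) := .naive id Function.injective_id
  have hjac : P₀.jacobian = Ideal.Quotient.mk (Ideal.span (Set.range P)) (jacDet P) := by
    rw [Algebra.PreSubmersivePresentation.jacobian_eq_jacobiMatrix_det, jacDet,
      ← Matrix.det_transpose]
    have : P₀.jacobiMatrix.transpose = Matrix.of fun i j => MvPolynomial.pderiv j (P i) := by
      ext i j
      simp [P₀]
    rw [this]; rfl
  rw [← hjac]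
  set Δ := P₀.jacobian
  have hΔ : IsUnit (algebraMap _ (Localization.Away Δ) Δ) :=
    IsLocalization.Away.algebraMap_isUnit _
  let Q : Algebra.SubmersivePresentation A (Localization.Away Δ) _ _ :=
    { toPreSubmersivePresentation := .comp (.localizationAway (Localization.Away Δ) Δ) P₀,
      jacobian_isUnit := by simpa [Algebra.smul_def, -isUnit_map_iff, Δ] using hΔ }
  have : Algebra.IsStandardSmoothOfRelativeDimension 0 A (Localization.Away Δ) :=
    ⟨_, _, _, inferInstance, Q, by
      simp only [Algebra.PreSubmersivePresentation.dimension_comp_eq_dimension_add_dimension, Q]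
      simp [Algebra.Presentation.dimension]⟩
  exact (Algebra.Etale.iff_isStandardSmoothOfRelativeDimension_zero).mpr this

/-- Multivariate Hensel lemma. -/
theorem exists_zero_of_isUnit_jacDet (h : HenselianRing A I) (P : Fin n → MvPolynomial (Fin n) A)
    (a₀ : Fin n → A) (h₀ : ∀ i, MvPolynomial.eval a₀ (P i) ∈ I)
    (hJ : IsUnit (Ideal.Quotient.mk I (MvPolynomial.eval a₀ (jacDet P)))) :
    ∃ a : Fin n → A, (∀ i, MvPolynomial.eval a (P i) = 0) ∧ ∀ j, a j - a₀ j ∈ I := by
  let J := Ideal.span (Set.range P)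
  let φ : MvPolynomial (Fin n) A →ₐ[A] A ⧸ I :=
    (Ideal.Quotient.mkₐ A I).comp (MvPolynomial.aeval a₀)
  have hφ : ∀ p, φ p = Ideal.Quotient.mk I (MvPolynomial.eval a₀ p) := fun p => rfl
  let φ' : MvPolynomial (Fin n) A ⧸ J →ₐ[A] A ⧸ I := Ideal.Quotient.liftₐ J φ fun p hp => by
    refine (Ideal.span_le (I := RingHom.ker φ)).mpr ?_ hp
    rintro _ ⟨i, rfl⟩
    exact Ideal.Quotient.eq_zero_iff_mem.mpr (h₀ i)
  let g : MvPolynomial (Fin n) A ⧸ J := Ideal.Quotient.mk J (jacDet P)
  let σ : Localization.Away g →ₐ[A] A ⧸ I :=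
    IsLocalization.Away.liftAlgHom g (f := φ') hJ
  have := etale_away_jacDet P
  obtain ⟨τ, hτ⟩ := exists_lift_of_henselianRing h σ
  let ψ : MvPolynomial (Fin n) A →ₐ[A] A :=
    τ.comp ((IsScalarTower.toAlgHom A (MvPolynomial (Fin n) A ⧸ J) (Localization.Away g)).comp
      (Ideal.Quotient.mkₐ A J))
  have hψ : ∀ p, ψ p = MvPolynomial.eval (fun j => ψ (MvPolynomial.X j)) p := fun p => by
    conv_lhs => rw [MvPolynomial.aeval_unique ψ]
    rfl
  refine ⟨fun j => ψ (MvPolynomial.X j), fun i => ?_, fun j => ?_⟩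
  · rw [← hψ]
    have : Ideal.Quotient.mk J (P i) = 0 :=
      Ideal.Quotient.eq_zero_iff_mem.mpr (Ideal.subset_span ⟨i, rfl⟩)
    simp [ψ, this]
  · rw [← Ideal.Quotient.eq]
    have h1 := congr($hτ (algebraMap _ (Localization.Away g) (Ideal.Quotient.mk J (MvPolynomial.X j))))
    refine h1.trans ?_
    have h2 : σ (algebraMap _ (Localization.Away g) (Ideal.Quotient.mk J (MvPolynomial.X j))) =
        φ' (Ideal.Quotient.mk J (MvPolynomial.X j)) := by
      simp only [σ, IsLocalization.Away.liftAlgHom_apply]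
      exact IsLocalization.Away.lift_eq (g := φ'.toRingHom) _ (show IsUnit (φ'.toRingHom g) from hJ) _
    rw [h2]
    show φ (MvPolynomial.X j) = _
    rw [hφ, MvPolynomial.eval_X]

theorem exists_root_of_simple (h : HenselianRing A I) (f : Polynomial A) (a₀ : A)
    (h₀ : f.eval a₀ ∈ I) (h₁ : IsUnit (Ideal.Quotient.mk I (f.derivative.eval a₀))) :
    ∃ a : A, f.IsRoot a ∧ a - a₀ ∈ I := by
  have hder : ∀ p : Polynomial A, MvPolynomial.pderiv (0 : Fin 1)
      (Polynomial.aeval (MvPolynomial.X (0 : Fin 1)) p) =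
      Polynomial.aeval (MvPolynomial.X (0 : Fin 1)) p.derivative := fun p => by
    rw [Derivation.map_aeval, MvPolynomial.pderiv_X_self, smul_eq_mul, mul_one]
  have hev : ∀ (p : Polynomial A) (b : Fin 1 → A),
      MvPolynomial.eval b (Polynomial.aeval (MvPolynomial.X (0 : Fin 1)) p) = p.eval (b 0) :=
    fun p b => by
      show MvPolynomial.aeval b _ = _
      rw [← Polynomial.aeval_algHom_apply, MvPolynomial.aeval_X, Polynomial.coe_aeval_eq_eval]
  obtain ⟨a, ha, haI⟩ := exists_zero_of_isUnit_jacDet h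
    (fun _ : Fin 1 => Polynomial.aeval (MvPolynomial.X (0 : Fin 1)) f) (fun _ => a₀)
    (fun _ => by rwa [hev]) (by
      rwa [jacDet, Matrix.det_fin_one, Matrix.of_apply, hder, hev])
  exact ⟨a 0, by rw [Polynomial.IsRoot, ← hev f a]; exact ha 0, haI 0⟩

end Groth.Agent.Hens
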