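import Groth.Agent.Lib.Hens.PairOps
import Groth.Agent.Lib.Hens.Semilocal
import Groth.Agent.Lib.Hens.System
import Mathlib.RingTheory.TensorProduct.Basic
import Mathlib.RingTheory.KrullDimension.Zero

/-!
Henselian local rings.
-/

open Polynomial IsLocalRing

namespace Groth.Agent.Hens

universe u v w

theorem henselianLocalRing_iff {A : Type u} [CommRing A] [IsLocalRing A] :
    HenselianLocalRing A ↔ HenselianRing A (maximalIdeal A) :=
  ⟨fun _ => inferInstance, fun h =>
    { is_henselian := fun f hf a₀ h₁ h₂ => h.is_henselian f hf a₀ h₁ (h₂.map _) }⟩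

theorem henselianRing_maximalIdeal (A : Type u) [CommRing A] [HenselianLocalRing A] :
    HenselianRing A (maximalIdeal A) := inferInstance

theorem henselianLocalRing_of_quotient (B : Type u) [CommRing B] (I : Ideal B)
    [hB : HenselianRing B I] [HenselianLocalRing (B ⧸ I)] : HenselianLocalRing B := by
  have := isLocalHom_of_le_jacobson_bot I hB.jac
  have : IsLocalRing B := (Ideal.Quotient.mk I).domain_isLocalRing
  have hI : I ≤ maximalIdeal B := le_maximalIdeal fun h =>
    (Ideal.Quotient.nontrivial_iff (I := I)).mp inferInstance h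
  refine henselianLocalRing_iff.mpr (henselianRing_trans hI hB ?_)
  have : (maximalIdeal B).map (Ideal.Quotient.mk I) = maximalIdeal (B ⧸ I) := by
    have := Ideal.IsMaximal.map_of_surjective_of_ker_le (m := maximalIdeal B)
      (f := Ideal.Quotient.mk I) Ideal.Quotient.mk_surjective (by rw [Ideal.mk_ker]; exact hI)
    exact eq_maximalIdeal this
  rw [this]
  infer_instance

theorem henselianLocalRing_of_isIntegral (R : Type u) [CommRing R] [HenselianLocalRing R]
    (S : Type u) [CommRing S] [IsLocalRing S] [Algebra R S] [Algebra.IsIntegral R S] :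
    HenselianLocalRing S := by
  have h := henselianRing_of_isIntegral (B := S) (henselianRing_maximalIdeal R)
  refine henselianLocalRing_iff.mpr (henselianRing_of_le (henselianRing_radical h) ?_)
  rw [Ideal.radical_eq_sInf]
  refine le_sInf fun P ⟨hP, hPp⟩ => ?_
  have : (P.comap (algebraMap R S)).IsPrime := hPp.comap _
  have hm : P.comap (algebraMap R S) = maximalIdeal R :=
    le_antisymm (le_maximalIdeal (Ideal.IsPrime.ne_top inferInstance))
      (Ideal.map_le_iff_le_comap.mp hP)
  have : P.IsMaximal := Ideal.isMaximal_of_isIntegral_of_isMaximal_comap (R := R) P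
    (by rw [hm]; infer_instance)
  exact (eq_maximalIdeal this).ge

theorem henselianLocalRing_of_dim_zero (R : Type u) [CommRing R] [IsLocalRing R]
    (h : ringKrullDim R = 0) : HenselianLocalRing R := by
  have : Ring.KrullDimLE 0 R := Ring.krullDimLE_iff.mpr h.le
  refine henselianLocalRing_iff.mpr (henselianRing_of_nilpotent fun x hx => ?_)
  rwa [Ring.KrullDimLE.isNilpotent_iff_mem_maximalIdeal]

theorem surjOn_idempotents_of_henselian {A : Type u} [CommRing A] [HenselianLocalRing A]
    {B : Type v} [CommRing B] [Algebra A B] [Algebra.IsIntegral A B] :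
    Set.SurjOn (Ideal.Quotient.mk ((maximalIdeal A).map (algebraMap A B)))
      {e : B | IsIdempotentElem e} {e | IsIdempotentElem e} :=
  (bijOn_idempotents (henselianRing_maximalIdeal A)).2.2

theorem bijective_pi_localization_of_henselian {A : Type u} [CommRing A] [HenselianLocalRing A]
    {B : Type v} [CommRing B] [Algebra A B] [Module.Finite A B] :
    Function.Bijective
      (RingHom.pi (fun n : MaximalSpectrum B => algebraMap B (Localization.AtPrime n.asIdeal))) :=
  have : Algebra.IsIntegral A B := Algebra.IsIntegral.of_finite A B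
  bijective_pi_localization_of_surjOn (surjOn_idempotents_of_henselian (A := A))

theorem exists_ringEquiv_pi_of_surjOn {A : Type u} [CommRing A] [IsLocalRing A]
    {B : Type u} [CommRing B] [Algebra A B] [Module.Finite A B]
    (h : Set.SurjOn (Ideal.Quotient.mk ((maximalIdeal A).map (algebraMap A B)))
      {e : B | IsIdempotentElem e} {e | IsIdempotentElem e}) :
    ∃ (ι : Type u) (_ : Fintype ι) (C : ι → Type u) (_ : ∀ i, CommRing (C i)),
      (∀ i, IsLocalRing (C i)) ∧ Nonempty (B ≃+* (∀ i, C i)) := by
  have := finite_maximalSpectrum (A := A) (B := B)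
  exact ⟨MaximalSpectrum B, Fintype.ofFinite _, fun n => Localization.AtPrime n.asIdeal,
    fun _ => inferInstance, fun _ => inferInstance,
    ⟨RingEquiv.ofBijective _ (bijective_pi_localization_of_surjOn h)⟩⟩

theorem surjOn_of_exists_ringEquiv_pi {A : Type u} [CommRing A] [IsLocalRing A]
    {B : Type u} [CommRing B] [Algebra A B] [Module.Finite A B]
    (h : ∃ (ι : Type u) (_ : Fintype ι) (C : ι → Type u) (_ : ∀ i, CommRing (C i)),
      (∀ i, IsLocalRing (C i)) ∧ Nonempty (B ≃+* (∀ i, C i))) :
    Set.SurjOn (Ideal.Quotient.mk ((maximalIdeal A).map (algebraMap A B)))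
      {e : B | IsIdempotentElem e} {e | IsIdempotentElem e} := by
  obtain ⟨ι, _, C, _, hC, ⟨e⟩⟩ := h
  exact surjOn_of_ringEquiv_pi (A := A) e

/-- A retraction for each standard étale algebra with a rational point implies henselian. -/
theorem henselianLocalRing_of_standardEtale_retraction (R : Type u) [CommRing R] [IsLocalRing R]
    (h : ∀ (P : StandardEtalePair R) (x : ResidueField R), P.HasMap x →
      Function.Surjective (algebraMap R (P.Ring ⧸ (maximalIdeal R).map (algebraMap R P.Ring))) →
      Nonempty (P.Ring →ₐ[R] R)) :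
    HenselianLocalRing R := by
  refine ⟨fun f hf a₀ h₀ h₁ => ?_⟩
  set k := ResidueField R
  set b : k := residue R a₀
  have hb : (f.map (residue R)).IsRoot b := by
    rw [IsRoot, eval_map, eval₂_at_apply]
    exact (residue_eq_zero_iff _).mpr h₀
  obtain ⟨q, hq⟩ := dvd_iff_isRoot.mpr hb
  obtain ⟨q', rfl⟩ := map_surjective (residue R) residue_surjective q
  have hqb : (q'.map (residue R)).eval b ≠ 0 := by
    have h2 : residue R (f.derivative.eval a₀) ≠ 0 := (residue_ne_zero_iff_isUnit _).mpr h₁
    rw [← eval₂_at_apply, ← eval_map, ← derivative_map, hq] at h2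
    simp [derivative_mul, b] at h2 ⊢
    exact (residue_ne_zero_iff_isUnit _).mpr h2
  let P : StandardEtalePair R := ⟨f, hf, derivative f * q', q', 0, 1, by ring⟩
  have hP : ∀ y : k, P.HasMap y ↔ y = b := by
    intro y
    simp only [StandardEtalePair.HasMap, P]
    rw [aeval_def, aeval_def, IsLocalRing.ResidueField.algebraMap_eq, ← eval_map, ← eval_map, hq,
      Polynomial.map_mul, eval_mul, eval_mul, eval_sub, eval_X, eval_C, ← derivative_map, hq]
    constructor
    · rintro ⟨h1, h2⟩
      rcases mul_eq_zero.mp h1 with h1 | h1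
      · exact sub_eq_zero.mp h1
      · exact absurd (by rw [h1, mul_zero]) h2.ne_zero
    · rintro rfl
      refine ⟨by simp, isUnit_iff_ne_zero.mpr (mul_ne_zero ?_ hqb)⟩
      simpa [derivative_mul] using hqb
  obtain ⟨τ⟩ := h P b ((hP b).mpr rfl) (by
    let F := P.Ring ⧸ (maximalIdeal R).map (algebraMap R P.Ring)
    let ρ : k →ₐ[R] F := Ideal.Quotient.liftₐ (maximalIdeal R) (Algebra.ofId R F) fun r hr => by
      show algebraMap R F r = 0
      rw [IsScalarTower.algebraMap_apply R P.Ring F, Ideal.Quotient.algebraMap_eq]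
      exact Ideal.Quotient.eq_zero_iff_mem.mpr (Ideal.mem_map_of_mem _ hr)
    let y : F := Ideal.Quotient.mk _ P.X
    have hy : P.HasMap y := P.hasMap_X.map (Ideal.Quotient.mkₐ R _)
    have hfac : f.map (algebraMap R F) = (X - C (ρ b)) * q'.map (algebraMap R F) := by
      have h1 := congrArg (Polynomial.map (ρ : k →+* F)) hq
      have h2 : (ρ : k →+* F).comp (residue R) = algebraMap R F := RingHom.ext fun r => ρ.commutes r
      rwa [Polynomial.map_mul, Polynomial.map_sub, map_X, map_C, Polynomial.map_map,
        Polynomial.map_map, h2] at h1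
    have hu : IsUnit (aeval y q') := by
      have := hy.2
      rw [map_mul] at this
      exact isUnit_of_mul_isUnit_right this
    have hyb : y = ρ b := by
      have := hy.1
      rw [aeval_def, ← eval_map, hfac, eval_mul, eval_sub, eval_X, eval_C, eval_map,
        ← aeval_def] at this
      exact sub_eq_zero.mp (hu.mul_left_eq_zero.mp this)
    have hext : Ideal.Quotient.mkₐ R _ = ρ.comp (P.lift b ((hP b).mpr rfl)) :=
      StandardEtalePair.hom_ext (by rw [AlgHom.comp_apply, StandardEtalePair.lift_X]; exact hyb)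
    intro z
    obtain ⟨w, rfl⟩ := Ideal.Quotient.mk_surjective z
    obtain ⟨r, hr⟩ := residue_surjective (P.lift b ((hP b).mpr rfl) w)
    refine ⟨r, ?_⟩
    rw [← ρ.commutes]
    exact (congrArg ρ hr).trans (congr($hext w)).symm)
  obtain ⟨h1, h2⟩ := P.hasMap_X.map τ
  refine ⟨τ P.X, by rwa [coe_aeval_eq_eval] at h1, ?_⟩
  rw [← residue_eq_zero_iff, map_sub, sub_eq_zero]
  refine (hP _).mp ?_
  exact StandardEtalePair.HasMap.map ⟨h1, h2⟩ (IsScalarTower.toAlgHom R R k)

theorem henselianLocalRing_of_etale_retraction (R : Type u) [CommRing R] [IsLocalRing R]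
    (h : ∀ (S : Type u) [CommRing S] [Algebra R S] [Algebra.Etale R S] (q : Ideal S) [q.IsPrime],
      q.LiesOver (maximalIdeal R) → Function.Surjective (algebraMap R q.ResidueField) →
      Nonempty (S →ₐ[R] R)) :
    HenselianLocalRing R := by
  refine henselianLocalRing_of_standardEtale_retraction R fun P x hx _ => ?_
  let σ : P.Ring →ₐ[R] ResidueField R := P.lift x hx
  have hσ : Function.Surjective σ := fun y => by
    obtain ⟨r, rfl⟩ := residue_surjective y
    exact ⟨algebraMap R _ r, σ.commutes r⟩
  let q : Ideal P.Ring := RingHom.ker σ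
  have hq : q.IsPrime := RingHom.ker_isPrime σ
  have hqo : q.LiesOver (maximalIdeal R) := by
    constructor
    ext r
    simp [q, Ideal.under, residue_eq_zero_iff]
  refine h P.Ring q hqo fun y => ?_
  have hq' : q.IsMaximal := RingHom.ker_isMaximal_of_surjective σ hσ
  obtain ⟨z, rfl⟩ := Ideal.algebraMap_residueField_surjective q y
  obtain ⟨r, hr⟩ := residue_surjective (σ z)
  refine ⟨r, ?_⟩
  rw [IsScalarTower.algebraMap_apply R P.Ring q.ResidueField, ← sub_eq_zero, ← map_sub,
    Ideal.algebraMap_residueField_eq_zero, RingHom.mem_ker, map_sub, AlgHom.commutes,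
    sub_eq_zero]
  exact hr

/-- Lifting maps out of étale algebras into henselian pairs. -/
theorem existsUnique_algHom_lift {R : Type v} [CommRing R] {T : Type u} [CommRing T] [Algebra R T]
    {J : Ideal T} (h : HenselianRing T J) {E : Type w} [CommRing E] [Algebra R E]
    [Algebra.Etale R E] (σ : E →ₐ[R] T ⧸ J) :
    ∃! τ : E →ₐ[R] T, (Ideal.Quotient.mkₐ R J).comp τ = σ := by
  let σ' : TensorProduct R T E →ₐ[T] T ⧸ J :=
    Algebra.TensorProduct.lift (Algebra.ofId T (T ⧸ J)) σ fun _ _ => .all _ _
  obtain ⟨τ, hτ⟩ := exists_lift_of_henselianRing h σ'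
  let τ₀ : E →ₐ[R] T := (τ.restrictScalars R).comp Algebra.TensorProduct.includeRight
  have hτ₀ : (Ideal.Quotient.mkₐ R J).comp τ₀ = σ := by
    ext x
    exact (congr($hτ (1 ⊗ₜ[R] x))).trans (by simp [σ'])
  refine ⟨τ₀, hτ₀, fun τ' hτ' => algHom_ext_of_le_jacobson (A := R) h.jac fun x => ?_⟩
  rw [← Ideal.Quotient.eq]
  exact (congr($hτ' x)).trans (congr($hτ₀ x)).symm

end Groth.Agent.Hens
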