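import Groth.Agent.Lib.Hens.Lift
import Mathlib.RingTheory.Polynomial.UniversalFactorizationRing
import Mathlib.RingTheory.IntegralClosure.Algebra.Ideal
import Mathlib.RingTheory.AdjoinRoot

/-!
Characterizations of henselian pairs: étale lifting, monic factor lifting, idempotent lifting.
-/

open Polynomial

namespace Groth.Agent.Hens

universe u v w

variable {A : Type u} [CommRing A] {I : Ideal A}

theorem etaleLift_of_henselianRing (h : HenselianRing A I) : EtaleLift I :=
  (RootPair.of_henselianRing h).etaleLift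

/-- A section modulo `I` of an étale algebra in any universe lifts. -/
theorem exists_lift_of_henselianRing (h : HenselianRing A I) {E : Type v} [CommRing E]
    [Algebra A E] [Algebra.Etale A E] (σ : E →ₐ[A] A ⧸ I) :
    ∃ τ : E →ₐ[A] A, (Ideal.Quotient.mkₐ A I).comp τ = σ := by
  obtain ⟨B, hB, G, hG, hspan⟩ := exists_finite_cover_of_etale (A := A) (E := E)
  refine (RootPair.of_henselianRing h).exists_lift_of_locally_finite B.val (fun g : G => g.1)
    (fun g => hG _ g.2) σ ?_
  rw [← Ideal.map_top σ, ← hspan, Ideal.map_span, ← Set.image_comp]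
  congr 1
  ext x
  simp

theorem jac_of_etaleLift (h : EtaleLift I) : I ≤ Ideal.jacobson ⊥ := by
  intro x hx
  rw [Ideal.mem_jacobson_bot]
  intro y
  let r := x * y + 1
  have hr : IsUnit (algebraMap A (A ⧸ I) r) := by
    simp [r, Ideal.Quotient.eq_zero_iff_mem.mpr hx]
  have : Algebra.Etale A (Localization.Away r) := Algebra.Etale.of_isLocalizationAway r
  let σ : Localization.Away r →ₐ[A] A ⧸ I :=
    IsLocalization.Away.liftAlgHom r (f := Algebra.ofId A (A ⧸ I)) hr
  obtain ⟨τ, -⟩ := h (Localization.Away r) σ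
  have := (IsLocalization.Away.algebraMap_isUnit (S := Localization.Away r) r).map τ
  rwa [AlgHom.commutes] at this

theorem henselianRing_of_etaleLift (h : EtaleLift I) : HenselianRing A I where
  jac := jac_of_etaleLift h
  is_henselian f hf a₀ h₀ h₁ := by
    let P : StandardEtalePair A := ⟨f, hf, derivative f, 1, 0, 1, by simp⟩
    have hP : P.HasMap (Ideal.Quotient.mk I a₀) := by
      refine ⟨?_, ?_⟩
      · rw [← Ideal.Quotient.algebraMap_eq, aeval_algebraMap_apply_eq_algebraMap_eval]
        exact Ideal.Quotient.eq_zero_iff_mem.mpr h₀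
      · rw [← Ideal.Quotient.algebraMap_eq, aeval_algebraMap_apply_eq_algebraMap_eval]
        exact h₁
    obtain ⟨τ, hτ⟩ := h P.Ring (P.lift _ hP)
    refine ⟨τ P.X, ?_, ?_⟩
    · have := (P.hasMap_X.map τ).1
      rwa [coe_aeval_eq_eval] at this
    · rw [← Ideal.Quotient.eq]
      simpa using congr($hτ P.X)

/-- Two maps out of a formally unramified algebra that agree modulo an ideal in the Jacobson
radical are equal. -/
theorem algHom_ext_of_le_jacobson {E : Type v} {T : Type w} [CommRing E] [CommRing T]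
    [Algebra A E] [Algebra A T] [Algebra.FormallyUnramified A E] [Algebra.EssFiniteType A E]
    {J : Ideal T} (hJ : J ≤ Ideal.jacobson ⊥) {f g : E →ₐ[A] T}
    (hfg : ∀ x, f x - g x ∈ J) : f = g := by
  let N : Ideal T := Ideal.span (Set.range fun x => f x - g x)
  have hNJ : N ≤ J := Ideal.span_le.mpr (by rintro _ ⟨x, rfl⟩; exact hfg x)
  have hN2 : N ≤ N * N := by
    rw [Ideal.span_le]
    rintro _ ⟨x, rfl⟩
    let Q : Ideal (T ⧸ N * N) := N.map (Ideal.Quotient.mk _)
    have hQ : Q ^ 2 = ⊥ := by
      rw [sq, ← Ideal.map_mul, Ideal.map_quotient_self]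
    have := Algebra.FormallyUnramified.comp_injective (R := A) (A := E) Q hQ
      (a₁ := (Ideal.Quotient.mkₐ A _).comp f) (a₂ := (Ideal.Quotient.mkₐ A _).comp g) (by
        ext y
        simp only [AlgHom.comp_apply, Ideal.Quotient.mkₐ_eq_mk, Ideal.Quotient.eq]
        rw [← map_sub]
        exact Ideal.mem_map_of_mem _ (Ideal.subset_span ⟨y, rfl⟩))
    exact Ideal.Quotient.eq.mp congr($this x)
  suffices hN : N = ⊥ by
    ext x
    have : f x - g x ∈ N := Ideal.subset_span ⟨x, rfl⟩
    rw [hN, Ideal.mem_bot] at this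
    exact sub_eq_zero.mp this
  have hfg' : N.FG := by
    classical
    let s := Algebra.EssFiniteType.finset A E
    have : N = Ideal.span (s.image fun x => f x - g x : Set T) := by
      refine le_antisymm ?_ (Ideal.span_mono ?_)
      · let M := Ideal.span (s.image fun x => f x - g x : Set T)
        have : (Ideal.Quotient.mkₐ A M).comp f = (Ideal.Quotient.mkₐ A M).comp g :=
          Algebra.EssFiniteType.algHom_ext _ _ _ fun x hx => by
            simp only [AlgHom.comp_apply, Ideal.Quotient.mkₐ_eq_mk, Ideal.Quotient.eq]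
            exact Ideal.subset_span (Finset.mem_coe.mpr (Finset.mem_image_of_mem _ hx))
        rw [Ideal.span_le]
        rintro _ ⟨x, rfl⟩
        exact Ideal.Quotient.eq.mp congr($this x)
      · intro y hy
        obtain ⟨x, -, rfl⟩ := Finset.mem_image.mp (Finset.mem_coe.mp hy)
        exact ⟨x, rfl⟩
    exact this ▸ ⟨_, rfl⟩
  exact Submodule.eq_bot_of_le_smul_of_le_jacobson_bot N N hfg'
    (by rwa [Ideal.smul_eq_mul]) (hNJ.trans hJ)

/-- A lift of a section of an étale algebra over a henselian pair is unique. -/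
theorem existsUnique_lift_of_henselianRing (h : HenselianRing A I) {E : Type v} [CommRing E]
    [Algebra A E] [Algebra.Etale A E] (σ : E →ₐ[A] A ⧸ I) :
    ∃! τ : E →ₐ[A] A, (Ideal.Quotient.mkₐ A I).comp τ = σ := by
  obtain ⟨τ, hτ⟩ := exists_lift_of_henselianRing h σ
  refine ⟨τ, hτ, fun τ' hτ' => algHom_ext_of_le_jacobson h.jac fun x => ?_⟩
  rw [← Ideal.Quotient.eq]
  exact (congr($hτ' x)).trans (congr($hτ x)).symm

/-- Coprime monic factorizations lift. -/
theorem exists_factor_lift (h : HenselianRing A I) (f : A[X]) (hf : f.Monic)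
    (g₀ h₀ : (A ⧸ I)[X]) (hg : g₀.Monic) (hh : h₀.Monic) (hc : IsCoprime g₀ h₀)
    (heq : f.map (Ideal.Quotient.mk I) = g₀ * h₀) :
    ∃ g h' : A[X], g.Monic ∧ h'.Monic ∧ f = g * h' ∧ IsCoprime g h' ∧
      g.map (Ideal.Quotient.mk I) = g₀ ∧ h'.map (Ideal.Quotient.mk I) = h₀ := by
  cases subsingleton_or_nontrivial (A ⧸ I) with
  | inl hs =>
    exact ⟨f, 1, hf, monic_one, (mul_one f).symm, isCoprime_one_right, Subsingleton.elim _ _,
      Subsingleton.elim _ _⟩
  | inr hn =>
    have : Nontrivial A := (Ideal.Quotient.mk I).domain_nontrivial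
    have hdeg : f.natDegree = g₀.natDegree + h₀.natDegree := by
      rw [← hf.natDegree_map (Ideal.Quotient.mk I), heq, hg.natDegree_mul hh]
    let p : MonicDegreeEq A f.natDegree := .mk f hf rfl
    let σ : UniversalCoprimeFactorizationRing g₀.natDegree h₀.natDegree hdeg p →ₐ[A] A ⧸ I :=
      (UniversalCoprimeFactorizationRing.homEquiv _ _ _ hdeg p).symm
        ⟨(.mk g₀ hg rfl, .mk h₀ hh rfl), heq.symm, hc⟩
    obtain ⟨τ, hτ⟩ := exists_lift_of_henselianRing h σ
    let q := UniversalCoprimeFactorizationRing.homEquiv A _ _ hdeg p τ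
    refine ⟨q.1.1.1, q.1.2.1, q.1.1.monic, q.1.2.monic, ?_, q.2.2, ?_, ?_⟩
    · rw [q.2.1, Algebra.algebraMap_self, Polynomial.map_id]; rfl
    · have := UniversalCoprimeFactorizationRing.homEquiv_comp_fst A _ _ hdeg p τ
        (Ideal.Quotient.mkₐ A I)
      rw [hτ] at this
      simp only [σ, Equiv.apply_symm_apply] at this
      exact (congrArg Subtype.val this).symm
    · have := UniversalCoprimeFactorizationRing.homEquiv_comp_snd A _ _ hdeg p τ
        (Ideal.Quotient.mkₐ A I)
      rw [hτ] at this
      simp only [σ, Equiv.apply_symm_apply] at this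
      exact (congrArg Subtype.val this).symm

theorem map_le_jacobson_of_isIntegral (hI : I ≤ Ideal.jacobson ⊥) {B : Type v} [CommRing B]
    [Algebra A B] [Algebra.IsIntegral A B] : I.map (algebraMap A B) ≤ Ideal.jacobson ⊥ := by
  refine le_sInf fun m hm => ?_
  have hm : m.IsMaximal := hm.2
  rw [Ideal.map_le_iff_le_comap]
  exact hI.trans (sInf_le ⟨bot_le, Ideal.isMaximal_comap_of_isIntegral_of_isMaximal m⟩)

/-- Idempotents congruent modulo an ideal in the Jacobson radical are equal. -/
theorem idempotent_eq_of_sub_mem {B : Type v} [CommRing B] {J : Ideal B}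
    (hJ : J ≤ Ideal.jacobson ⊥) {e e' : B} (he : IsIdempotentElem e) (he' : IsIdempotentElem e')
    (h : e - e' ∈ J) : e = e' := by
  have h3 : (e - e') * (1 - (e - e') * (e - e')) = 0 := by
    linear_combination (-e - 1 + 3 * e') * he.eq + (e' + 1 - 3 * e) * he'.eq
  have hu : IsUnit (1 - (e - e') * (e - e')) := by
    have := Ideal.mem_jacobson_bot.mp (hJ h) (-(e - e'))
    rwa [mul_neg, neg_add_eq_sub] at this
  exact sub_eq_zero.mp (hu.mul_left_eq_zero.mp h3)

theorem injOn_idempotents (hI : I ≤ Ideal.jacobson ⊥) {B : Type v} [CommRing B] [Algebra A B]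
    [Algebra.IsIntegral A B] :
    Set.InjOn (Ideal.Quotient.mk (I.map (algebraMap A B))) {e : B | IsIdempotentElem e} :=
  fun _ he _ he' h => idempotent_eq_of_sub_mem (map_le_jacobson_of_isIntegral hI) he he'
    (Ideal.Quotient.eq.mp h)

/-- Idempotents lift along henselian pairs in integral algebras. -/
theorem exists_idempotent_lift (h : HenselianRing A I) {B : Type v} [CommRing B] [Algebra A B]
    [Algebra.IsIntegral A B] (b : B) (hb : b * b - b ∈ I.map (algebraMap A B)) :
    ∃ e : B, IsIdempotentElem e ∧ e - b ∈ I.map (algebraMap A B) := by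
  obtain ⟨q, hq, hq0, hqI'⟩ := exists_monic_aeval_eq_zero_forall_mem_pow_of_mem_map hb
  have hqI : ∀ i, i ≠ q.natDegree → q.coeff i ∈ I := fun i hi => by
    rcases lt_or_gt_of_ne hi with h | h
    · exact Ideal.pow_le_self (by omega) (hqI' i)
    · rw [coeff_eq_zero_of_natDegree_lt h]; exact zero_mem _
  cases subsingleton_or_nontrivial B with
  | inl hs => exact ⟨b, Subsingleton.elim _ _, by simp⟩
  | inr hn =>
  have : Nontrivial A := (algebraMap A B).domain_nontrivial
  set N := q.natDegree with hN
  have hqmap : q.map (Ideal.Quotient.mk I) = X ^ N := by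
    ext i
    rw [coeff_map, coeff_X_pow]
    split_ifs with hi
    · rw [hi, hN, hq.coeff_natDegree, map_one]
    · exact Ideal.Quotient.eq_zero_iff_mem.mpr (hqI i hi)
  have hN0 : N ≠ 0 := fun h0 => by
    rw [hq.natDegree_eq_zero.mp h0, map_one] at hq0
    exact one_ne_zero hq0
  let p : A[X] := q.comp (X * X - X)
  have hp : p.Monic := by
    refine hq.comp ?_ ?_
    · exact Monic.sub_of_left (monic_X.mul monic_X) (by simp; norm_num)
    · rw [natDegree_sub_eq_left_of_natDegree_lt] <;> simp
  have hpmap : p.map (Ideal.Quotient.mk I) = X ^ N * (X - C 1) ^ N := by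
    rw [← mul_pow]
    simp only [p, map_comp, hqmap, Polynomial.map_sub, Polynomial.map_mul, map_X, X_pow_comp,
      C_1]
    ring
  obtain ⟨G, H, -, -, hGH, ⟨u, v, huv⟩, hG, hH⟩ := exists_factor_lift h p hp _ _
    (monic_X.pow N) ((monic_X_sub_C 1).pow N)
    (IsCoprime.pow ⟨1, -1, by rw [C_1]; ring⟩) hpmap
  have hpb : aeval b p = 0 := by simpa [p, aeval_comp] using hq0
  have h0 : aeval b G * aeval b H = 0 := by rw [← map_mul, ← hGH, hpb]
  have h1 := congrArg (aeval b) huv
  simp only [map_add, map_mul, map_one] at h1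
  refine ⟨aeval b u * aeval b G, ?_, ?_⟩
  · show _ * _ = _
    linear_combination (aeval b u * aeval b G) * h1 - (aeval b u * aeval b v) * h0
  · set π := Ideal.Quotient.mk (I.map (algebraMap A B))
    have hπ : π.comp (algebraMap A B) =
        (Ideal.Quotient.lift I (π.comp (algebraMap A B))
          (fun z hz => Ideal.Quotient.eq_zero_iff_mem.mpr (Ideal.mem_map_of_mem _ hz))).comp
          (Ideal.Quotient.mk I) := RingHom.ext fun _ => rfl
    have hbb : IsIdempotentElem (π b) := by
      rw [IsIdempotentElem, ← map_mul]; exact Ideal.Quotient.eq.mpr hb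
    have eG : π (aeval b G) = π b := by
      rw [aeval_def, hom_eval₂, hπ, ← eval₂_map, hG, eval₂_X_pow]
      exact hbb.pow_eq hN0
    have eH : π (aeval b H) * π b = 0 := by
      rw [aeval_def, hom_eval₂, hπ, ← eval₂_map, hH, eval₂_pow, eval₂_sub, eval₂_X, C_1, eval₂_one,
        ← Nat.succ_pred hN0, pow_succ, mul_assoc, sub_mul, hbb.eq, one_mul, sub_self, mul_zero]
    rw [← Ideal.Quotient.eq]
    have h2 := congrArg π h1
    simp only [map_add, map_mul, map_one] at h2 ⊢
    rw [eG] at h2 ⊢
    linear_combination π b * h2 - π (aeval b u) * hbb.eq - π (aeval b v) * eH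

theorem bijOn_idempotents (h : HenselianRing A I) {B : Type v} [CommRing B] [Algebra A B]
    [Algebra.IsIntegral A B] :
    Set.BijOn (Ideal.Quotient.mk (I.map (algebraMap A B)))
      {e : B | IsIdempotentElem e} {e | IsIdempotentElem e} := by
  refine ⟨fun e he => he.map _, injOn_idempotents h.jac, ?_⟩
  intro x hx
  obtain ⟨b, rfl⟩ := Ideal.Quotient.mk_surjective x
  obtain ⟨e, he, heb⟩ := exists_idempotent_lift h b
    (Ideal.Quotient.eq.mp ((map_mul _ b b).trans hx))
  exact ⟨e, he, Ideal.Quotient.eq.mpr heb⟩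

/-- A root from an idempotent of `AdjoinRoot f` isolating `a₀` modulo `I`. -/
theorem exists_root_of_idempotent (hjac : I ≤ Ideal.jacobson ⊥) {f : A[X]} (hf : f.Monic) {a₀ : A}
    (h₀ : f.eval a₀ ∈ I) {e : AdjoinRoot f} (he : IsIdempotentElem e)
    {g : A[X]} (heg : e - aeval (AdjoinRoot.root f) g ∈ I.map (algebraMap A (AdjoinRoot f)))
    (hg1 : g.eval a₀ - 1 ∈ I)
    (hgr : (AdjoinRoot.root f - algebraMap A _ a₀) * aeval (AdjoinRoot.root f) g ∈
      I.map (algebraMap A (AdjoinRoot f))) :
    ∃ a : A, f.IsRoot a ∧ a - a₀ ∈ I := by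
  have := hf.finite_adjoinRoot
  let B := AdjoinRoot f
  set IB := I.map (algebraMap A B)
  set r : B := AdjoinRoot.root f
  set t : B := aeval r g
  have he : e * e = e := he
  have het : e - t ∈ IB := heg
  have hcyc : ∀ x : B, ∃ c : A, t * x - algebraMap A B c * t ∈ IB := fun x => by
    obtain ⟨p, rfl⟩ := AdjoinRoot.mk_surjective x
    obtain ⟨k, hk⟩ := X_sub_C_dvd_sub_C_eval (a := a₀) (p := p)
    refine ⟨p.eval a₀, ?_⟩
    have := congrArg (aeval r) hk
    simp only [map_sub, map_mul, aeval_X, aeval_C] at this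
    rw [show aeval r p = AdjoinRoot.mk f p from AdjoinRoot.aeval_eq p] at this
    have : t * AdjoinRoot.mk f p - algebraMap A B (p.eval a₀) * t =
        ((r - algebraMap A B a₀) * t) * aeval r k := by
      linear_combination t * this
    rw [this]
    exact Ideal.mul_mem_right _ _ hgr
  let L : B →ₗ[A] B := LinearMap.mulLeft A e
  have hL : LinearMap.range L ≤ Submodule.span A {e} := by
    refine Submodule.le_of_le_smul_of_le_jacobson_bot
      (by rw [LinearMap.range_eq_map]; exact Module.Finite.fg_top.map _) hjac ?_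
    rintro _ ⟨x, rfl⟩
    obtain ⟨c, hc⟩ := hcyc x
    refine Submodule.mem_sup.mpr ⟨c • e,
      Submodule.smul_mem _ _ (Submodule.mem_span_singleton_self e), e * x - c • e, ?_, by simp [L]⟩
    have : e * x - c • e ∈ IB := by
      rw [Algebra.smul_def]
      have : e * x - algebraMap A B c * e =
          (t * x - algebraMap A B c * t) + (e - t) * (x - algebraMap A B c) := by ring
      rw [this]
      exact add_mem hc (Ideal.mul_mem_right _ _ het)
    have hy : e * x - c • e = L (e * x - c • e) := by
      simp only [L, LinearMap.mulLeft_apply, mul_sub, mul_smul_comm, ← mul_assoc, he]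
    rw [hy, LinearMap.range_eq_map, ← Submodule.map_smul'']
    refine Submodule.mem_map_of_mem ?_
    rw [Ideal.smul_top_eq_map]; exact this
  obtain ⟨a, ha⟩ := Submodule.mem_span_singleton.mp (hL ⟨r, rfl⟩)
  have ha : algebraMap A B a * e = e * r := by rw [← Algebra.smul_def, ha]; rfl
  -- evaluation at `a₀`
  let φ : B →ₗ[A] A := (Polynomial.leval a₀).comp (AdjoinRoot.modByMonicHom hf)
  let σ : B →ₐ[A] A ⧸ I := AdjoinRoot.liftAlgHom f (Algebra.ofId A (A ⧸ I)) (Ideal.Quotient.mk I a₀)
    (by
      show eval₂ (Ideal.Quotient.mk I) _ f = 0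
      rw [eval₂_at_apply, Ideal.Quotient.eq_zero_iff_mem]; exact h₀)
  have hφσ : ∀ x, Ideal.Quotient.mk I (φ x) = σ x := by
    intro x
    obtain ⟨p, rfl⟩ := AdjoinRoot.mk_surjective x
    have h := Polynomial.modByMonic_add_div p f
    simp only [φ, σ, LinearMap.comp_apply, leval_apply]
    rw [show AdjoinRoot.modByMonicHom hf (AdjoinRoot.mk f p) = p %ₘ f from
      AdjoinRoot.modByMonicHom_mk hf p, AdjoinRoot.liftAlgHom_mk]
    show _ = eval₂ (Ideal.Quotient.mk I) _ p
    conv_rhs => rw [← h]
    rw [eval₂_add, eval₂_mul, eval₂_at_apply, eval₂_at_apply, eval₂_at_apply,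
      Ideal.Quotient.eq_zero_iff_mem.mpr h₀, zero_mul, add_zero]
  have hσI : ∀ x ∈ IB, σ x = 0 := by
    intro x hx
    refine (Ideal.map_le_iff_le_comap (K := RingHom.ker σ)).mpr ?_ hx
    intro c hc
    simp [Ideal.Quotient.eq_zero_iff_mem.mpr hc]
  have hσr : σ r = Ideal.Quotient.mk I a₀ := AdjoinRoot.liftAlgHom_root _ _ _ _
  have hσt : σ t = 1 := by
    simp only [t, ← aeval_algHom_apply, hσr]
    rw [← Ideal.Quotient.algebraMap_eq, aeval_algebraMap_apply_eq_algebraMap_eval,
      Ideal.Quotient.algebraMap_eq, ← map_one (Ideal.Quotient.mk I), Ideal.Quotient.eq]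
    exact hg1
  have hσe : σ e = 1 := by
    rw [← hσt, ← sub_eq_zero, ← map_sub]; exact hσI _ het
  have hu : IsUnit (φ e) := by
    have := isLocalHom_of_le_jacobson_bot I hjac
    apply IsUnit.of_map (Ideal.Quotient.mk I)
    rw [hφσ, hσe]; exact isUnit_one
  have key : ∀ c : A, algebraMap A B c * e = 0 → c = 0 := fun c hc => by
    have := congrArg φ hc
    rw [← Algebra.smul_def, map_smul, map_zero, smul_eq_mul] at this
    exact hu.mul_left_eq_zero.mp this
  refine ⟨a, key _ ?_, ?_⟩
  · have : ∀ p : A[X], algebraMap A B (p.eval a) * e = aeval r p * e := by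
      intro p
      obtain ⟨k, hk⟩ := X_sub_C_dvd_sub_C_eval (a := a) (p := p)
      have := congrArg (aeval r) hk
      simp only [map_sub, map_mul, aeval_X, aeval_C] at this
      linear_combination (-e) * this + (aeval r k) * ha
    rw [this, AdjoinRoot.aeval_eq, AdjoinRoot.mk_self, zero_mul]
  · rw [← Ideal.Quotient.eq]
    have := congrArg σ ha
    simpa [hσe, hσr] using this

/-- Idempotent lifting in finite algebras characterizes henselian pairs. -/
theorem henselianRing_of_bijOn
    (h : ∀ (B : Type u) [CommRing B] [Algebra A B], Module.Finite A B →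
      Set.BijOn (Ideal.Quotient.mk (I.map (algebraMap A B)))
        {e : B | IsIdempotentElem e} {e | IsIdempotentElem e}) :
    HenselianRing A I := by
  have hjac : I ≤ Ideal.jacobson ⊥ := by
    intro x hx
    rw [Ideal.mem_jacobson_bot]
    intro y
    let B := A ⧸ Ideal.span {x * y + 1}
    have hI : (1 : B) ∈ I.map (algebraMap A B) := by
      have h1 : Ideal.Quotient.mk (Ideal.span {x * y + 1}) (x * y + 1) = 0 :=
        Ideal.Quotient.eq_zero_iff_mem.mpr (Ideal.mem_span_singleton_self _)
      rw [map_add, map_one, add_eq_zero_iff_eq_neg] at h1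
      rw [← neg_neg (1 : B), ← h1]
      exact neg_mem (Ideal.mem_map_of_mem (algebraMap A B) (I.mul_mem_right y hx))
    have := (h B inferInstance).2.1 (show IsIdempotentElem (1 : B) from .one)
      (show IsIdempotentElem (0 : B) from .zero) (Ideal.Quotient.eq.mpr (by simpa using hI))
    have hs : Ideal.Quotient.mk (Ideal.span {x * y + 1}) 1 = 0 := this
    rw [Ideal.Quotient.eq_zero_iff_mem, Ideal.mem_span_singleton] at hs
    exact isUnit_of_dvd_one hs
  refine ⟨hjac, fun f hf a₀ h₀ h₁ => ?_⟩
  have := hf.finite_adjoinRoot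
  let B := AdjoinRoot f
  set IB := I.map (algebraMap A B)
  set r : B := AdjoinRoot.root f
  obtain ⟨q, hq⟩ := X_sub_C_dvd_sub_C_eval (a := a₀) (p := f)
  have hqa : q.eval a₀ = f.derivative.eval a₀ := by
    have := congrArg (fun p => (derivative p).eval a₀) hq
    simpa [derivative_mul] using this.symm
  obtain ⟨w, hw⟩ := Ideal.Quotient.mk_surjective (h₁.unit⁻¹ : (A ⧸ I)ˣ).1
  have hw' : w * q.eval a₀ - 1 ∈ I := by
    rw [← Ideal.Quotient.eq, map_mul, map_one, hw, hqa]
    exact h₁.val_inv_mul
  have h0 : (r - algebraMap A B a₀) * aeval r q ∈ IB := by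
    have := congrArg (aeval r) hq
    simp only [map_sub, map_mul, aeval_X, aeval_C] at this
    rw [← this, AdjoinRoot.aeval_eq, AdjoinRoot.mk_self, zero_sub]
    exact neg_mem (Ideal.mem_map_of_mem _ h₀)
  set t : B := algebraMap A B w * aeval r q
  have ht : t * t - t ∈ IB := by
    obtain ⟨k, hk⟩ := X_sub_C_dvd_sub_C_eval (a := a₀) (p := q)
    have := congrArg (aeval r) hk
    simp only [map_sub, map_mul, aeval_X, aeval_C] at this
    have : t * t - t = ((r - algebraMap A B a₀) * aeval r q) *
        (algebraMap A B w * algebraMap A B w * aeval r k) + t * algebraMap A B (w * q.eval a₀ - 1) := by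
      rw [map_sub, map_mul, map_one]
      linear_combination (t * algebraMap A B w) * this
    rw [this]
    exact add_mem (Ideal.mul_mem_right _ _ h0) (Ideal.mul_mem_left _ _ (Ideal.mem_map_of_mem _ hw'))
  obtain ⟨e, he, het⟩ := (h B this).2.2
    (show IsIdempotentElem (Ideal.Quotient.mk IB t) by
      rw [IsIdempotentElem, ← map_mul]; exact Ideal.Quotient.eq.mpr ht)
  have het : e - t ∈ IB := Ideal.Quotient.eq.mp het
  refine exists_root_of_idempotent hjac hf h₀ (g := C w * q) he ?_ ?_ ?_
  · rwa [map_mul, aeval_C]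
  · rwa [eval_mul, eval_C]
  · rw [map_mul, aeval_C]
    have : (r - algebraMap A B a₀) * (algebraMap A B w * aeval r q) =
        algebraMap A B w * ((r - algebraMap A B a₀) * aeval r q) := by ring
    rw [this]
    exact Ideal.mul_mem_left _ _ h0

theorem henselianRing_of_isIntegral (h : HenselianRing A I) {B : Type u} [CommRing B]
    [Algebra A B] [Algebra.IsIntegral A B] : HenselianRing B (I.map (algebraMap A B)) := by
  refine henselianRing_of_bijOn fun C _ _ hC => ?_
  let _ : Algebra A C := ((algebraMap B C).comp (algebraMap A B)).toAlgebra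
  have : IsScalarTower A B C := .of_algebraMap_eq' rfl
  have : Algebra.IsIntegral B C := .of_finite B C
  have : Algebra.IsIntegral A C := Algebra.IsIntegral.trans B
  rw [Ideal.map_map, ← IsScalarTower.algebraMap_eq]
  exact bijOn_idempotents h

end Groth.Agent.Hens
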