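import Groth.Agent.Lib.Hens.Pair
import Groth.Agent.Lib.Hens.Local
import Groth.Prelude.Def_EssEt
import Mathlib.FieldTheory.PurelyInseparable.Basic
import Mathlib.FieldTheory.IsSepClosed
import Mathlib.RingTheory.Unramified.LocalRing

/-!
Essentially étale local algebras: lifting into henselian local rings.
-/

open IsLocalRing

open scoped TensorProduct

namespace Groth.Agent.Hens

universe u

theorem isSepClosed_of_isAlgebraic (k l : Type u) [Field k] [Field l] [Algebra k l]
    [Algebra.IsAlgebraic k l] [IsSepClosed k] : IsSepClosed l := by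
  let L := AlgebraicClosure l
  have : Algebra.IsAlgebraic k L := Algebra.IsAlgebraic.trans k l L
  have : IsPurelyInseparable k L := by
    refine isPurelyInseparable_iff.mpr fun x => ⟨Algebra.IsIntegral.isIntegral x, fun hs => ?_⟩
    exact minpoly.degree_eq_one_iff.mp (IsSepClosed.degree_eq_one_of_irreducible (k := k)
      (minpoly.irreducible (Algebra.IsIntegral.isIntegral x)) hs)
  have : IsPurelyInseparable l L := IsPurelyInseparable.tower_top k l L
  refine IsSepClosed.of_exists_root _ fun p hm hp hs => ?_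
  obtain ⟨x, hx⟩ := IsAlgClosed.exists_eval₂_eq_zero (algebraMap l L) p
    (Polynomial.degree_pos_of_irreducible hp).ne'
  have hsx : IsSeparable l x := hs.of_dvd (minpoly.dvd l x hx)
  obtain ⟨y, rfl⟩ := (isPurelyInseparable_iff.mp ‹IsPurelyInseparable l L› x).2 hsx
  refine ⟨y, ?_⟩
  rw [Polynomial.eval₂_at_apply] at hx
  exact (map_eq_zero _).mp hx

section EssEtale

variable {A A' : Type u} [CommRing A] [IsLocalRing A] [CommRing A'] [IsLocalRing A'] [Algebra A A']

theorem essEtale_formallyEtale (h : EGA4loc.IsEssentiallyEtale A A') :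
    Algebra.FormallyEtale A A' ∧ Algebra.EssFiniteType A A' := by
  obtain ⟨C, _, _, q, _, hC, -, ⟨e⟩⟩ := h
  have : Algebra.FormallyEtale C (Localization.AtPrime q) :=
    Algebra.FormallyEtale.of_isLocalization q.primeCompl
  have : Algebra.FormallyEtale A (Localization.AtPrime q) := Algebra.FormallyEtale.comp A C _
  exact ⟨Algebra.FormallyEtale.of_equiv e.symm,
    Algebra.EssFiniteType.of_surjective e.symm.toAlgHom e.symm.surjective⟩

theorem algHom_eq_of_residue_eq (h : EGA4loc.IsEssentiallyEtale A A') {B : Type u} [CommRing B]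
    [IsLocalRing B] [Algebra A B] {ψ ψ' : A' →ₐ[A] B}
    (hr : ∀ x, residue B (ψ x) = residue B (ψ' x)) : ψ = ψ' := by
  obtain ⟨_, _⟩ := essEtale_formallyEtale h
  exact algHom_ext_of_le_jacobson (maximalIdeal_le_jacobson (⊥ : Ideal B)) fun x =>
    (residue_eq_zero_iff _).mp (by rw [map_sub, hr x, sub_self])

theorem existsUnique_lift_of_essEtale (h : EGA4loc.IsEssentiallyEtale A A') {B : Type u}
    [CommRing B] [HenselianLocalRing B] [Algebra A B] (α : A' →ₐ[A] ResidueField B) :
    ∃! ψ : A' →ₐ[A] B, ∀ x, residue B (ψ x) = α x := by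
  have h' := h
  obtain ⟨C, _, _, q, _, hC, -, ⟨e⟩⟩ := h'
  let ι : C →ₐ[A] A' := e.symm.toAlgHom.comp (IsScalarTower.toAlgHom A C (Localization.AtPrime q))
  obtain ⟨φ₀, hφ₀, -⟩ := existsUnique_algHom_lift (henselianRing_maximalIdeal B) (α.comp ι)
  have hφ₀' : ∀ c, residue B (φ₀ c) = α (ι c) := fun c => congr($hφ₀ c)
  have hu : ∀ c : q.primeCompl, IsUnit (φ₀ (c : C)) := fun c => by
    rw [← residue_ne_zero_iff_isUnit, hφ₀']
    have hcu : IsUnit (ι c) :=
      (IsLocalization.map_units (M := q.primeCompl) (Localization.AtPrime q) c).map e.symm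
    exact (hcu.map α).ne_zero
  let φ : Localization.AtPrime q →ₐ[A] B :=
    IsLocalization.liftAlgHom (M := q.primeCompl) (f := φ₀) hu
  have hφ : ((IsScalarTower.toAlgHom A B (ResidueField B)).comp φ) = α.comp e.symm.toAlgHom := by
    refine IsLocalization.algHom_ext q.primeCompl ?_
    ext c
    show residue B (φ (algebraMap C _ c)) = α (e.symm (algebraMap C _ c))
    rw [show φ (algebraMap C _ c) = φ₀ c from IsLocalization.lift_eq _ c]
    exact hφ₀' c
  refine ⟨φ.comp e.toAlgHom, fun x => ?_, fun ψ hψ => ?_⟩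
  · have := congr($hφ (e x))
    show residue B (φ (e x)) = α x
    exact (this : residue B (φ (e x)) = α (e.symm (e x))).trans (congrArg α (e.symm_apply_apply x))
  · refine algHom_eq_of_residue_eq h fun x => (hψ x).trans ?_
    have := congr($hφ (e x))
    exact (congrArg α (e.symm_apply_apply x)).symm.trans
      (this : residue B (φ (e x)) = α (e.symm (e x))).symm

theorem isLocalHom_of_residue {B : Type u} [CommRing B] [IsLocalRing B] (g : A' →+* B)
    (α : ResidueField A' →+* ResidueField B) (h : ∀ x, residue B (g x) = α (residue A' x)) :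
    IsLocalHom g := by
  refine ⟨fun x hx => ?_⟩
  have := (hx.map (residue B)).ne_zero
  rw [h, ne_eq, map_eq_zero] at this
  exact (residue_ne_zero_iff_isUnit x).mp this

end EssEtale

theorem localHom_factors_uniquely (A A' : Type u) [CommRing A] [IsLocalRing A]
    [CommRing A'] [IsLocalRing A'] [Algebra A A'] [IsLocalHom (algebraMap A A')]
    (hA' : EGA4loc.IsEssentiallyEtale A A')
    (B : Type u) [CommRing B] [HenselianLocalRing B] (ψ : A →+* B) [IsLocalHom ψ]
    (α : ResidueField A' →+* ResidueField B)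
    (hα : α.comp (ResidueField.map (algebraMap A A')) = ResidueField.map ψ) :
    ∃! ψ' : A' →+* B, IsLocalHom ψ' ∧ ψ'.comp (algebraMap A A') = ψ ∧
      ∀ x : A', residue B (ψ' x) = α (residue A' x) := by
  let _ := ψ.toAlgebra
  let α' : A' →ₐ[A] ResidueField B :=
    { α.comp (residue A') with commutes' := fun a => congr($hα (residue A a)) }
  obtain ⟨g, hg, hu⟩ := existsUnique_lift_of_essEtale hA' α'
  refine ⟨g.toRingHom, ⟨isLocalHom_of_residue _ α hg, g.comp_algebraMap, hg⟩,
    fun g' hg' => ?_⟩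
  exact congrArg AlgHom.toRingHom (hu { g' with commutes' := fun r => congr($(hg'.2.1) r) } hg'.2.2)

theorem residue_algHom_eq {A A₁ B : Type u} [CommRing A] [IsLocalRing A] [CommRing A₁]
    [IsLocalRing A₁] [Algebra A A₁] [IsLocalHom (algebraMap A A₁)]
    [CommRing B] [IsLocalRing B]
    [Algebra A B] [IsLocalHom (algebraMap A B)] (φ : A₁ →+* B) [IsLocalHom φ]
    (hφ : φ.comp (algebraMap A A₁) = algebraMap A B) (x : A₁) (a : ResidueField A)
    (ha : ResidueField.map (algebraMap A A₁) a = residue A₁ x) :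
    residue B (φ x) = ResidueField.map (algebraMap A B) a := by
  obtain ⟨a, rfl⟩ := residue_surjective a
  rw [ResidueField.map_residue] at ha ⊢
  rw [← ResidueField.map_residue φ, ← ha, ResidueField.map_residue, ← hφ]
  rfl

theorem algHom_isLocalHom {A A₁ A₂ : Type u} [CommRing A] [IsLocalRing A] [CommRing A₁]
    [IsLocalRing A₁] [Algebra A A₁] [IsLocalHom (algebraMap A A₁)]
    [CommRing A₂] [IsLocalRing A₂] [Algebra A A₂] [IsLocalHom (algebraMap A A₂)]
    (h₁ : EGA4loc.IsEssentiallyEtale A A₁) (φ : A₁ →ₐ[A] A₂) : IsLocalHom φ.toRingHom := by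
  obtain ⟨_, _⟩ := essEtale_formallyEtale h₁
  refine ((local_hom_TFAE φ.toRingHom).out 2 0 rfl rfl).mp ?_
  rw [← Algebra.FormallyUnramified.map_maximalIdeal (R := A) (S := A₁), Ideal.map_map,
    AlgHom.toRingHom_eq_coe, AlgHom.comp_algebraMap]
  exact ((local_hom_TFAE (algebraMap A A₂)).out 0 2 rfl rfl).mp inferInstance

theorem subsingleton_algHom_of_strictly {A A₁ A₂ : Type u} [CommRing A] [IsLocalRing A]
    [CommRing A₁] [IsLocalRing A₁] [Algebra A A₁] [IsLocalHom (algebraMap A A₁)]
    [CommRing A₂] [IsLocalRing A₂] [Algebra A A₂] [IsLocalHom (algebraMap A A₂)]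
    (h₁ : EGA4loc.IsStrictlyEssentiallyEtale A A₁) : Subsingleton (A₁ →ₐ[A] A₂) := by
  refine ⟨fun φ φ' => algHom_eq_of_residue_eq h₁.1 fun x => ?_⟩
  have := algHom_isLocalHom h₁.1 φ
  have := algHom_isLocalHom h₁.1 φ'
  obtain ⟨a, ha⟩ := h₁.2.2 (residue A₁ x)
  exact (residue_algHom_eq φ.toRingHom φ.comp_algebraMap x a ha).trans
    (residue_algHom_eq φ'.toRingHom φ'.comp_algebraMap x a ha).symm

theorem exists_strictly_dominating (A A₁ A₂ : Type u) [CommRing A] [IsLocalRing A]
    [CommRing A₁] [IsLocalRing A₁] [Algebra A A₁] [IsLocalHom (algebraMap A A₁)]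
    [CommRing A₂] [IsLocalRing A₂] [Algebra A A₂] [IsLocalHom (algebraMap A A₂)]
    (h₁ : EGA4loc.IsStrictlyEssentiallyEtale A A₁) (h₂ : EGA4loc.IsStrictlyEssentiallyEtale A A₂) :
    ∃ (A₃ : Type u) (_ : CommRing A₃) (_ : IsLocalRing A₃) (_ : Algebra A A₃)
      (_ : IsLocalHom (algebraMap A A₃)),
      EGA4loc.IsStrictlyEssentiallyEtale A A₃ ∧ Nonempty (A₁ →ₐ[A] A₃) ∧
        Nonempty (A₂ →ₐ[A] A₃) := by
  obtain ⟨⟨C₁, _, _, q₁, _, hC₁, -, ⟨e₁⟩⟩, hb₁⟩ := h₁
  obtain ⟨⟨C₂, _, _, q₂, _, hC₂, -, ⟨e₂⟩⟩, hb₂⟩ := h₂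
  let k := ResidueField A
  let r₁ : ResidueField A₁ →+* k := (RingEquiv.ofBijective _ hb₁).symm.toRingHom
  let r₂ : ResidueField A₂ →+* k := (RingEquiv.ofBijective _ hb₂).symm.toRingHom
  let ρ₁ : A₁ →ₐ[A] k := { r₁.comp (residue A₁) with
    commutes' := fun a => (RingEquiv.ofBijective _ hb₁).symm_apply_apply (residue A a) }
  let ρ₂ : A₂ →ₐ[A] k := { r₂.comp (residue A₂) with
    commutes' := fun a => (RingEquiv.ofBijective _ hb₂).symm_apply_apply (residue A a) }
  let ι₁ : C₁ →ₐ[A] A₁ := e₁.symm.toAlgHom.comp (IsScalarTower.toAlgHom A C₁ (Localization.AtPrime q₁))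
  let ι₂ : C₂ →ₐ[A] A₂ := e₂.symm.toAlgHom.comp (IsScalarTower.toAlgHom A C₂ (Localization.AtPrime q₂))
  let σ : C₁ ⊗[A] C₂ →ₐ[A] k :=
    Algebra.TensorProduct.lift (ρ₁.comp ι₁) (ρ₂.comp ι₂) fun _ _ => .all _ _
  have : Algebra.Etale A (C₁ ⊗[A] C₂) := Algebra.Etale.comp A C₁ _
  let q : Ideal (C₁ ⊗[A] C₂) := RingHom.ker σ
  have hq : q.IsPrime := RingHom.ker_isPrime σ
  have hqA : q.comap (algebraMap A (C₁ ⊗[A] C₂)) = maximalIdeal A := by
    ext a
    show σ (algebraMap A _ a) = 0 ↔ _
    rw [σ.commutes]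
    exact residue_eq_zero_iff a
  have : IsLocalHom (algebraMap A (Localization.AtPrime q)) := by
    refine ⟨fun a ha => ?_⟩
    rw [IsScalarTower.algebraMap_apply A (C₁ ⊗[A] C₂),
      IsLocalization.AtPrime.isUnit_to_map_iff (Localization.AtPrime q) q] at ha
    by_contra hn
    exact ha (hqA.ge hn : a ∈ q.comap (algebraMap A (C₁ ⊗[A] C₂)))
  refine ⟨Localization.AtPrime q, inferInstance, inferInstance, inferInstance, inferInstance,
    ⟨⟨C₁ ⊗[A] C₂, inferInstance, inferInstance, q, hq, inferInstance, hqA, ⟨AlgEquiv.refl⟩⟩,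
      RingHom.injective _, ?_⟩, ?_, ?_⟩
  · have key : ∀ c : C₁ ⊗[A] C₂, ∃ a : A, residue (Localization.AtPrime q) (algebraMap _ _ c) =
        ResidueField.map (algebraMap A (Localization.AtPrime q)) (residue A a) := fun c => by
      obtain ⟨a, ha⟩ := residue_surjective (σ c)
      refine ⟨a, ?_⟩
      rw [ResidueField.map_residue, ← sub_eq_zero, ← map_sub, residue_eq_zero_iff,
        IsScalarTower.algebraMap_apply A (C₁ ⊗[A] C₂), ← map_sub,
        IsLocalization.AtPrime.to_map_mem_maximal_iff (Localization.AtPrime q) q]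
      show σ (c - algebraMap A _ a) = 0
      rw [map_sub, σ.commutes, sub_eq_zero]
      exact ha.symm
    intro x
    obtain ⟨x, rfl⟩ := residue_surjective x
    obtain ⟨c, t, rfl⟩ := IsLocalization.exists_mk'_eq q.primeCompl x
    obtain ⟨a, ha⟩ := key c
    obtain ⟨b, hb⟩ := key t
    have hb0 : residue A b ≠ 0 := fun h0 => by
      rw [h0, map_zero, residue_eq_zero_iff,
        IsLocalization.AtPrime.to_map_mem_maximal_iff (Localization.AtPrime q) q] at hb
      exact t.2 hb
    refine ⟨residue A a / residue A b, ?_⟩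
    rw [map_div₀, ← ha, ← hb, div_eq_iff
      (((IsLocalization.map_units (Localization.AtPrime q) t).map (residue _)).ne_zero), ← map_mul,
      IsLocalization.mk'_spec]
  · have hu : ∀ c : q₁.primeCompl, IsUnit (((IsScalarTower.toAlgHom A (C₁ ⊗[A] C₂)
        (Localization.AtPrime q)).comp Algebra.TensorProduct.includeLeft) (c : C₁)) := fun c => by
      refine IsLocalization.map_units (M := q.primeCompl) (Localization.AtPrime q) ⟨_, ?_⟩
      show σ ((c : C₁) ⊗ₜ 1) ≠ 0
      have hcu : IsUnit (ι₁ c) :=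
        (IsLocalization.map_units (M := q₁.primeCompl) (Localization.AtPrime q₁) c).map e₁.symm
      simpa [σ] using (hcu.map ρ₁).ne_zero
    exact ⟨(IsLocalization.liftAlgHom (M := q₁.primeCompl) hu).comp e₁.toAlgHom⟩
  · have hu : ∀ c : q₂.primeCompl, IsUnit (((IsScalarTower.toAlgHom A (C₁ ⊗[A] C₂)
        (Localization.AtPrime q)).comp Algebra.TensorProduct.includeRight) (c : C₂)) := fun c => by
      refine IsLocalization.map_units (M := q.primeCompl) (Localization.AtPrime q) ⟨_, ?_⟩
      show σ (1 ⊗ₜ (c : C₂)) ≠ 0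
      have hcu : IsUnit (ι₂ c) :=
        (IsLocalization.map_units (M := q₂.primeCompl) (Localization.AtPrime q₂) c).map e₂.symm
      simpa [σ] using (hcu.map ρ₂).ne_zero
    exact ⟨(IsLocalization.liftAlgHom (M := q₂.primeCompl) hu).comp e₂.toAlgHom⟩

theorem localHom_factors_uniquely_strictly (A A' : Type u) [CommRing A] [IsLocalRing A]
    [CommRing A'] [IsLocalRing A'] [Algebra A A'] [IsLocalHom (algebraMap A A')]
    (hA' : EGA4loc.IsStrictlyEssentiallyEtale A A')
    (B : Type u) [CommRing B] [HenselianLocalRing B] (ψ : A →+* B) [IsLocalHom ψ] :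
    ∃! ψ' : A' →+* B, IsLocalHom ψ' ∧ ψ'.comp (algebraMap A A') = ψ := by
  let r : ResidueField A' →+* ResidueField A := (RingEquiv.ofBijective _ hA'.2).symm.toRingHom
  let α : ResidueField A' →+* ResidueField B := (ResidueField.map ψ).comp r
  have hα : α.comp (ResidueField.map (algebraMap A A')) = ResidueField.map ψ := RingHom.ext fun a =>
    congrArg (ResidueField.map ψ) ((RingEquiv.ofBijective _ hA'.2).symm_apply_apply a)
  obtain ⟨g, ⟨hl, hg, hr⟩, hu⟩ := localHom_factors_uniquely A A' hA'.1 B ψ α hα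
  refine ⟨g, ⟨hl, hg⟩, fun g' hg' => hu g' ⟨hg'.1, hg'.2, fun x => ?_⟩⟩
  let _ := ψ.toAlgebra
  have : IsLocalHom (algebraMap A B) := ‹IsLocalHom ψ›
  have := hg'.1
  exact residue_algHom_eq g' hg'.2 x (r (residue A' x))
    ((RingEquiv.ofBijective _ hA'.2).apply_symm_apply _)

theorem isStrictlyHenselian_of_finite (A B : Type u) [CommRing A] [HenselianLocalRing A]
    [IsSepClosed (ResidueField A)] [CommRing B] [IsLocalRing B] [Algebra A B] [Module.Finite A B]
    [IsLocalHom (algebraMap A B)] :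
    ∃ _ : HenselianLocalRing B, IsSepClosed (ResidueField B) := by
  have : Algebra.IsIntegral A B := Algebra.IsIntegral.of_finite A B
  refine ⟨henselianLocalRing_of_isIntegral A B, ?_⟩
  have : Algebra.IsAlgebraic (ResidueField A) (ResidueField B) := inferInstance
  exact isSepClosed_of_isAlgebraic (ResidueField A) (ResidueField B)

end Groth.Agent.Hens
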