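import Groth.Agent.Lib.Hens.Local
import Mathlib.RingTheory.Unramified.LocalStructure

/-!
Finite type algebras over henselian local rings.
-/

open IsLocalRing

namespace Groth.Agent.Hens

universe u v

theorem finite_setOf_quasiFiniteAt {R : Type u} [CommRing R] (p : Ideal R) [p.IsPrime]
    (S : Type v) [CommRing S] [Algebra R S] [Algebra.FiniteType R S] :
    {q : PrimeSpectrum S | q.asIdeal.LiesOver p ∧ Algebra.QuasiFiniteAt R q.asIdeal}.Finite := by
  let e := PrimeSpectrum.preimageHomeomorphFiber R S ⟨p, inferInstance⟩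
  have : IsNoetherianRing (p.Fiber S) := Algebra.FiniteType.isNoetherianRing p.ResidueField _
  let T : Set (PrimeSpectrum (p.Fiber S)) := {x | IsOpen {x}}
  have hT : DiscreteTopology T := discreteTopology_iff_isOpen_singleton.mpr fun x => by
    have h := (x.2 : IsOpen {x.1}).preimage (continuous_subtype_val (p := (· ∈ T)))
    convert! h using 1
    ext y
    simp [Subtype.ext_iff]
  have hfin : T.Finite := by
    have : CompactSpace T := inferInstance
    exact Set.finite_coe_iff.mp (finite_of_compact_of_discrete (X := T))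
  let g : PrimeSpectrum (p.Fiber S) → PrimeSpectrum S := fun x => (e.symm x).1
  refine (hfin.image g).subset fun q ⟨hq, hqf⟩ => ?_
  refine ⟨e ⟨q, PrimeSpectrum.ext hq.over.symm⟩, ?_, by simp [g]⟩
  have : Algebra.QuasiFiniteAt p.ResidueField (e ⟨q, PrimeSpectrum.ext hq.over.symm⟩).asIdeal :=
    .baseChange q.asIdeal _
      congr($(e.symm_apply_apply ⟨q, PrimeSpectrum.ext hq.over.symm⟩).1.1).symm
  exact (Algebra.QuasiFiniteAt.isClopen_singleton (R := p.ResidueField) _).isOpen

theorem exists_finite_subalgebra_ge {R : Type u} [CommRing R] {S : Type v} [CommRing S]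
    [Algebra R S] {ι : Type*} [Finite ι] (B : ι → Subalgebra R S)
    (hB : ∀ i, (B i).toSubmodule.FG) :
    ∃ C : Subalgebra R S, Module.Finite R C ∧ ∀ i, B i ≤ C := by
  classical
  choose T hT using hB
  refine ⟨Algebra.adjoin R (⋃ i, (T i : Set S)), ?_, fun i x hx => ?_⟩
  · refine Module.Finite.iff_fg.mpr (fg_adjoin_of_finite
      (Set.finite_iUnion fun i => (T i).finite_toSet) fun x hx => ?_)
    obtain ⟨i, hx⟩ := Set.mem_iUnion.mp hx
    have hxS : x ∈ (B i).toSubmodule := hT i ▸ Submodule.subset_span hx
    exact IsIntegral.of_mem_of_fg (B i) ⟨T i, hT i⟩ x hxS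
  · have hle : Submodule.span R (T i : Set S) ≤
        (Algebra.adjoin R (⋃ i, (T i : Set S))).toSubmodule :=
      Submodule.span_le.mpr fun y hy => Algebra.subset_adjoin (Set.mem_iUnion.mpr ⟨i, hy⟩)
    rw [hT i] at hle
    exact hle hx

theorem exists_pow_mul_mem_of_bijective_awayMap {B E : Type*} [CommRing B] [CommRing E]
    (φ : B →+* E) (g : B) (hg : Function.Surjective (Localization.awayMap φ g)) (y : E) :
    ∃ (n : ℕ) (b : B), φ g ^ n * y = φ b := by
  obtain ⟨z, hz⟩ := hg (algebraMap E _ y)
  obtain ⟨b, ⟨_, n, rfl⟩, rfl⟩ := IsLocalization.exists_mk'_eq (.powers g) z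
  rw [Localization.awayMap, IsLocalization.Away.map, IsLocalization.map_mk',
    IsLocalization.mk'_eq_iff_eq_mul, ← map_mul,
    IsLocalization.eq_iff_exists (.powers (φ g))] at hz
  obtain ⟨⟨_, m, rfl⟩, hm⟩ := hz
  refine ⟨m + n, g ^ m * b, ?_⟩
  simp only [map_mul, map_pow] at hm ⊢
  linear_combination -hm

/-- The finite part of a finite type algebra over a henselian local ring. -/
theorem exists_finite_split (R : Type u) [CommRing R] [HenselianLocalRing R]
    (S : Type v) [CommRing S] [Algebra R S] [Algebra.FiniteType R S] :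
    ∃ e : S, IsIdempotentElem e ∧ Module.Finite R (S ⧸ Ideal.span ({1 - e} : Set S)) ∧
      ∀ (q : Ideal S) [q.IsPrime], q.LiesOver (maximalIdeal R) → Algebra.QuasiFiniteAt R q →
        e ∉ q := by
  classical
  let Q : Set (PrimeSpectrum S) :=
    {q | q.asIdeal.LiesOver (maximalIdeal R) ∧ Algebra.QuasiFiniteAt R q.asIdeal}
  have : Finite Q := (finite_setOf_quasiFiniteAt (maximalIdeal R) S).to_subtype
  choose B hB r hr hbij using fun q : Q =>
    have := q.2.2
    Algebra.QuasiFiniteAt.exists_fg_and_exists_notMem_and_awayMap_bijective (R := R) q.1.asIdeal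
  obtain ⟨S', hfin, hle⟩ := exists_finite_subalgebra_ge B hB
  have : Algebra.IsIntegral R S' := Algebra.IsIntegral.of_finite R S'
  have hmax : ∀ q : Q, (q.1.asIdeal.comap S'.val.toRingHom).IsMaximal := fun q =>
    Ideal.isMaximal_of_isIntegral_of_isMaximal_comap (R := R) _ (by
      have h1 : (q.1.asIdeal.comap S'.val.toRingHom).comap (algebraMap R S') = maximalIdeal R := by
        rw [Ideal.comap_comap]
        exact q.2.1.over.symm
      rw [h1]; infer_instance)
  let n : Q → MaximalSpectrum S' := fun q => ⟨_, hmax q⟩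
  obtain ⟨e', he'⟩ := (bijective_pi_localization_of_henselian (A := R) (B := S')).2
    fun k => if k ∈ Set.range n then 1 else 0
  have he'i : IsIdempotentElem e' := by
    apply (bijective_pi_localization_of_henselian (A := R) (B := S')).1
    rw [map_mul, he']
    funext k
    simp only [Pi.mul_apply]
    split_ifs <;> simp
  have hn : ∀ k, k ∈ Set.range n → e' ∉ k.asIdeal := fun k hk h => by
    have h1 := congrFun he' k
    rw [RingHom.pi_apply, if_pos hk] at h1
    rw [← IsLocalization.AtPrime.to_map_mem_maximal_iff (Localization.AtPrime k.asIdeal) k.asIdeal,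
      h1] at h
    exact (maximalIdeal _).ne_top_iff_one.mp (Ideal.IsPrime.ne_top inferInstance) h
  have hn' : ∀ k, k ∉ Set.range n → e' ∈ k.asIdeal := fun k hk => by
    have h1 := congrFun he' k
    rw [RingHom.pi_apply, if_neg hk] at h1
    rw [← IsLocalization.AtPrime.to_map_mem_maximal_iff (Localization.AtPrime k.asIdeal) k.asIdeal,
      h1]
    exact zero_mem _
  refine ⟨S'.val e', he'i.map _, ?_, fun q hq h₁ h₂ h₃ => hn _ ⟨⟨⟨q, hq⟩, h₁, h₂⟩, rfl⟩ h₃⟩
  let C' := S' ⧸ Ideal.span ({1 - e'} : Set S')
  let C := S ⧸ Ideal.span ({1 - S'.val e'} : Set S)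
  let f : C' →ₐ[R] C := Ideal.Quotient.liftₐ _ ((Ideal.Quotient.mkₐ R _).comp S'.val) fun a ha => by
    obtain ⟨y, rfl⟩ := Ideal.mem_span_singleton'.mp ha
    refine Ideal.Quotient.eq_zero_iff_mem.mpr (Ideal.mem_span_singleton'.mpr ⟨S'.val y, ?_⟩)
    show S'.val y * (1 - S'.val e') = S'.val (y * (1 - e'))
    simp only [map_mul, map_sub, map_one]
  have hf : Function.Surjective f := by
    refine surjective_of_span_eq_top f.toRingHom
      (fun q : Q => Ideal.Quotient.mk _ (⟨r q, hle q (r q).2⟩ : S')) ?_ fun q y => ?_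
    · by_contra hne
      obtain ⟨M, hM, hle'⟩ := Ideal.exists_le_maximal _ hne
      have hMc : (M.comap (Ideal.Quotient.mk (Ideal.span ({1 - e'} : Set S')))).IsMaximal :=
        Ideal.comap_isMaximal_of_surjective _ Ideal.Quotient.mk_surjective
      have h1 : (⟨_, hMc⟩ : MaximalSpectrum S') ∈ Set.range n := by
        by_contra h
        have h2 := hn' _ h
        have h3 : 1 - e' ∈ M.comap (Ideal.Quotient.mk (Ideal.span ({1 - e'} : Set S'))) := by
          rw [Ideal.mem_comap, Ideal.Quotient.eq_zero_iff_mem.mpr (Ideal.mem_span_singleton_self _)]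
          exact zero_mem _
        exact hMc.ne_top ((Ideal.eq_top_iff_one _).mpr (by simpa using add_mem h3 h2))
      obtain ⟨q, hq⟩ := h1
      have : (⟨r q, hle q (r q).2⟩ : S') ∈ (n q).asIdeal := by
        rw [hq]; exact hle' (Ideal.subset_span ⟨q, rfl⟩)
      exact hr q this
    · obtain ⟨y, rfl⟩ := Ideal.Quotient.mk_surjective y
      obtain ⟨m, b, hb⟩ := exists_pow_mul_mem_of_bijective_awayMap _ (r q) (hbij q).2 y
      refine ⟨m, Ideal.Quotient.mk _ ⟨b, hle q b.2⟩, ?_⟩
      exact (congrArg (Ideal.Quotient.mk _) hb.symm).trans (by rw [map_mul, map_pow]; rfl)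
  have : Module.Finite R C' := inferInstance
  exact Module.Finite.of_surjective f.toLinearMap hf

theorem quasiFiniteAt_comap_quotient_of_idempotent {R : Type u} [CommRing R] {S : Type v}
    [CommRing S] [Algebra R S] {e : S} (he : IsIdempotentElem e)
    (q : Ideal (S ⧸ Ideal.span ({e} : Set S))) [q.IsPrime] [Algebra.QuasiFiniteAt R q] :
    Algebra.QuasiFiniteAt R (q.comap (Ideal.Quotient.mk _)) := by
  let C := S ⧸ Ideal.span ({e} : Set S)
  let q' : Ideal S := q.comap (Ideal.Quotient.mk (Ideal.span ({e} : Set S)))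
  let f : Localization.AtPrime q' →ₐ[R] Localization.AtPrime q :=
    ⟨Localization.localRingHom q' q (Ideal.Quotient.mk _) rfl, fun r => by
      show Localization.localRingHom q' q _ rfl (algebraMap R (Localization.AtPrime q') r) = _
      rw [IsScalarTower.algebraMap_apply R S (Localization.AtPrime q'),
        Localization.localRingHom_to_map, IsScalarTower.algebraMap_apply R C (Localization.AtPrime q)]
      rfl⟩
  have hf : Function.Bijective f := by
    refine ⟨(injective_iff_map_eq_zero f).mpr fun x hx => ?_,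
      RingHom.surjectiveOnStalks_of_surjective Ideal.Quotient.mk_surjective q inferInstance⟩
    obtain ⟨s, t, rfl⟩ := IsLocalization.exists_mk'_eq q'.primeCompl x
    change Localization.localRingHom q' q _ rfl _ = 0 at hx
    rw [Localization.localRingHom_mk', IsLocalization.mk'_eq_zero_iff] at hx
    obtain ⟨⟨w, hw⟩, hws⟩ := hx
    obtain ⟨w, rfl⟩ := Ideal.Quotient.mk_surjective w
    rw [← map_mul, Ideal.Quotient.eq_zero_iff_mem, Ideal.mem_span_singleton'] at hws
    obtain ⟨y, hy⟩ := hws
    refine (IsLocalization.mk'_eq_zero_iff ..).mpr ⟨⟨(1 - e) * w, ?_⟩, ?_⟩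
    · intro h
      rw [SetLike.mem_coe, Ideal.mem_comap, map_mul, map_sub, map_one,
        Ideal.Quotient.eq_zero_iff_mem.mpr (Ideal.mem_span_singleton_self _), sub_zero, one_mul] at h
      exact hw h
    · show (1 - e) * w * s = 0
      linear_combination (1 - e) * hy.symm - y * he.eq
  exact (Algebra.QuasiFinite.iff_of_algEquiv (AlgEquiv.ofBijective f hf)).mpr inferInstance

theorem finite_localization_atPrime {R : Type u} [CommRing R] [HenselianLocalRing R] {S : Type v}
    [CommRing S] [Algebra R S] [Algebra.FiniteType R S] (q : Ideal S) [q.IsPrime]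
    (hq : q.LiesOver (maximalIdeal R)) (hqf : Algebra.QuasiFiniteAt R q) :
    Module.Finite R (Localization.AtPrime q) := by
  obtain ⟨e, he, hfin, hne⟩ := exists_finite_split R S
  have heq : e ∉ q := hne q hq hqf
  let C := S ⧸ Ideal.span ({1 - e} : Set S)
  let f : C →ₐ[R] Localization.AtPrime q :=
    Ideal.Quotient.liftₐ _ (IsScalarTower.toAlgHom R S _) fun a ha => by
      obtain ⟨y, rfl⟩ := Ideal.mem_span_singleton'.mp ha
      have h1 := (IsIdempotentElem.iff_eq_one_of_isUnit
        (IsLocalization.map_units (M := q.primeCompl) (Localization.AtPrime q) ⟨e, heq⟩)).mp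
          (he.map _)
      simp [h1]
  refine Module.Finite.of_surjective f.toLinearMap fun x => ?_
  obtain ⟨s, ⟨t, ht⟩, rfl⟩ := IsLocalization.exists_mk'_eq q.primeCompl x
  have : Algebra.IsIntegral R C := Algebra.IsIntegral.of_finite R C
  let qC : Ideal C := q.map (Ideal.Quotient.mk _)
  have hker : RingHom.ker (Ideal.Quotient.mk (Ideal.span ({1 - e} : Set S))) ≤ q := by
    rw [Ideal.mk_ker, Ideal.span_le, Set.singleton_subset_iff]
    exact (Ideal.IsPrime.mem_or_mem inferInstance
      (show (1 - e) * e ∈ q by rw [sub_mul, one_mul, he.eq, sub_self]; exact zero_mem _)).resolve_right heq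
  have hqC : qC.IsPrime := Ideal.map_isPrime_of_surjective Ideal.Quotient.mk_surjective hker
  have hc : qC.comap (Ideal.Quotient.mk _) = q := by
    rw [Ideal.comap_map_of_surjective' _ Ideal.Quotient.mk_surjective, sup_eq_left]; exact hker
  have hmax : qC.IsMaximal := Ideal.isMaximal_of_isIntegral_of_isMaximal_comap (R := R) _ (by
    have h1 : qC.comap (algebraMap R C) = maximalIdeal R := by
      rw [IsScalarTower.algebraMap_eq R S C, ← Ideal.comap_comap, Ideal.Quotient.algebraMap_eq, hc]
      exact hq.over.symm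
    rw [h1]; infer_instance)
  have htC : Ideal.Quotient.mk _ t ∉ qC := fun h => ht (hc ▸ h)
  obtain ⟨c, hc'⟩ := ((Function.surjective_eval (⟨qC, hmax⟩ : MaximalSpectrum C)).comp
    (bijective_pi_localization_of_henselian (A := R) (B := C)).2)
    (IsLocalization.mk' (M := qC.primeCompl) _ (Ideal.Quotient.mk _ s) ⟨_, htC⟩)
  simp only [Function.comp_apply, Function.eval, RingHom.pi_apply] at hc'
  rw [IsLocalization.eq_mk'_iff_mul_eq, ← map_mul, IsLocalization.eq_iff_exists qC.primeCompl] at hc'
  obtain ⟨⟨w, hw⟩, hwc⟩ := hc'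
  obtain ⟨w, rfl⟩ := Ideal.Quotient.mk_surjective w
  have hwq : w ∉ q := fun h => hw (Ideal.mem_map_of_mem _ h)
  refine ⟨c, ?_⟩
  show f c = _
  rw [IsLocalization.eq_mk'_iff_mul_eq]
  have h1 := congrArg f hwc
  have hfmk : ∀ z, f (Ideal.Quotient.mk _ z) = algebraMap S (Localization.AtPrime q) z := fun z => rfl
  simp only [map_mul, hfmk] at h1
  exact (IsLocalization.map_units (M := q.primeCompl) (Localization.AtPrime q) ⟨w, hwq⟩).mul_left_cancel h1

/-- If a standard étale algebra with a rational point has a finite part containing that point,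
it has a retraction. -/
theorem nonempty_retraction_of_finite {R : Type u} [CommRing R] [IsLocalRing R] {T : Type v}
    [CommRing T] [Algebra R T] [Algebra.Etale R T] [Module.Finite R T] [Nontrivial T]
    (h : Function.Surjective (algebraMap R (T ⧸ (maximalIdeal R).map (algebraMap R T)))) :
    Function.Bijective (algebraMap R T) := by
  have hs : Function.Surjective (algebraMap R T) := by
    have : LinearMap.range (Algebra.linearMap R T) = ⊤ := by
      refine top_le_iff.mp (Submodule.le_of_le_smul_of_le_jacobson_bot Module.Finite.fg_top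
        (maximalIdeal_le_jacobson _) ?_)
      intro t _
      obtain ⟨r, hr⟩ := h (Ideal.Quotient.mk _ t)
      refine Submodule.mem_sup.mpr ⟨algebraMap R T r, ⟨r, rfl⟩, t - algebraMap R T r, ?_, by ring⟩
      rw [Ideal.smul_top_eq_map, Submodule.restrictScalars_mem, ← Ideal.Quotient.eq]
      exact hr.symm
    exact LinearMap.range_eq_top.mp this
  refine ⟨(RingHom.injective_iff_ker_eq_bot _).mpr ?_, hs⟩
  have : Algebra.Etale R (R ⧸ RingHom.ker (algebraMap R T)) :=
    Algebra.Etale.of_equiv (Ideal.quotientKerAlgEquivOfSurjective (f := Algebra.ofId R T) hs).symm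
  exact eq_bot_of_etale_quotient
    ((le_maximalIdeal (RingHom.ker_ne_top (algebraMap R T))).trans (maximalIdeal_le_jacobson _))

theorem henselianLocalRing_of_finiteType_split (R : Type u) [CommRing R] [IsLocalRing R]
    (h : ∀ (S : Type u) [CommRing S] [Algebra R S] [Algebra.FiniteType R S],
      ∃ e : S, IsIdempotentElem e ∧ Module.Finite R (S ⧸ Ideal.span ({1 - e} : Set S)) ∧
        ∀ (q : Ideal (S ⧸ Ideal.span ({e} : Set S))) [q.IsPrime],
          q.LiesOver (maximalIdeal R) → ¬ Algebra.QuasiFiniteAt R q) :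
    HenselianLocalRing R := by
  refine henselianLocalRing_of_standardEtale_retraction R fun P x hx hsurj => ?_
  obtain ⟨e, he, hfin, hno⟩ := h P.Ring
  let σ : P.Ring →ₐ[R] ResidueField R := P.lift x hx
  have hσe : σ e = 1 := by
    rcases IsIdempotentElem.iff_eq_zero_or_one.mp (he.map σ) with h0 | h1
    · exfalso
      let σe : P.Ring ⧸ Ideal.span ({e} : Set P.Ring) →ₐ[R] ResidueField R :=
        Ideal.Quotient.liftₐ _ σ fun a ha => by
          obtain ⟨y, rfl⟩ := Ideal.mem_span_singleton'.mp ha
          simp [h0]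
      have hq : (RingHom.ker σe).IsPrime := RingHom.ker_isPrime σe
      refine hno (RingHom.ker σe) ⟨?_⟩ inferInstance
      ext r
      simp [Ideal.under, residue_eq_zero_iff]
    · exact h1
  let T := P.Ring ⧸ Ideal.span ({1 - e} : Set P.Ring)
  have : Nontrivial T := by
    refine Ideal.Quotient.nontrivial_iff.mpr fun htop => ?_
    obtain ⟨y, hy⟩ := Ideal.mem_span_singleton'.mp (htop ▸ Submodule.mem_top : (1 : P.Ring) ∈ Ideal.span {1 - e})
    simpa [hσe] using congrArg σ hy
  have : Algebra.Etale R T := by
    have : IsLocalization.Away e T := IsLocalization.away_of_isIdempotentElem he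
      (by rw [Ideal.Quotient.algebraMap_eq, Ideal.mk_ker]) Ideal.Quotient.mk_surjective
    have := Algebra.Etale.of_isLocalizationAway (R := P.Ring) (A := T) e
    exact Algebra.Etale.comp R P.Ring T
  have hbij := nonempty_retraction_of_finite (R := R) (T := T) fun z => by
    obtain ⟨t, rfl⟩ := Ideal.Quotient.mk_surjective z
    obtain ⟨w, rfl⟩ := Ideal.Quotient.mk_surjective t
    obtain ⟨r, hr⟩ := hsurj (Ideal.Quotient.mk _ w)
    refine ⟨r, ?_⟩
    rw [IsScalarTower.algebraMap_apply R P.Ring, Ideal.Quotient.algebraMap_eq, Ideal.Quotient.eq] at hr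
    rw [IsScalarTower.algebraMap_apply R T, Ideal.Quotient.algebraMap_eq, Ideal.Quotient.eq,
      IsScalarTower.algebraMap_apply R P.Ring T, Ideal.Quotient.algebraMap_eq, ← map_sub,
      IsScalarTower.algebraMap_eq R P.Ring T, Ideal.Quotient.algebraMap_eq, ← Ideal.map_map]
    exact Ideal.mem_map_of_mem _ hr
  exact ⟨(AlgEquiv.ofBijective (Algebra.ofId R T) hbij).symm.toAlgHom.comp (Ideal.Quotient.mkₐ R _)⟩

theorem henselianLocalRing_of_finite_localization (R : Type u) [CommRing R] [IsLocalRing R]
    (h : ∀ (S : Type u) [CommRing S] [Algebra R S] [Algebra.FiniteType R S] (q : Ideal S) [q.IsPrime],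
        q.LiesOver (maximalIdeal R) → Algebra.QuasiFiniteAt R q →
          Module.Finite R (Localization.AtPrime q)) :
    HenselianLocalRing R := by
  refine henselianLocalRing_of_standardEtale_retraction R fun P x hx hsurj => ?_
  let σ : P.Ring →ₐ[R] ResidueField R := P.lift x hx
  let q : Ideal P.Ring := RingHom.ker σ
  have : q.IsPrime := RingHom.ker_isPrime σ
  have hqo : q.LiesOver (maximalIdeal R) := ⟨by ext r; simp [q, Ideal.under, residue_eq_zero_iff]⟩
  let T := Localization.AtPrime q
  have hfin : Module.Finite R T := h P.Ring q hqo inferInstance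
  -- `T` is a localization away from one element
  have : Algebra.FormallyEtale P.Ring T := Algebra.FormallyEtale.of_isLocalization q.primeCompl
  have : Algebra.FormallyEtale R T := Algebra.FormallyEtale.comp R P.Ring T
  have : Algebra.FormallyUnramified R T := inferInstance
  have : Algebra.FiniteType R T := inferInstance
  have : Module.Flat P.Ring T := IsLocalization.flat T q.primeCompl
  have : Module.Flat R P.Ring := inferInstance
  have : Module.Flat R T := Module.Flat.trans R P.Ring T
  have hs : Function.Surjective (algebraMap R T) := by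
    have : LinearMap.range (Algebra.linearMap R T) = ⊤ := by
      refine top_le_iff.mp (Submodule.le_of_le_smul_of_le_jacobson_bot Module.Finite.fg_top
        (maximalIdeal_le_jacobson _) ?_)
      intro t _
      obtain ⟨a, ⟨b, hb⟩, rfl⟩ := IsLocalization.exists_mk'_eq q.primeCompl t
      obtain ⟨ra, hra⟩ := hsurj (Ideal.Quotient.mk _ a)
      obtain ⟨rb, hrb⟩ := hsurj (Ideal.Quotient.mk _ b)
      rw [IsScalarTower.algebraMap_apply R P.Ring, Ideal.Quotient.algebraMap_eq, Ideal.Quotient.eq]
        at hra hrb
      have hrbu : IsUnit rb := by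
        by_contra hn
        apply hb
        have : algebraMap R P.Ring rb ∈ (maximalIdeal R).map (algebraMap R P.Ring) :=
          Ideal.mem_map_of_mem _ hn
        have hmq : (maximalIdeal R).map (algebraMap R P.Ring) ≤ q :=
          Ideal.map_le_iff_le_comap.mpr hqo.over.le
        simpa using sub_mem (hmq this) (hmq hrb)
      obtain ⟨c, hc⟩ := hrbu.exists_left_inv
      refine Submodule.mem_sup.mpr ⟨algebraMap R T (c * ra), ⟨c * ra, rfl⟩,
        IsLocalization.mk' _ a ⟨b, hb⟩ - algebraMap R T (c * ra), ?_, by ring⟩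
      rw [Ideal.smul_top_eq_map, Submodule.restrictScalars_mem, IsScalarTower.algebraMap_eq R P.Ring T,
        ← Ideal.map_map]
      have hu : IsUnit (algebraMap P.Ring T b) :=
        IsLocalization.map_units (M := q.primeCompl) T ⟨b, hb⟩
      rw [← Ideal.unit_mul_mem_iff_mem _ hu, mul_sub, IsLocalization.mk'_spec'_mk,
        RingHom.comp_apply, ← map_mul, ← map_sub]
      refine Ideal.mem_map_of_mem _ ?_
      have : a - b * algebraMap R P.Ring (c * ra) =
          -(algebraMap R P.Ring ra - a) + (algebraMap R P.Ring rb - b) * algebraMap R P.Ring (c * ra) +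
            algebraMap R P.Ring ra * (1 - algebraMap R P.Ring (c * rb)) := by
        simp only [map_mul]; ring
      rw [this, hc, map_one, sub_self, mul_zero, add_zero]
      exact add_mem (neg_mem hra) (Ideal.mul_mem_right _ _ hrb)
    exact LinearMap.range_eq_top.mp this
  have hker : RingHom.ker (algebraMap R T) = ⊥ := by
    have hfl : Module.FinitePresentation R T → Module.Free R T := fun _ =>
      Module.free_of_flat_of_isLocalRing
    by_contra hne
    obtain ⟨r, hr, hr0⟩ := Submodule.exists_mem_ne_zero_of_ne_bot hne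
    have : Module.Free R T := Module.free_of_flat_of_isLocalRing
    exact hr0 (FaithfulSMul.algebraMap_injective R T (by rw [RingHom.mem_ker.mp hr, map_zero]))
  exact ⟨(AlgEquiv.ofBijective (Algebra.ofId R T)
    ⟨(RingHom.injective_iff_ker_eq_bot _).mpr hker, hs⟩).symm.toAlgHom.comp
      (IsScalarTower.toAlgHom R P.Ring T)⟩

end Groth.Agent.Hens
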