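import Groth.Agent.Lib.Hens.Henselization
import Groth.Agent.Lib.Hens.EssEtale
import Groth.Agent.Lib.Hens.FiniteType
import Mathlib.FieldTheory.PurelyInseparable.Basic
import Mathlib.RingTheory.QuasiFinite.Basic

/-!
Base change of (strict) henselizations.
-/

open IsLocalRing

open scoped TensorProduct

namespace Groth.Agent.Hens

universe u v w

section Universal

variable (A S : Type u) [CommRing A] [IsLocalRing A] [CommRing S] [IsLocalRing S] [Algebra A S]
  [IsLocalHom (algebraMap A S)]

/-- A map out of a strict henselization is determined by its restriction and its residue map. -/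
theorem strictHenselization_hom_ext [Hensel.IsStrictHenselization A S] {T : Type u} [CommRing T]
    [HenselianLocalRing T] (g g' : S →+* T) [IsLocalHom (g.comp (algebraMap A S))]
    (h : g'.comp (algebraMap A S) = g.comp (algebraMap A S))
    (hres : ∀ x, residue T (g' x) = residue T (g x)) : g' = g := by
  have hloc : IsLocalHom g := ⟨fun x hx => by
    by_contra hn
    have hle : (maximalIdeal A).map (algebraMap A S) ≤ (maximalIdeal T).comap g :=
      Ideal.map_le_iff_le_comap.mpr fun a ha => map_nonunit (g.comp (algebraMap A S)) a ha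
    rw [strictHenselization_map_maximalIdeal A S] at hle
    exact (hle hn : g x ∈ maximalIdeal T) hx⟩
  obtain ⟨k, -, hu⟩ := Hensel.IsStrictHenselization.universal (R := A) (S := S) T
    (g.comp (algebraMap A S)) (ResidueField.map g) (RingHom.ext fun x => by
      obtain ⟨a, rfl⟩ := residue_surjective x
      rfl)
  exact (hu g' ⟨h, fun x => hres x⟩).trans (hu g ⟨rfl, fun x => rfl⟩).symm

theorem henselization_hom_ext [Hensel.IsHenselization A S] {T : Type u} [CommRing T]
    [HenselianLocalRing T] (g g' : S →+* T) [IsLocalHom (g.comp (algebraMap A S))]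
    (h : g'.comp (algebraMap A S) = g.comp (algebraMap A S)) : g' = g :=
  (Hensel.IsHenselization.universal (R := A) (S := S) T (g.comp (algebraMap A S))
    inferInstance).unique h rfl

omit [IsLocalRing S] in
theorem exists_residue_lift [IsLocalRing S] [Hensel.IsStrictHenselization A S] {T : Type u}
    [CommRing T] [HenselianLocalRing T] [IsSepClosed (ResidueField T)] (f : A →+* T)
    [IsLocalHom f] :
    ∃ τ : ResidueField S →+* ResidueField T,
      τ.comp (ResidueField.map (algebraMap A S)) = ResidueField.map f := by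
  let _ := (ResidueField.map f).toAlgebra
  have := (Hensel.IsStrictHenselization.isSepClosure (R := A) (S := S)).2
  let τ : ResidueField S →ₐ[ResidueField A] ResidueField T := IsSepClosed.lift
  exact ⟨τ.toRingHom, τ.comp_algebraMap⟩

end Universal

/-- A field map between extensions is onto if the target is separable and the source separably
closed. -/
theorem surjective_of_isSepClosed {k : Type u} {K : Type v} {L : Type w} [Field k] [Field K]
    [Field L] [Algebra k L] [Algebra.IsSeparable k L] [IsSepClosed K] (τ : K →+* L) (j : k →+* K)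
    (h : τ.comp j = algebraMap k L) : Function.Surjective τ := by
  let _ := τ.toAlgebra
  let _ := j.toAlgebra
  have : IsScalarTower k K L := IsScalarTower.of_algebraMap_eq' h.symm
  have : Algebra.IsSeparable K L := Algebra.isSeparable_tower_top_of_isSeparable k K L
  intro y
  have hy := Algebra.IsSeparable.isSeparable K y
  exact minpoly.degree_eq_one_iff.mp (IsSepClosed.degree_eq_one_of_irreducible (k := K)
    (minpoly.irreducible hy.isIntegral) hy)

theorem isStrictHenselization_self (E : Type u) [CommRing E] [HenselianLocalRing E]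
    [IsSepClosed (ResidueField E)] : Hensel.IsStrictHenselization E E where
  henselian := inferInstance
  isSepClosure := by
    refine @IsSepClosure.mk _ _ _ _ ResidueField.instAlgebra inferInstance
      (@Algebra.IsSeparable.mk _ _ _ _ ResidueField.instAlgebra fun x => ?_)
    obtain ⟨e, rfl⟩ := residue_surjective x
    exact @isSeparable_algebraMap _ _ _ _ ResidueField.instAlgebra (residue E e)
  universal T _ _ f _ τ hτ := by
    refine ⟨f, ⟨rfl, fun x => ?_⟩, fun g' hg' => hg'.1⟩
    exact (congr($hτ (residue E x))).symm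

theorem isHenselization_self (E : Type u) [CommRing E] [HenselianLocalRing E] :
    Hensel.IsHenselization E E where
  henselian := inferInstance
  universal T _ _ f _ := ⟨f, rfl, fun g' hg' => hg'⟩

section Local

variable (R A B : Type u) [CommRing R] [IsLocalRing R]
  [CommRing A] [IsLocalRing A] [Algebra R A] [IsLocalHom (algebraMap R A)] [Algebra.IsIntegral R A]
  [IsPurelyInseparable (ResidueField R) (ResidueField A)]
  [CommRing B] [IsLocalRing B] [Algebra R B] [IsLocalHom (algebraMap R B)]

/-- A tensor product with an integral algebra with purely inseparable residue field is local. -/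
theorem isLocalRing_tensor_of_purelyInseparable :
    ∃ _ : IsLocalRing (A ⊗[R] B),
      IsLocalHom (Algebra.TensorProduct.includeRight : B →ₐ[R] A ⊗[R] B).toRingHom ∧
      ∀ x : A ⊗[R] B, ∃ (n : ℕ) (b : B),
        x ^ (ringExpChar (ResidueField B)) ^ n - (1 : A) ⊗ₜ[R] b ∈ maximalIdeal (A ⊗[R] B) := by
  let X := A ⊗[R] B
  let iA : A →+* X := (Algebra.TensorProduct.includeLeft : A →ₐ[R] X).toRingHom
  let iB : B →+* X := (Algebra.TensorProduct.includeRight : B →ₐ[R] X).toRingHom
  let J : Ideal X := (maximalIdeal A).map iA ⊔ (maximalIdeal B).map iB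
  let q := ringExpChar (ResidueField B)
  have hq : ExpChar (ResidueField B) q := inferInstance
  have hqR : ExpChar (ResidueField R) q :=
    (ResidueField.map (algebraMap R B)).expChar (RingHom.injective _) q
  -- nontriviality
  let K := AlgebraicClosure (ResidueField B)
  let _ : Algebra (ResidueField R) K :=
    ((algebraMap (ResidueField B) K).comp (ResidueField.map (algebraMap R B))).toAlgebra
  let τA : ResidueField A →ₐ[ResidueField R] K := IsAlgClosed.lift
  let _ : Algebra R K := ((algebraMap (ResidueField R) K).comp (residue R)).toAlgebra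
  let φA : A →ₐ[R] K :=
    { τA.toRingHom.comp (residue A) with commutes' := fun r => τA.commutes (residue R r) }
  let φB : B →ₐ[R] K :=
    { (algebraMap (ResidueField B) K).comp (residue B) with commutes' := fun r => rfl }
  let Φ : X →ₐ[R] K := Algebra.TensorProduct.lift φA φB fun _ _ => .all _ _
  have : Nontrivial X := Φ.toRingHom.domain_nontrivial
  have hint : iB.IsIntegral := by
    intro x
    induction x using TensorProduct.induction_on with
    | zero => exact iB.isIntegralElem_zero
    | add x y hx hy => exact RingHom.IsIntegralElem.add iB hx hy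
    | tmul a b =>
      obtain ⟨p, hp, hpa⟩ := Algebra.IsIntegral.isIntegral (R := R) a
      have h1 : iB.IsIntegralElem (a ⊗ₜ[R] (1 : B)) := by
        refine ⟨p.map (algebraMap R B), hp.map _, ?_⟩
        rw [Polynomial.eval₂_map, show iB.comp (algebraMap R B) = iA.comp (algebraMap R A) from
          RingHom.ext fun r => by
            show (1 : A) ⊗ₜ[R] algebraMap R B r = algebraMap R A r ⊗ₜ[R] (1 : B)
            rw [Algebra.algebraMap_eq_smul_one, Algebra.algebraMap_eq_smul_one,
              TensorProduct.tmul_smul, TensorProduct.smul_tmul'],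
          show a ⊗ₜ[R] (1 : B) = iA a from rfl, ← Polynomial.hom_eval₂, hpa, map_zero]
      have h2 := RingHom.IsIntegralElem.mul iB h1 (iB.isIntegralElem_map (x := b))
      rwa [show iB b = (1 : A) ⊗ₜ[R] b from rfl, Algebra.TensorProduct.tmul_mul_tmul, mul_one,
        one_mul] at h2
  have hJ : ∀ N : Ideal X, N.IsMaximal → J ≤ N ∧ N.comap iB = maximalIdeal B := by
    intro N hN
    let _ := iB.toAlgebra
    have : Algebra.IsIntegral B X := ⟨hint⟩
    have hB : N.comap iB = maximalIdeal B :=
      eq_maximalIdeal (Ideal.isMaximal_comap_of_isIntegral_of_isMaximal (R := B) N)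
    have hR : (N.comap iA).comap (algebraMap R A) = maximalIdeal R := by
      rw [Ideal.comap_comap, show iA.comp (algebraMap R A) = iB.comp (algebraMap R B) from
        RingHom.ext fun r => by
          show algebraMap R A r ⊗ₜ[R] (1 : B) = (1 : A) ⊗ₜ[R] algebraMap R B r
          rw [Algebra.algebraMap_eq_smul_one, Algebra.algebraMap_eq_smul_one,
            TensorProduct.tmul_smul, TensorProduct.smul_tmul'], ← Ideal.comap_comap, hB]
      exact ((local_hom_TFAE (algebraMap R B)).out 0 4).mp ‹IsLocalHom (algebraMap R B)›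
    have hA : N.comap iA = maximalIdeal A := by
      have : (N.comap iA).IsPrime := Ideal.IsPrime.comap _
      exact eq_maximalIdeal (Ideal.isMaximal_of_isIntegral_of_isMaximal_comap (R := R) _
        (by rw [hR]; infer_instance))
    exact ⟨sup_le (Ideal.map_le_iff_le_comap.mpr hA.ge) (Ideal.map_le_iff_le_comap.mpr hB.ge), hB⟩
  have hpow : ∀ x : X, ∃ (n : ℕ) (b : B), x ^ q ^ n - iB b ∈ J := by
    have hJtop : J ≠ ⊤ := fun h => by
      obtain ⟨N, hN⟩ := Ideal.exists_maximal X
      exact hN.ne_top (top_le_iff.mp (h ▸ (hJ N hN).1))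
    have : Nontrivial (X ⧸ J) := Ideal.Quotient.nontrivial_iff.mpr hJtop
    let β : ResidueField B →+* X ⧸ J := Ideal.Quotient.lift _ ((Ideal.Quotient.mk J).comp iB)
      fun b hb => Ideal.Quotient.eq_zero_iff_mem.mpr
        (Ideal.mem_sup_right (Ideal.mem_map_of_mem iB hb))
    have : ExpChar (X ⧸ J) q := expChar_of_injective_ringHom β.injective q
    have hlift : ∀ (x : X) (n : ℕ) (b : B) (m : ℕ), x ^ q ^ n - iB b ∈ J →
        x ^ q ^ (n + m) - iB (b ^ q ^ m) ∈ J := by
      intro x n b m h
      rw [← Ideal.Quotient.eq] at h ⊢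
      rw [map_pow iB, map_pow, map_pow, pow_add, pow_mul, ← map_pow, h]
    intro x
    induction x using TensorProduct.induction_on with
    | zero => exact ⟨0, 0, by simp⟩
    | add x y hx hy =>
      obtain ⟨n, b, hb⟩ := hx
      obtain ⟨m, c, hc⟩ := hy
      have hb' := hlift x n b m hb
      have hc' := hlift y m c n hc
      rw [add_comm m n] at hc'
      refine ⟨n + m, b ^ q ^ m + c ^ q ^ n, ?_⟩
      rw [← Ideal.Quotient.eq] at hb' hc' ⊢
      rw [map_pow, map_add, map_add, map_add, add_pow_expChar_pow, ← map_pow, hb', ← map_pow, hc']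
    | tmul a b =>
      obtain ⟨n, z, hz⟩ := IsPurelyInseparable.pow_mem (ResidueField R) q (residue A a)
      obtain ⟨r, rfl⟩ := residue_surjective z
      refine ⟨n, algebraMap R B r * b ^ q ^ n, ?_⟩
      have hmem : a ^ q ^ n - algebraMap R A r ∈ maximalIdeal A := by
        rw [← residue_eq_zero_iff, map_sub, map_pow, sub_eq_zero]
        exact hz.symm
      have h1 : (a ⊗ₜ[R] b) ^ q ^ n - iB (algebraMap R B r * b ^ q ^ n) =
          iA (a ^ q ^ n - algebraMap R A r) * iB (b ^ q ^ n) := by
        show (a ⊗ₜ[R] b) ^ q ^ n - (1 : A) ⊗ₜ[R] (algebraMap R B r * b ^ q ^ n) =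
          (a ^ q ^ n - algebraMap R A r) ⊗ₜ[R] (1 : B) * ((1 : A) ⊗ₜ[R] (b ^ q ^ n))
        rw [Algebra.TensorProduct.tmul_pow, Algebra.TensorProduct.tmul_mul_tmul, mul_one, one_mul,
          TensorProduct.sub_tmul, Algebra.algebraMap_eq_smul_one r, Algebra.algebraMap_eq_smul_one r,
          smul_one_mul, TensorProduct.tmul_smul, TensorProduct.smul_tmul']
      rw [h1]
      exact Ideal.mem_sup_left (Ideal.mul_mem_right _ _ (Ideal.mem_map_of_mem iA hmem))
  have huniq : ∀ N N' : Ideal X, N.IsMaximal → N'.IsMaximal → N ≤ N' := by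
    intro N N' hN hN' x hx
    obtain ⟨n, b, hb⟩ := hpow x
    have hq0 : q ^ n ≠ 0 := pow_ne_zero _ (expChar_pos (ResidueField B) q).ne'
    have hbN : b ∈ maximalIdeal B := by
      rw [← (hJ N hN).2, Ideal.mem_comap]
      simpa using sub_mem (Ideal.pow_mem_of_mem N hx _ (Nat.pos_of_ne_zero hq0)) ((hJ N hN).1 hb)
    rw [← (hJ N' hN').2, Ideal.mem_comap] at hbN
    refine hN'.isPrime.mem_of_pow_mem (q ^ n) ?_
    simpa using add_mem ((hJ N' hN').1 hb) hbN
  obtain ⟨M, hM⟩ := Ideal.exists_maximal X
  have : IsLocalRing X := .of_unique_max_ideal ⟨M, hM, fun N hN =>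
    le_antisymm (huniq N M hN hM) (huniq M N hM hN)⟩
  refine ⟨this, ⟨fun b hb => ?_⟩, fun x => ?_⟩
  · by_contra hn
    have hbm : b ∈ maximalIdeal B := hn
    rw [← (hJ (maximalIdeal X) inferInstance).2] at hbm
    exact hbm hb
  · obtain ⟨n, b, hb⟩ := hpow x
    exact ⟨n, b, (hJ (maximalIdeal X) inferInstance).1 hb⟩

end Local

section Integral

/-- A local algebra over a henselian local ring, locally made of quasi-finite algebras, is
integral. -/
theorem isIntegral_of_quasiFinite_cover {R L : Type u} [CommRing R] [HenselianLocalRing R]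
    [CommRing L] [IsLocalRing L] [Algebra R L] [IsLocalHom (algebraMap R L)]
    (h : ∀ x : L, ∃ (S₀ : Type u) (_ : CommRing S₀) (_ : Algebra R S₀) (φ : S₀ →ₐ[R] L) (s t : S₀),
      Algebra.FiniteType R S₀ ∧
        (∀ (q : Ideal S₀) [q.IsPrime], q = (maximalIdeal L).comap φ → Algebra.QuasiFiniteAt R q) ∧
        IsUnit (φ t) ∧ φ s = x * φ t) :
    Algebra.IsIntegral R L := by
  refine ⟨fun x => ?_⟩
  obtain ⟨S₀, _, _, φ, s, t, hft, hqf, ht, hs⟩ := h x
  let q := (maximalIdeal L).comap φ
  have hq : q.LiesOver (maximalIdeal R) := ⟨by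
    rw [show q.under R = q.comap (algebraMap R S₀) from rfl]
    show _ = ((maximalIdeal L).comap φ.toRingHom).comap (algebraMap R S₀)
    rw [Ideal.comap_comap, show φ.toRingHom.comp (algebraMap R S₀) = algebraMap R L from
      φ.comp_algebraMap]
    exact Eq.symm (((local_hom_TFAE (algebraMap R L)).out 0 4).mp (by infer_instance))⟩
  have : Module.Finite R (Localization.AtPrime q) := finite_localization_atPrime q hq (hqf q rfl)
  have hu : ∀ y : q.primeCompl, IsUnit (φ (y : S₀)) := fun y => of_not_not fun hn => y.2 hn
  let ψ : Localization.AtPrime q →ₐ[R] L :=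
    IsLocalization.liftAlgHom (M := q.primeCompl) (f := φ) hu
  have htq : t ∈ q.primeCompl := fun hn => (hn : φ t ∈ maximalIdeal L) ht
  have hxy : ψ (IsLocalization.mk' _ s (⟨t, htq⟩ : q.primeCompl)) = x := by
    refine ht.mul_right_cancel ?_
    rw [← hs]
    have h1 : ψ (algebraMap S₀ _ t) = φ t := IsLocalization.lift_eq _ t
    rw [← h1, ← map_mul, IsLocalization.mk'_spec]
    exact IsLocalization.lift_eq _ s
  rw [← hxy]
  exact (Algebra.IsIntegral.of_finite R _).isIntegral _ |>.map ψ

end Integral

end Groth.Agent.Hens
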