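import Groth.Agent.Lib.Hens.Finite
import Groth.Agent.Lib.Hens.FiniteType
import Groth.Agent.Lib.Hens.System
import Mathlib.RingTheory.Localization.Away.Lemmas
import Mathlib.RingTheory.Smooth.StandardSmoothOfFree

/-!
Lifting finite étale algebras over henselian pairs.
-/

open scoped TensorProduct

namespace Groth.Agent.Hens

universe u v

variable {A : Type u} [CommRing A] {I : Ideal A}

/-- An étale algebra over a henselian pair which is finite modulo `I` has a finite part. -/
theorem exists_finite_idempotent (h : HenselianRing A I) {E : Type v} [CommRing E] [Algebra A E]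
    [Algebra.Etale A E] {C : Type v} [CommRing C] [Algebra A C] [Module.Finite A C]
    (φ : E →ₐ[A] C) (hφ : Function.Surjective φ)
    (hker : RingHom.ker φ = I.map (algebraMap A E)) :
    ∃ e : E, IsIdempotentElem e ∧ φ e = 1 ∧
      Module.Finite A (E ⧸ Ideal.span ({1 - e} : Set E)) := by
  classical
  obtain ⟨B, hB, G, hG, hspan⟩ := exists_finite_cover_of_etale (A := A) (E := E)
  have hInt : Algebra.IsIntegral A B := Algebra.IsIntegral.of_finite A B
  have hpow : ∀ g ∈ G, ∀ y : E, ∃ (n : ℕ) (b : B), (g : E) ^ n * y = (b : E) := fun g hg y => by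
    obtain ⟨n, b, hb⟩ := exists_pow_mul_mem_of_bijective_awayMap B.val.toRingHom g (hG g hg).2 y
    exact ⟨n, b, hb⟩
  have hkill : ∀ g ∈ G, ∀ x : B, φ x = 0 → ∃ n : ℕ, g ^ n * x ∈ I.map (algebraMap A B) := by
    intro g hg x hx
    have key : ∀ y ∈ I.map (algebraMap A E), ∀ z : E, ∃ (n : ℕ) (b : B),
        b ∈ I.map (algebraMap A B) ∧ (g : E) ^ n * (z * y) = (b : E) := by
      intro y hy
      induction hy using Submodule.span_induction with
      | mem y hy =>
        obtain ⟨a, ha, rfl⟩ := hy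
        intro z
        obtain ⟨n, b, hb⟩ := hpow g hg z
        refine ⟨n, b * algebraMap A B a, Ideal.mul_mem_left _ _ (Ideal.mem_map_of_mem _ ha), ?_⟩
        rw [← mul_assoc, hb]
        rfl
      | zero => intro z; exact ⟨0, 0, zero_mem _, by simp⟩
      | add a b _ _ ha hb =>
        intro z
        obtain ⟨n, c, hc, hc'⟩ := ha z
        obtain ⟨m, d, hd, hd'⟩ := hb z
        refine ⟨n + m, g ^ m * c + g ^ n * d,
          add_mem (Ideal.mul_mem_left _ _ hc) (Ideal.mul_mem_left _ _ hd), ?_⟩
        show _ = (g : E) ^ m * (c : E) + (g : E) ^ n * (d : E)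
        rw [← hc', ← hd']
        ring
      | smul c a _ ha =>
        intro z
        obtain ⟨n, d, hd, hd'⟩ := ha (z * c)
        exact ⟨n, d, hd, by rw [smul_eq_mul, ← mul_assoc z c a]; exact hd'⟩
    obtain ⟨n, b, hb, hb'⟩ := key x (hker.le hx) 1
    rw [one_mul] at hb'
    exact ⟨n, (show g ^ n * x = b from Subtype.ext hb') ▸ hb⟩
  let J : Ideal B := I.map (algebraMap A B)
  let K : Ideal B := RingHom.ker (φ.comp B.val)
  have htop : K ⊔ Ideal.span (G : Set B) = ⊤ := by
    by_contra hne
    obtain ⟨M, hM, hle⟩ := Ideal.exists_le_maximal _ hne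
    let φ' : B →+* C := (φ.comp B.val).toRingHom
    have hint : φ'.IsIntegral :=
      RingHom.IsIntegral.tower_top (algebraMap A B) φ'
        (by rw [show φ'.comp (algebraMap A B) = algebraMap A C from (φ.comp B.val).comp_algebraMap]
            exact algebraMap_isIntegral_iff.mpr (Algebra.IsIntegral.of_finite A C))
    let _ := φ'.toAlgebra
    have : Algebra.IsIntegral B C := ⟨fun c => hint c⟩
    obtain ⟨Q, hQ, hQM⟩ := Ideal.exists_ideal_over_prime_of_isIntegral M ⊥
      (le_trans (fun x hx => by exact hx) (le_sup_left.trans hle))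
    have hall : ∀ g ∈ G, φ (g : E) ∈ Q := fun g hg => by
      have : g ∈ M := hle (Ideal.mem_sup_right (Ideal.subset_span hg))
      rw [← hQM.2] at this
      exact this
    refine hQM.1.ne_top ((Ideal.eq_top_iff_one Q).mpr ?_)
    have h1 : (1 : E) ∈ Ideal.span ((fun g : B => (g : E)) '' G) := hspan ▸ Submodule.mem_top
    have h2 := Ideal.mem_map_of_mem φ.toRingHom h1
    rw [Ideal.map_span, ← Set.image_comp, map_one] at h2
    refine Ideal.span_le.mpr ?_ h2
    rintro _ ⟨g, hg, rfl⟩
    exact hall g hg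
  obtain ⟨k₀, hk₀, b₀, hb₀, hkb₀⟩ := Submodule.mem_sup.mp (htop ▸ Submodule.mem_top (x := (1 : B)))
  choose! n hn using fun g (hg : g ∈ G) => hkill g hg k₀ hk₀
  let L : Ideal B := Ideal.span ((fun g => g ^ n g) '' (G : Set B))
  obtain ⟨m, hm⟩ : b₀ ∈ L.radical := (Ideal.span_le (I := L.radical)).mpr
    (fun g hg => Ideal.mem_radical_iff.mpr ⟨n g, Ideal.subset_span ⟨g, hg, rfl⟩⟩) hb₀
  have hL : ∀ x ∈ L, x * k₀ ∈ J := fun x hx => by
    refine Submodule.span_induction ?_ (by simp) (fun a b _ _ ha hb => ?_)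
      (fun c a _ ha => ?_) hx
    · rintro _ ⟨g, hg, rfl⟩; exact hn g hg
    · rw [add_mul]; exact add_mem ha hb
    · rw [smul_eq_mul, mul_assoc]; exact Ideal.mul_mem_left _ _ ha
  obtain ⟨c, hc⟩ : (1 - b₀) ∣ 1 - b₀ ^ m := by simpa using sub_dvd_pow_sub_pow 1 b₀ m
  let b := b₀ ^ m
  have hb : b ∈ L := hm
  have hk₀' : 1 - b₀ = k₀ := by rw [← hkb₀, add_sub_cancel_right]
  obtain ⟨k, hk, hkb⟩ : ∃ k ∈ K, k + b = 1 :=
    ⟨k₀ * c, Ideal.mul_mem_right _ _ hk₀, by rw [← hk₀', ← hc, sub_add_cancel]⟩
  have hbb : b * b - b ∈ J := by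
    have : b * b - b = - ((b * k₀) * c) := by
      rw [mul_assoc, ← hk₀', ← hc]; ring
    rw [this]
    exact neg_mem (Ideal.mul_mem_right _ _ (hL b hb))
  obtain ⟨e, he, heb⟩ := exists_idempotent_lift h b hbb
  have hJK : ∀ x ∈ J, φ (x : E) = 0 := fun x hx => by
    refine hker.ge ?_
    have := Ideal.mem_map_of_mem B.val.toRingHom hx
    rw [Ideal.map_map] at this
    exact this
  have hφe : φ (e : E) = 1 := by
    have h1 := hJK _ heb
    have h2 : φ (k : E) + φ (b : E) = 1 := by
      rw [← map_add, ← map_one φ]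
      exact congrArg (fun x : B => φ (x : E)) hkb
    rw [show φ (k : E) = 0 from hk, zero_add] at h2
    rw [show ((e - b : B) : E) = (e : E) - (b : E) from rfl, map_sub, h2, sub_eq_zero] at h1
    exact h1
  refine ⟨e, he.map B.val, hφe, ?_⟩
  let q : B →ₐ[A] E ⧸ Ideal.span ({1 - (e : E)} : Set E) :=
    (Ideal.Quotient.mkₐ A _).comp B.val
  let q' : B ⧸ Ideal.span ({1 - e} : Set B) →ₐ[A] E ⧸ Ideal.span ({1 - (e : E)} : Set E) :=
    Ideal.Quotient.liftₐ _ q fun a ha => by
      obtain ⟨y, rfl⟩ := Ideal.mem_span_singleton'.mp ha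
      exact Ideal.Quotient.eq_zero_iff_mem.mpr (Ideal.mem_span_singleton'.mpr ⟨(y : E), rfl⟩)
  have hq : Function.Surjective q' := by
    refine surjective_of_span_eq_top q'.toRingHom
      (fun g : G => Ideal.Quotient.mk _ (g : B)) ?_ fun g y => ?_
    · by_contra hne
      obtain ⟨M, hM, hle⟩ := Ideal.exists_le_maximal _ hne
      have hMc : (M.comap (Ideal.Quotient.mk (Ideal.span ({1 - e} : Set B)))).IsMaximal :=
        Ideal.comap_isMaximal_of_surjective _ Ideal.Quotient.mk_surjective
      set M' := M.comap (Ideal.Quotient.mk (Ideal.span ({1 - e} : Set B)))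
      have hJM : J ≤ M' := (map_le_jacobson_of_isIntegral h.jac).trans (sInf_le ⟨bot_le, hMc⟩)
      have he1 : 1 - e ∈ M' := by
        rw [Ideal.mem_comap, Ideal.Quotient.eq_zero_iff_mem.mpr (Ideal.mem_span_singleton_self _)]
        exact zero_mem _
      have hk1 : 1 - b ∈ M' := by
        simpa using add_mem he1 (hJM heb)
      have hLM : L ≤ M' := Ideal.span_le.mpr (by
        rintro _ ⟨g, hg, rfl⟩
        have hgM : g ∈ M' := hle (Ideal.subset_span ⟨⟨g, hg⟩, rfl⟩)
        rcases Nat.eq_zero_or_pos (n g) with h0 | h0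
        · have := hn g hg
          rw [h0, pow_zero, one_mul] at this
          exfalso
          have hk0M : k₀ ∈ M' := hJM this
          have hb0 : b₀ ∈ M' := (Ideal.span_le (I := M')).mpr
            (fun g' hg' => hle (Ideal.subset_span ⟨⟨g', hg'⟩, rfl⟩)) hb₀
          exact hMc.ne_top ((Ideal.eq_top_iff_one _).mpr (hkb₀ ▸ add_mem hk0M hb0))
        · exact M'.pow_mem_of_mem hgM _ h0)
      exact hMc.ne_top ((Ideal.eq_top_iff_one _).mpr (by simpa using add_mem hk1 (hLM hb)))
    · obtain ⟨y, rfl⟩ := Ideal.Quotient.mk_surjective y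
      obtain ⟨m, c, hc⟩ := hpow g g.2 y
      refine ⟨m, Ideal.Quotient.mk _ c, ?_⟩
      exact (congrArg (Ideal.Quotient.mk _) hc.symm).trans (by rw [map_mul, map_pow]; rfl)
  exact Module.Finite.of_surjective q'.toLinearMap hq

/-- An étale algebra modulo an ideal lifts to an étale algebra. -/
theorem exists_etale_lift (A : Type u) [CommRing A] (I : Ideal A) (C : Type u) [CommRing C]
    [Algebra A C] [Algebra (A ⧸ I) C] [IsScalarTower A (A ⧸ I) C] [Algebra.Etale (A ⧸ I) C] :
    ∃ (E : Type u) (_ : CommRing E) (_ : Algebra A E) (_ : Algebra.Etale A E) (φ : E →ₐ[A] C),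
      Function.Surjective φ ∧ RingHom.ker φ = I.map (algebraMap A E) := by
  classical
  have hS : Algebra.IsStandardSmoothOfRelativeDimension 0 (A ⧸ I) C :=
    Algebra.Etale.iff_isStandardSmoothOfRelativeDimension_zero.mp inferInstance
  obtain ⟨ι, σ, _, _, P, hP⟩ := hS.out
  have := Fintype.ofFinite σ
  have := Fintype.ofFinite ι
  let m : σ ≃ ι := Equiv.ofBijective P.map ((Fintype.bijective_iff_injective_and_card P.map).mpr
    ⟨P.map_inj, by
      have h1 := P.card_relations_le_card_vars_of_isFinite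
      have h2 : Nat.card ι - Nat.card σ = 0 := hP
      rw [Nat.card_eq_fintype_card, Nat.card_eq_fintype_card] at h1 h2
      omega⟩)
  let N := Fintype.card σ
  let f : Fin N ≃ σ := (Fintype.equivFin σ).symm
  let g : ι ≃ Fin N := (f.trans m).symm
  let Q : Fin N → MvPolynomial (Fin N) (A ⧸ I) := fun k => MvPolynomial.rename g (P.relation (f k))
  choose Q' hQ' using fun k => MvPolynomial.map_surjective (Ideal.Quotient.mk I)
    Ideal.Quotient.mk_surjective (Q k)
  let v : Fin N → C := P.val ∘ g.symm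
  let ev : MvPolynomial (Fin N) A →ₐ[A] C := MvPolynomial.aeval v
  have hev : ∀ p, ev p = MvPolynomial.aeval v (MvPolynomial.map (Ideal.Quotient.mk I) p) := fun p =>
    by
      show MvPolynomial.aeval v p = _
      rw [MvPolynomial.aeval_def, MvPolynomial.aeval_def, MvPolynomial.eval₂_map,
        IsScalarTower.algebraMap_eq A (A ⧸ I) C, Ideal.Quotient.algebraMap_eq]
  have hren : ∀ p : MvPolynomial ι (A ⧸ I), MvPolynomial.aeval v (MvPolynomial.rename g p) = MvPolynomial.aeval P.val p :=
    fun p => by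
      rw [MvPolynomial.aeval_rename]
      congr 2
      funext i
      simp [v]
  let R₁ : Ideal (MvPolynomial (Fin N) A) := Ideal.span (Set.range Q')
  let φ₀ : MvPolynomial (Fin N) A ⧸ R₁ →ₐ[A] C := Ideal.Quotient.liftₐ R₁ ev fun p hp => by
    refine (Ideal.span_le (I := RingHom.ker ev)).mpr ?_ hp
    rintro _ ⟨k, rfl⟩
    show ev (Q' k) = 0
    rw [hev, hQ', hren]
    exact P.aeval_val_relation (f k)
  let Δ : MvPolynomial (Fin N) A ⧸ R₁ := Ideal.Quotient.mk R₁ (jacDet Q')
  have hΔ : IsUnit (φ₀ Δ) := by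
    show IsUnit (ev (jacDet Q'))
    rw [hev, jacDet, RingHom.map_det, AlgHom.map_det]
    have hM : ((MvPolynomial.map (Ideal.Quotient.mk I)).mapMatrix
        (Matrix.of fun i j => MvPolynomial.pderiv j (Q' i))) =
        Matrix.of fun i j => MvPolynomial.rename g (P.jacobiMatrix (f j) (f i)) := by
      ext i j : 1
      show MvPolynomial.map (Ideal.Quotient.mk I) (MvPolynomial.pderiv j (Q' i)) = _
      rw [← MvPolynomial.pderiv_map, hQ', Matrix.of_apply,
        Algebra.PreSubmersivePresentation.jacobiMatrix_apply]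
      have hj : j = g (P.map (f j)) := by
        show j = (f.trans m).symm (m (f j))
        simp
      conv_lhs => rw [hj]
      exact MvPolynomial.pderiv_rename g.injective _ _
    rw [hM]
    have hM' : ((MvPolynomial.aeval (R := A ⧸ I) v).mapMatrix
        (Matrix.of fun i j => MvPolynomial.rename g (P.jacobiMatrix (f j) (f i)))) =
        (((MvPolynomial.aeval (R := A ⧸ I) P.val).mapMatrix P.jacobiMatrix).submatrix f f).transpose := by
      ext i j : 1
      exact hren _
    rw [hM', Matrix.det_transpose, Matrix.det_submatrix_equiv_self, ← AlgHom.map_det,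
      ← Algebra.Generators.algebraMap_apply, ← Algebra.PreSubmersivePresentation.jacobian_eq_jacobiMatrix_det]
    exact P.jacobian_isUnit
  refine ⟨Localization.Away Δ, inferInstance, inferInstance, etale_away_jacDet Q',
    IsLocalization.Away.liftAlgHom Δ (f := φ₀) hΔ, ?_, ?_⟩
  · intro c
    obtain ⟨p, rfl⟩ := P.aeval_val_surjective c
    obtain ⟨p', hp'⟩ := MvPolynomial.map_surjective (Ideal.Quotient.mk I)
      Ideal.Quotient.mk_surjective (MvPolynomial.rename g p)
    refine ⟨algebraMap _ _ (Ideal.Quotient.mk R₁ p'), ?_⟩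
    refine (IsLocalization.Away.lift_eq (g := φ₀.toRingHom) Δ hΔ _).trans ?_
    show ev p' = _
    rw [hev, hp', hren]
  · refine le_antisymm (fun x hx => ?_) (Ideal.map_le_iff_le_comap.mpr fun a ha => ?_)
    · obtain ⟨x, ⟨_, n, rfl⟩, rfl⟩ := IsLocalization.exists_mk'_eq (.powers Δ) x
      have h0 : φ₀ x = 0 := by
        have h := congrArg (IsLocalization.Away.liftAlgHom Δ (f := φ₀) hΔ)
          (IsLocalization.mk'_spec (Localization.Away Δ) x (⟨Δ ^ n, n, rfl⟩ : Submonoid.powers Δ))
        rw [map_mul, RingHom.mem_ker.mp hx, zero_mul] at h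
        exact (h.trans (IsLocalization.Away.lift_eq (g := φ₀.toRingHom) Δ hΔ x)).symm
      rw [IsScalarTower.algebraMap_eq A (MvPolynomial (Fin N) A ⧸ R₁) (Localization.Away Δ),
        ← Ideal.map_map, IsLocalization.mk'_mem_map_algebraMap_iff]
      refine ⟨1, Submonoid.one_mem _, ?_⟩
      rw [one_mul]
      obtain ⟨p, rfl⟩ := Ideal.Quotient.mk_surjective x
      have hp : MvPolynomial.map (Ideal.Quotient.mk I) p ∈ Ideal.span (Set.range Q) := by
        have h1 : MvPolynomial.rename g.symm (MvPolynomial.map (Ideal.Quotient.mk I) p) ∈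
            Ideal.span (Set.range P.relation) := by
          rw [P.span_range_relation_eq_ker, P.toGenerators.ker_eq_ker_aeval_val, RingHom.mem_ker,
            MvPolynomial.aeval_rename, ← h0]
          exact (hev p).symm
        let r : MvPolynomial ι (A ⧸ I) →+* MvPolynomial (Fin N) (A ⧸ I) :=
          (MvPolynomial.rename g).toRingHom
        have h2 := Ideal.mem_map_of_mem r h1
        rw [Ideal.map_span, ← Set.range_comp] at h2
        have h3 : r (MvPolynomial.rename g.symm (MvPolynomial.map (Ideal.Quotient.mk I) p)) =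
            MvPolynomial.map (Ideal.Quotient.mk I) p := by
          show MvPolynomial.rename g _ = _
          rw [MvPolynomial.rename_rename, Equiv.self_comp_symm, MvPolynomial.rename_id_apply]
        rw [h3] at h2
        refine Ideal.span_mono ?_ h2
        rintro _ ⟨s, rfl⟩
        exact ⟨f.symm s, by simp [Q, r]⟩
      have hQ : Ideal.span (Set.range Q) = R₁.map (MvPolynomial.map (Ideal.Quotient.mk I)) := by
        rw [Ideal.map_span, ← Set.range_comp]
        congr 2
        exact funext fun k => (hQ' k).symm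
      rw [hQ] at hp
      obtain ⟨p', hp', hpp⟩ := (Ideal.mem_map_iff_of_surjective _
        (MvPolynomial.map_surjective (Ideal.Quotient.mk I) Ideal.Quotient.mk_surjective)).mp hp
      have h5 : p - p' ∈ I.map (algebraMap A (MvPolynomial (Fin N) A)) := by
        rw [MvPolynomial.algebraMap_eq]
        have h4 : p - p' ∈ RingHom.ker (MvPolynomial.map (Ideal.Quotient.mk I)) := by
          rw [RingHom.mem_ker, map_sub, hpp, sub_self]
        rwa [MvPolynomial.ker_map, Ideal.mk_ker] at h4
      rw [show Ideal.Quotient.mk R₁ p = Ideal.Quotient.mk R₁ (p - p') by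
        rw [map_sub, Ideal.Quotient.eq_zero_iff_mem.mpr hp', sub_zero],
        IsScalarTower.algebraMap_eq A (MvPolynomial (Fin N) A) (MvPolynomial (Fin N) A ⧸ R₁),
        ← Ideal.map_map]
      exact Ideal.mem_map_of_mem _ h5
    · rw [Ideal.mem_comap, RingHom.mem_ker, AlgHom.commutes,
        IsScalarTower.algebraMap_apply A (A ⧸ I) C, Ideal.Quotient.algebraMap_eq,
        Ideal.Quotient.eq_zero_iff_mem.mpr ha, map_zero]

/-- Finite étale algebras lift along henselian pairs. -/
theorem exists_finite_etale_lift {A : Type u} [CommRing A] {I : Ideal A} (h : HenselianRing A I)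
    (C : Type u) [CommRing C] [Algebra (A ⧸ I) C] [Module.Finite (A ⧸ I) C]
    [Algebra.Etale (A ⧸ I) C] :
    ∃ (B : Type u) (_ : CommRing B) (_ : Algebra A B), Module.Finite A B ∧ Algebra.Etale A B ∧
      Nonempty (TensorProduct A (A ⧸ I) B ≃ₐ[A ⧸ I] C) := by
  let _ : Algebra A C := ((algebraMap (A ⧸ I) C).comp (Ideal.Quotient.mk I)).toAlgebra
  have : IsScalarTower A (A ⧸ I) C := IsScalarTower.of_algebraMap_eq' rfl
  have : Module.Finite A C := Module.Finite.trans (A ⧸ I) C
  obtain ⟨E, _, _, _, φ, hφ, hker⟩ := exists_etale_lift A I C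
  obtain ⟨e, he, hφe, hfin⟩ := exists_finite_idempotent h φ hφ hker
  let B := E ⧸ Ideal.span ({1 - e} : Set E)
  have : IsLocalization.Away e B := IsLocalization.Away.quotient_of_isIdempotentElem he
  have : Algebra.Etale E B := Algebra.Etale.of_isLocalizationAway e
  have : Algebra.Etale A B := Algebra.Etale.comp A E B
  let ψ : B →ₐ[A] C := Ideal.Quotient.liftₐ _ φ fun a ha => by
    obtain ⟨y, rfl⟩ := Ideal.mem_span_singleton'.mp ha
    simp [hφe]
  refine ⟨B, inferInstance, inferInstance, hfin, inferInstance, ⟨AlgEquiv.ofBijective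
    (Algebra.TensorProduct.lift (Algebra.ofId (A ⧸ I) C) ψ fun _ _ => .all _ _) ⟨?_, ?_⟩⟩⟩
  · refine (injective_iff_map_eq_zero _).mpr fun z hz => ?_
    obtain ⟨b, rfl⟩ := surjective_includeRight_quotient I B z
    obtain ⟨x, rfl⟩ := Ideal.Quotient.mk_surjective b
    rw [← RingHom.mem_ker, ker_includeRight_quotient, IsScalarTower.algebraMap_eq A E B,
      ← Ideal.map_map]
    refine Ideal.mem_map_of_mem _ (hker.le ?_)
    have h0 : ψ (Ideal.Quotient.mk _ x) = 0 := by simpa using hz
    exact h0
  · intro c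
    obtain ⟨x, rfl⟩ := hφ c
    exact ⟨1 ⊗ₜ Ideal.Quotient.mk _ x, by simp; rfl⟩

end Groth.Agent.Hens
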