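import Groth.Agent.Lib.Hens.Henselization
import Groth.Agent.Lib.Compl.Noetherian
import Groth.Agent.Lib.FlatH4.LocCrit
import Mathlib.RingTheory.AdicCompletion.LocalRing
import Mathlib.RingTheory.Unramified.Finite

/-!
The henselization of a Noetherian local ring is Noetherian.
-/

open IsLocalRing

open scoped TensorProduct

namespace Groth.Agent.Hens

universe u

theorem isNoetherianRing_of_faithfullyFlat (A B : Type u) [CommRing A] [CommRing B] [Algebra A B]
    [Module.FaithfullyFlat A B] [IsNoetherianRing B] : IsNoetherianRing A := by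
  rw [isNoetherianRing_iff, ← monotone_stabilizes_iff_noetherian]
  intro f
  obtain ⟨n, hn⟩ := monotone_stabilizes_iff_noetherian.mpr
    (inferInstance : IsNoetherian B B) ⟨fun k => (Ideal.map (algebraMap A B) (f k) : Ideal B),
      fun _ _ h => Ideal.map_mono (f.monotone h)⟩
  refine ⟨n, fun m hm => ?_⟩
  have h := congrArg (Ideal.comap (algebraMap A B)) (hn m hm)
  exact (Ideal.comap_map_eq_self_of_faithfullyFlat _).symm.trans
    (h.trans (Ideal.comap_map_eq_self_of_faithfullyFlat _))

section Completion

variable {R : Type u} [CommRing R] [IsLocalRing R] {H : Type u} [CommRing H] [Algebra R H]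

/-- Reducing the completion of `H` modulo a power of an ideal of `R`. -/
noncomputable def complModPowEquiv (J : Ideal R) (hJ : (J.map (algebraMap R H)).FG) (n : ℕ) :
    ((R ⧸ J ^ n) ⊗[R] AdicCompletion (J.map (algebraMap R H)) H) ≃ₗ[R] (R ⧸ J ^ n) ⊗[R] H := by
  let I := J.map (algebraMap R H)
  let ev := (AdicCompletion.eval I H n).restrictScalars R
  have hev : Function.Surjective ev := AdicCompletion.eval_surjective I H n
  have hker : (J ^ n • ⊤ : Submodule R (AdicCompletion I H)) = LinearMap.ker ev := by
    rw [LinearMap.ker_restrictScalars, ← AdicCompletion.pow_smul_top_eq_ker_eval hJ,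
      ← Ideal.map_pow, Ideal.smul_restrictScalars, Submodule.restrictScalars_top]
  have hH : (J ^ n • ⊤ : Submodule R H) = (I ^ n • ⊤ : Submodule H H).restrictScalars R := by
    rw [← Ideal.map_pow, Ideal.smul_restrictScalars, Submodule.restrictScalars_top]
  exact TensorProduct.quotTensorEquivQuotSMul _ (J ^ n) ≪≫ₗ Submodule.quotEquivOfEq _ _ hker ≪≫ₗ
    ev.quotKerEquivOfSurjective hev ≪≫ₗ
    (Submodule.Quotient.restrictScalarsEquiv R (I ^ n • ⊤ : Submodule H H)).symm ≪≫ₗ
    Submodule.quotEquivOfEq _ _ hH.symm ≪≫ₗ
    (TensorProduct.quotTensorEquivQuotSMul _ (J ^ n)).symm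

end Completion

namespace Hs

variable {R : Type u} [CommRing R] [IsLocalRing R] [IsNoetherianRing R] {K : Type u} [Field K]
  [Algebra R K] [Algebra (ResidueField R) K] [IsScalarTower R (ResidueField R) K]

theorem fg_maximalIdeal : (maximalIdeal (Hs R K)).FG :=
  map_maximalIdeal (R := R) (K := K) ▸ Ideal.FG.map (IsNoetherian.noetherian (maximalIdeal R)) _

/-- The completion of the colimit. -/
abbrev Compl (R : Type u) [CommRing R] [IsLocalRing R] (K : Type u) [Field K] [Algebra R K] :
    Type u := AdicCompletion ((maximalIdeal R).map (algebraMap R (Hs R K))) (Hs R K)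

theorem fg_map_maximalIdeal : ((maximalIdeal R).map (algebraMap R (Hs R K))).FG :=
  Ideal.FG.map (IsNoetherian.noetherian (maximalIdeal R)) _

instance : IsNoetherianRing (Compl R K) := by
  have : ((maximalIdeal R).map (algebraMap R (Hs R K))).IsMaximal := by
    rw [map_maximalIdeal]; infer_instance
  let _ := Ideal.Quotient.field ((maximalIdeal R).map (algebraMap R (Hs R K)))
  exact Compl.isNoetherianRing_adicCompletion _ fg_map_maximalIdeal

theorem isLocalRing_compl : IsLocalRing (Compl R K) := by
  unfold Compl
  rw [map_maximalIdeal]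
  exact AdicCompletion.isLocalRing_of_fg fg_maximalIdeal

theorem flat_compl : Module.Flat R (Compl R K) := by
  have := AdicCompletion.isAdicComplete_self
    ((maximalIdeal R).map (algebraMap R (Hs R K))) fg_map_maximalIdeal
  refine Groth.Agent.FlatH4.flat_of_forall_flat_quotient_pow (S := Compl R K) (maximalIdeal R) ?_
    fun n _ => ?_
  · rw [IsScalarTower.algebraMap_eq R (Hs R K) (Compl R K), ← Ideal.map_map]
    exact IsAdicComplete.le_jacobson_bot _
  · exact Module.Flat.of_linearEquiv
      ((complModPowEquiv (maximalIdeal R) fg_map_maximalIdeal n).extendScalarsOfSurjective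
        Ideal.Quotient.mk_surjective)

omit [IsLocalRing R] [IsNoetherianRing R] [Algebra (ResidueField R) K]
  [IsScalarTower R (ResidueField R) K] in
/-- A module over the colimit which is flat over the base is flat. -/
theorem flat_of_flat_base (M : Type u) [AddCommGroup M] [Module R M] [Module (Hs R K) M]
    [IsScalarTower R (Hs R K) M] [Module.Flat R M] : Module.Flat (Hs R K) M := by
  refine Module.Flat.iff_forall_isTrivialRelation.mpr ?_
  intro l c x hx
  obtain ⟨i, hi⟩ := exists_of_finset Finset.univ c
  choose y hy using hi
  let _ : Module i.G M := Module.compHom M (of i).toRingHom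
  have : IsScalarTower R i.G M := ⟨fun r g m => by
    show of i (r • g) • m = r • of i g • m
    rw [map_smul, smul_assoc]⟩
  have : Module.Flat i.G M := Algebra.FormallyUnramified.flat_of_restrictScalars R i.G M
  have h0 : ∑ a, y a (Finset.mem_univ a) • x a = 0 := by
    rw [← hx]
    exact Finset.sum_congr rfl fun a _ => by
      show of i (y a _) • x a = c a • x a
      rw [hy]
  obtain ⟨m, α, w, hw, hα⟩ :=
    (Module.Flat.iff_forall_isTrivialRelation (R := i.G) (M := M)).mp inferInstance h0
  refine ⟨m, fun a b => of i (α a b), w, fun a => ?_, fun b => ?_⟩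
  · exact hw a
  · rw [← map_zero (of i), ← hα b, map_sum]
    exact Finset.sum_congr rfl fun a _ => by rw [map_mul, hy]

instance faithfullyFlat_compl : Module.FaithfullyFlat (Hs R K) (Compl R K) := by
  have := flat_compl (R := R) (K := K)
  have hflat : Module.Flat (Hs R K) (Compl R K) := flat_of_flat_base (R := R) (K := K) _
  have := isLocalRing_compl (R := R) (K := K)
  have : IsLocalHom (algebraMap (Hs R K) (Compl R K)) := by
    refine ((local_hom_TFAE _).out 2 0 rfl rfl).mp ?_
    have hne : (maximalIdeal (Hs R K)).map (algebraMap (Hs R K) (Compl R K)) ≠ ⊤ := by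
      have := AdicCompletion.isAdicComplete_self
        ((maximalIdeal R).map (algebraMap R (Hs R K))) fg_map_maximalIdeal
      rw [← map_maximalIdeal]
      intro h
      have h' := IsAdicComplete.le_jacobson_bot
        (((maximalIdeal R).map (algebraMap R (Hs R K))).map (algebraMap (Hs R K) (Compl R K)))
      rw [h, top_le_iff, Ideal.jacobson_eq_top_iff] at h'
      exact bot_ne_top h'
    exact le_maximalIdeal hne
  exact Module.FaithfullyFlat.of_flat_of_isLocalHom

instance : IsNoetherianRing (Hs R K) := isNoetherianRing_of_faithfullyFlat _ (Compl R K)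

end Hs

variable (R S : Type u) [CommRing R] [IsLocalRing R] [CommRing S] [IsLocalRing S] [Algebra R S]
  [IsLocalHom (algebraMap R S)]

theorem henselization_isNoetherianRing [IsNoetherianRing R] [Hensel.IsHenselization R S] :
    IsNoetherianRing S :=
  let ⟨e⟩ := exists_henselization_equiv R S
  isNoetherianRing_of_ringEquiv (Hh R) e.toRingEquiv

theorem strictHenselization_isNoetherianRing [IsNoetherianRing R]
    [Hensel.IsStrictHenselization R S] : IsNoetherianRing S :=
  let ⟨e⟩ := exists_strictHenselization_equiv R S
  isNoetherianRing_of_ringEquiv (Hsh R) e.toRingEquiv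

theorem henselization_isNoetherianRing_iff [Hensel.IsHenselization R S] :
    IsNoetherianRing S ↔ IsNoetherianRing R :=
  ⟨fun _ => have := henselization_faithfullyFlat R S; isNoetherianRing_of_faithfullyFlat R S,
    fun _ => henselization_isNoetherianRing R S⟩

theorem strictHenselization_isNoetherianRing_iff [Hensel.IsStrictHenselization R S] :
    IsNoetherianRing S ↔ IsNoetherianRing R :=
  ⟨fun _ => have := strictHenselization_faithfullyFlat R S; isNoetherianRing_of_faithfullyFlat R S,
    fun _ => strictHenselization_isNoetherianRing R S⟩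

end Groth.Agent.Hens
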