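import Groth.Agent.Lib.Hens.Reduced
import Mathlib.RingTheory.Smooth.IntegralClosure
import Mathlib.RingTheory.IntegralClosure.IntegrallyClosed
import Mathlib.RingTheory.Artinian.Module
import Mathlib.RingTheory.Polynomial.ScaleRoots
import Mathlib.RingTheory.Unramified.Finite

/-!
Henselizations of normal domains are normal domains.
-/

open IsLocalRing Polynomial

open scoped TensorProduct

namespace Groth.Agent.Hens

universe u

theorem isField_of_isArtinian_of_isReduced_of_idempotent (T : Type u) [CommRing T] [Nontrivial T]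
    [IsArtinianRing T] [IsReduced T] (h : ∀ e : T, IsIdempotentElem e → e = 0 ∨ e = 1) :
    IsField T := by
  classical
  have hsub : Subsingleton (MaximalSpectrum T) := by
    refine ⟨fun I J => ?_⟩
    by_contra hne
    let v : Π M : MaximalSpectrum T, T ⧸ M.asIdeal := fun M => if M = I then 1 else 0
    have hv : IsIdempotentElem ((IsArtinianRing.equivPi T).symm v) := by
      show _ * _ = _
      rw [← map_mul]
      congr 1
      funext M
      by_cases hM : M = I <;> simp [v, hM]
    have hI := I.isMaximal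
    have hJ := J.isMaximal
    rcases h _ hv with h0 | h1
    · have := congrFun ((congrArg (IsArtinianRing.equivPi T) h0)) I
      rw [AlgEquiv.apply_symm_apply, map_zero, Pi.zero_apply] at this
      simp [v] at this
    · have := congrFun ((congrArg (IsArtinianRing.equivPi T) h1)) J
      rw [AlgEquiv.apply_symm_apply, map_one, Pi.one_apply] at this
      simp [v, Ne.symm hne] at this
  have : IsLocalRing T := by
    obtain ⟨M, hM⟩ := Ideal.exists_maximal T
    exact IsLocalRing.of_unique_max_ideal ⟨M, hM, fun N hN =>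
      congrArg MaximalSpectrum.asIdeal (Subsingleton.elim ⟨N, hN⟩ ⟨M, hM⟩)⟩
  exact IsArtinianRing.isField_of_isReduced_of_isLocalRing T

theorem isDomain_isIntegrallyClosed_of_toIntegralClosure (R G : Type u) [CommRing R] [IsDomain R]
    [IsIntegrallyClosed R] [CommRing G] [IsLocalRing G] [Algebra R G] [Module.Flat R G]
    [Algebra.FormallyUnramified R G] [Algebra.EssFiniteType R G]
    (h : Function.Bijective (TensorProduct.toIntegralClosure R G (FractionRing R))) :
    IsDomain G ∧ IsIntegrallyClosed G := by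
  let K := FractionRing R
  have hinj : Function.Injective (algebraMap G (G ⊗[R] K)) := by
    intro a b hab
    apply (TensorProduct.rid R G).symm.injective
    apply Module.Flat.lTensor_preserves_injective_linearMap (M := G) (Algebra.linearMap R K)
      (IsFractionRing.injective R K)
    show (LinearMap.lTensor G (Algebra.linearMap R K)) (a ⊗ₜ[R] 1) = (LinearMap.lTensor G (Algebra.linearMap R K)) (b ⊗ₜ[R] 1)
    rw [LinearMap.lTensor_tmul, LinearMap.lTensor_tmul, Algebra.linearMap_apply, map_one]
    exact hab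
  have hint : ∀ z : G ⊗[R] K, IsIntegral G z → ∃ g : G, algebraMap G (G ⊗[R] K) g = z := by
    intro z hz
    obtain ⟨w, hw⟩ := h.2 ⟨z, hz⟩
    have hw' : Algebra.TensorProduct.map (AlgHom.id G G) (integralClosure R K).val w = z :=
      congrArg Subtype.val hw
    clear hw hz
    subst hw'
    induction w with
    | zero => exact ⟨0, by simp⟩
    | add a b ha hb =>
      obtain ⟨x, hx⟩ := ha
      obtain ⟨y, hy⟩ := hb
      exact ⟨x + y, by rw [map_add, map_add, hx, hy]⟩
    | tmul g y =>
      obtain ⟨r, hr⟩ := IsIntegrallyClosed.isIntegral_iff.mp y.2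
      refine ⟨r • g, ?_⟩
      show (r • g) ⊗ₜ[R] (1 : K) = g ⊗ₜ[R] (y : K)
      rw [← hr, TensorProduct.smul_tmul, Algebra.smul_def, mul_one]
  have := Module.Free.of_divisionRing K (K ⊗[R] G)
  have : Module.Finite K (K ⊗[R] G) := Algebra.FormallyUnramified.finite_of_free _ _
  have : IsReduced (K ⊗[R] G) := Algebra.FormallyUnramified.isReduced_of_field K _
  have : IsArtinianRing (K ⊗[R] G) := IsArtinianRing.of_finite K _
  let c := Algebra.TensorProduct.comm R G K
  have : IsReduced (G ⊗[R] K) := isReduced_of_injective c.toRingHom c.injective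
  have : IsArtinianRing (G ⊗[R] K) :=
    c.symm.surjective.isArtinianRing (f := c.symm.toRingHom)
  have : Nontrivial (G ⊗[R] K) := hinj.nontrivial
  have hfield : IsField (G ⊗[R] K) := by
    refine isField_of_isArtinian_of_isReduced_of_idempotent _ fun e he => ?_
    obtain ⟨g, rfl⟩ := hint e ⟨X ^ 2 - X, monic_X_pow_sub (by simp), by
      rw [eval₂_sub, eval₂_pow, eval₂_X, sq, he.eq, sub_self]⟩
    rcases IsLocalRing.isUnit_or_isUnit_one_sub_self g with hu | hu
    · right
      have hgg : g * g = g := hinj (by rw [map_mul]; exact he)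
      rw [hu.mul_left_cancel (hgg.trans (mul_one g).symm), map_one]
    · left
      have hgg : g * g = g := hinj (by rw [map_mul]; exact he)
      have h0 : (1 - g) * g = (1 - g) * 0 := by rw [mul_zero, sub_mul, one_mul, hgg, sub_self]
      rw [hu.mul_left_cancel h0, map_zero]
  let _ := hfield.toField
  have hdom : IsDomain G := hinj.isDomain (algebraMap G (G ⊗[R] K))
  refine ⟨hdom, (isIntegrallyClosed_iff (FractionRing G)).mpr fun {z} hz => ?_⟩
  let ι : FractionRing G →ₐ[G] G ⊗[R] K := IsFractionRing.liftAlgHom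
    (g := Algebra.ofId G (G ⊗[R] K)) hinj
  obtain ⟨g, hg⟩ := hint _ (hz.map ι)
  exact ⟨g, ι.toRingHom.injective ((ι.commutes g).trans hg)⟩

theorem Nbhd.isDomain_isIntegrallyClosed {R K : Type u} [CommRing R] [IsDomain R]
    [IsIntegrallyClosed R] [Field K] [Algebra R K] (i : Nbhd R K) :
    IsDomain i.G ∧ IsIntegrallyClosed i.G := by
  refine isDomain_isIntegrallyClosed_of_toIntegralClosure R i.G ?_
  exact TensorProduct.toIntegralClosure_bijective_of_tower (S := i.S)
    TensorProduct.toIntegralClosure_bijective_of_smooth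
    (TensorProduct.toIntegralClosure_bijective_of_isLocalization i.q.primeCompl)

theorem Hs.isDomain_isIntegrallyClosed {R K : Type u} [CommRing R] [IsDomain R]
    [IsIntegrallyClosed R] [Field K] [Algebra R K] :
    IsDomain (Hs R K) ∧ IsIntegrallyClosed (Hs R K) := by
  have hd : IsDomain (Hs R K) := by
    have : Nontrivial (Hs R K) := inferInstance
    refine @NoZeroDivisors.to_isDomain _ _ _ ⟨fun {a b} hab => ?_⟩
    obtain ⟨i, x, rfl⟩ := Hs.exists_of a
    obtain ⟨j, y, rfl⟩ := Hs.exists_of b
    obtain ⟨k, hik, hjk⟩ := exists_ge_ge i j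
    rw [← Hs.of_map hik, ← Hs.of_map hjk, ← map_mul, ← map_zero (Hs.of k)] at hab
    obtain ⟨l, hl, hl', hlk⟩ := Hs.of_eq_of_iff.mp hab
    have := (Nbhd.isDomain_isIntegrallyClosed l).1
    rw [map_mul, map_zero] at hlk
    rcases eq_zero_or_eq_zero_of_mul_eq_zero hlk with h | h
    · exact Or.inl (by rw [← Hs.of_map hik, ← Hs.of_map hl, h, map_zero])
    · exact Or.inr (by rw [← Hs.of_map hjk, ← Hs.of_map hl, h, map_zero])
  refine ⟨hd, (isIntegrallyClosed_iff (FractionRing (Hs R K))).mpr fun {z} hz => ?_⟩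
  obtain ⟨p, hp, hpz⟩ := hz
  obtain ⟨a, b, hb, rfl⟩ := IsFractionRing.div_surjective (Hs R K) z
  obtain ⟨i₀, g₀, hg₀, p₀, hp₀, hpp₀⟩ := Hs.exists_away_monic p hp
  obtain ⟨i₁, x, rfl⟩ := Hs.exists_of a
  obtain ⟨i₂, y, rfl⟩ := Hs.exists_of b
  obtain ⟨j, h₀, h₁⟩ := exists_ge_ge i₀ i₁
  obtain ⟨k, hjk, h₂⟩ := exists_ge_ge j i₂
  let q : k.G[X] := p₀.map ((Nbhd.map (h₀.trans hjk)).toRingHom.comp
    (IsLocalization.Away.lift g₀ (g := algebraMap i₀.S i₀.G)
      (IsLocalization.map_units (M := i₀.q.primeCompl) i₀.G ⟨g₀, hg₀⟩)))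
  have hq : q.Monic := hp₀.map _
  have hqp : q.map (Hs.of k).toRingHom = p := by
    rw [← hpp₀, Polynomial.map_map]
    congr 1
    exact RingHom.ext fun w => Hs.of_map (h₀.trans hjk) _
  let x' : k.G := Nbhd.map (h₁.trans hjk) x
  let y' : k.G := Nbhd.map h₂ y
  have hroot : Hs.of k ((q.scaleRoots y').eval x') = Hs.of k 0 := by
    have h1 : (p.scaleRoots (Hs.of i₂ y)).eval (Hs.of i₁ x) = 0 := by
      apply IsFractionRing.injective (Hs R K) (FractionRing (Hs R K))
      rw [map_zero, ← eval₂_at_apply]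
      have h2 := scaleRoots_eval₂_mul (p := p) (algebraMap (Hs R K) (FractionRing (Hs R K)))
        (algebraMap (Hs R K) (FractionRing (Hs R K)) (Hs.of i₁ x) /
          algebraMap (Hs R K) (FractionRing (Hs R K)) (Hs.of i₂ y)) (Hs.of i₂ y)
      rw [mul_div_cancel₀ _ (IsFractionRing.to_map_ne_zero_of_mem_nonZeroDivisors hb), hpz,
        mul_zero] at h2
      exact h2
    rw [map_zero]
    refine Eq.trans ?_ h1
    show (Hs.of k).toRingHom _ = _
    rw [← eval₂_at_apply, ← eval_map, map_scaleRoots _ _ _ (by rw [hq.leadingCoeff, map_one]; exact one_ne_zero),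
      hqp]
    show (p.scaleRoots (Hs.of k (Nbhd.map h₂ y))).eval (Hs.of k (Nbhd.map (h₁.trans hjk) x)) = _
    rw [Hs.of_map, Hs.of_map]
  obtain ⟨l, hl, hl', hlk⟩ := Hs.of_eq_of_iff.mp hroot
  obtain ⟨hdl, hcl⟩ := Nbhd.isDomain_isIntegrallyClosed l
  rw [map_zero] at hlk
  let φ : k.G →+* l.G := (Nbhd.map hl).toRingHom
  have hy0 : φ y' ≠ 0 := fun h0 => nonZeroDivisors.ne_zero hb (by
    rw [← Hs.of_map h₂, ← Hs.of_map hl]
    exact (congrArg (Hs.of l) h0).trans (map_zero _))
  have hdvd : φ y' ∣ φ x' := by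
    have hint : IsIntegral l.G (algebraMap l.G (FractionRing l.G) (φ x') /
        algebraMap l.G (FractionRing l.G) (φ y')) := by
      refine ⟨q.map φ, hq.map _, ?_⟩
      have hy0' : algebraMap l.G (FractionRing l.G) (φ y') ≠ 0 := by
        simpa [map_ne_zero_iff _ (IsFractionRing.injective l.G (FractionRing l.G))] using hy0
      have h2 := scaleRoots_eval₂_mul (p := q.map φ) (algebraMap l.G (FractionRing l.G))
        (algebraMap l.G (FractionRing l.G) (φ x') / algebraMap l.G (FractionRing l.G) (φ y'))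
        (φ y')
      rw [mul_div_cancel₀ _ hy0', eval₂_at_apply,
        ← map_scaleRoots _ _ _ (by rw [hq.leadingCoeff, map_one]; exact one_ne_zero), eval_map,
        eval₂_at_apply, show φ ((q.scaleRoots y').eval x') = 0 from hlk, map_zero] at h2
      exact (mul_eq_zero.mp h2.symm).resolve_left (pow_ne_zero _ hy0')
    obtain ⟨w, hw⟩ := IsIntegrallyClosed.isIntegral_iff.mp hint
    refine ⟨w, IsFractionRing.injective l.G (FractionRing l.G) ?_⟩
    rw [map_mul, hw, mul_div_cancel₀]
    simpa [map_ne_zero_iff _ (IsFractionRing.injective l.G (FractionRing l.G))] using hy0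
  obtain ⟨w, hw⟩ := hdvd
  refine ⟨Hs.of l w, ?_⟩
  rw [eq_div_iff (IsFractionRing.to_map_ne_zero_of_mem_nonZeroDivisors hb), ← map_mul]
  congr 1
  have h3 := congrArg (Hs.of l) hw
  rw [show Hs.of l (φ x') = Hs.of i₁ x from by
    show Hs.of l (Nbhd.map hl _) = _
    rw [Hs.of_map, Hs.of_map], map_mul, show Hs.of l (φ y') = Hs.of i₂ y from by
    show Hs.of l (Nbhd.map hl _) = _
    rw [Hs.of_map, Hs.of_map]] at h3
  rw [h3, mul_comm]

theorem isIntegrallyClosed_of_faithfullyFlat (R S : Type u) [CommRing R] [CommRing S] [Algebra R S]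
    [Module.FaithfullyFlat R S] [IsDomain S] [IsIntegrallyClosed S] :
    IsDomain R ∧ IsIntegrallyClosed R := by
  have hinj : Function.Injective (algebraMap R S) := FaithfulSMul.algebraMap_injective R S
  have : IsDomain R := hinj.isDomain (algebraMap R S)
  refine ⟨this, (isIntegrallyClosed_iff (FractionRing R)).mpr fun {z} hz => ?_⟩
  obtain ⟨a, b, hb, rfl⟩ := IsFractionRing.div_surjective R z
  let ψ : FractionRing R →ₐ[R] FractionRing S := IsFractionRing.liftAlgHom
    (g := Algebra.ofId R (FractionRing S)) (by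
      show Function.Injective (algebraMap R (FractionRing S))
      rw [IsScalarTower.algebraMap_eq R S (FractionRing S)]
      exact (IsFractionRing.injective S (FractionRing S)).comp hinj)
  obtain ⟨s, hs⟩ := IsIntegrallyClosed.isIntegral_iff.mp ((hz.map ψ).tower_top (A := S))
  rw [map_div₀, AlgHom.commutes, AlgHom.commutes,
    IsScalarTower.algebraMap_apply R S (FractionRing S) a,
    IsScalarTower.algebraMap_apply R S (FractionRing S) b, eq_div_iff (by
      rw [ne_eq, map_eq_zero_iff _ (IsFractionRing.injective S (FractionRing S)),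
        map_eq_zero_iff _ hinj]
      exact nonZeroDivisors.ne_zero hb), ← map_mul] at hs
  have ha : a ∈ Ideal.span {b} := by
    rw [← Ideal.comap_map_eq_self_of_faithfullyFlat (B := S) (Ideal.span {b}), Ideal.mem_comap,
      ← IsFractionRing.injective S (FractionRing S) hs]
    exact Ideal.mul_mem_left _ _ (Ideal.mem_map_of_mem _ (Ideal.mem_span_singleton_self b))
  obtain ⟨r, hr⟩ := Ideal.mem_span_singleton.mp ha
  refine ⟨r, ?_⟩
  rw [eq_div_iff (IsFractionRing.to_map_ne_zero_of_mem_nonZeroDivisors hb), ← map_mul, hr, mul_comm]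

variable (R S : Type u) [CommRing R] [IsLocalRing R] [CommRing S] [IsLocalRing S] [Algebra R S]
  [IsLocalHom (algebraMap R S)]

theorem isNormal_of_algEquiv {A B : Type u} [CommRing A] [CommRing B] (e : A ≃+* B)
    (h : IsDomain A ∧ IsIntegrallyClosed A) : IsDomain B ∧ IsIntegrallyClosed B := by
  obtain ⟨_, _⟩ := h
  exact ⟨(show Function.Injective e.symm.toRingHom from e.symm.injective).isDomain e.symm.toRingHom, IsIntegrallyClosed.of_equiv e⟩

theorem henselization_normal_iff [Hensel.IsHenselization R S] :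
    (IsDomain R ∧ IsIntegrallyClosed R) ↔ (IsDomain S ∧ IsIntegrallyClosed S) := by
  refine ⟨fun ⟨_, _⟩ => ?_, fun ⟨_, _⟩ => ?_⟩
  · obtain ⟨e⟩ := exists_henselization_equiv R S
    exact isNormal_of_algEquiv e.toRingEquiv Hs.isDomain_isIntegrallyClosed
  · have := henselization_faithfullyFlat R S
    exact isIntegrallyClosed_of_faithfullyFlat R S

theorem strictHenselization_normal_iff [Hensel.IsStrictHenselization R S] :
    (IsDomain S ∧ IsIntegrallyClosed S) ↔ (IsDomain R ∧ IsIntegrallyClosed R) := by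
  refine ⟨fun ⟨_, _⟩ => ?_, fun ⟨_, _⟩ => ?_⟩
  · have := strictHenselization_faithfullyFlat R S
    exact isIntegrallyClosed_of_faithfullyFlat R S
  · obtain ⟨e⟩ := exists_strictHenselization_equiv R S
    exact isNormal_of_algEquiv e.toRingEquiv Hs.isDomain_isIntegrallyClosed

end Groth.Agent.Hens
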