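import Groth.Agent.Lib.Hens.Pair
import Mathlib.Dynamics.Newton
import Mathlib.Algebra.Group.Pi.Units

/-!
Operations on henselian pairs.
-/

open Polynomial

namespace Groth.Agent.Hens

universe u v

variable {A : Type u} [CommRing A] {I J : Ideal A}

theorem isUnit_of_isUnit_mk (hI : I ≤ Ideal.jacobson ⊥) {x : A}
    (hx : IsUnit (Ideal.Quotient.mk I x)) : IsUnit x :=
  have := isLocalHom_of_le_jacobson_bot I hI
  IsUnit.of_map (Ideal.Quotient.mk I) _ hx

theorem henselianRing_of_le (h : HenselianRing A J) (hIJ : I ≤ J) : HenselianRing A I where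
  jac := hIJ.trans h.jac
  is_henselian f hf a₀ h₀ h₁ := by
    have hu := isUnit_of_isUnit_mk (hIJ.trans h.jac) h₁
    obtain ⟨a, ha, haJ⟩ := h.is_henselian f hf a₀ (hIJ h₀) (hu.map _)
    refine ⟨a, ha, ?_⟩
    obtain ⟨k, hk⟩ := exists_mul_sq_add_linear_part_eq_eval_add f a₀ (a - a₀)
    rw [add_sub_cancel, ha.eq_zero] at hk
    have hunit : IsUnit (f.derivative.eval a₀ + k * (a - a₀)) := by
      refine isUnit_of_isUnit_mk h.jac ?_
      rw [map_add, Ideal.Quotient.eq_zero_iff_mem.mpr (J.mul_mem_left k haJ), add_zero]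
      exact hu.map _
    rw [← I.unit_mul_mem_iff_mem hunit]
    have : (f.derivative.eval a₀ + k * (a - a₀)) * (a - a₀) = - f.eval a₀ := by
      linear_combination hk
    rw [this]
    exact neg_mem h₀

theorem henselianRing_of_nilpotent (hI : ∀ x ∈ I, IsNilpotent x) : HenselianRing A I where
  jac := fun x hx => Ideal.mem_jacobson_bot.mpr fun y => by
    rw [mul_comm, add_comm]
    exact (((Commute.all y x).isNilpotent_mul_left (hI x hx))).isUnit_one_add
  is_henselian f hf a₀ h₀ h₁ := by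
    have hu : IsUnit (aeval a₀ f.derivative) := by
      rw [coe_aeval_eq_eval]
      refine isUnit_of_isUnit_mk ?_ h₁
      intro x hx
      refine Ideal.mem_jacobson_bot.mpr fun y => ?_
      rw [mul_comm, add_comm]
      exact (((Commute.all y x).isNilpotent_mul_left (hI x hx))).isUnit_one_add
    obtain ⟨a, ⟨ha, ha'⟩, -⟩ := existsUnique_nilpotent_sub_and_aeval_eq_zero (P := f)
      (x := a₀) (by rw [coe_aeval_eq_eval]; exact hI _ h₀) hu
    rw [coe_aeval_eq_eval] at ha'
    refine ⟨a, ha', ?_⟩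
    obtain ⟨k, hk⟩ := exists_mul_sq_add_linear_part_eq_eval_add f a₀ (a - a₀)
    rw [add_sub_cancel, ha'] at hk
    rw [coe_aeval_eq_eval] at hu
    have hn : IsNilpotent (k * (a - a₀)) := by
      refine (Commute.all _ _).isNilpotent_mul_left ?_
      rw [← neg_sub, isNilpotent_neg_iff]; exact ha
    rw [← I.unit_mul_mem_iff_mem (hn.isUnit_add_right_of_commute hu (Commute.all _ _)), add_comm]
    have : (f.derivative.eval a₀ + k * (a - a₀)) * (a - a₀) = - f.eval a₀ := by
      linear_combination hk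
    rw [this]
    exact neg_mem h₀

theorem henselianRing_bot : HenselianRing A (⊥ : Ideal A) :=
  henselianRing_of_nilpotent fun x hx => by rw [Ideal.mem_bot.mp hx]; exact IsNilpotent.zero

/-- Transitivity. -/
theorem henselianRing_trans (hIJ : I ≤ J) (h : HenselianRing A I)
    (h' : HenselianRing (A ⧸ I) (J.map (Ideal.Quotient.mk I))) : HenselianRing A J := by
  have hjac : J ≤ Ideal.jacobson ⊥ := by
    intro x hx
    rw [Ideal.mem_jacobson_bot]
    intro y
    refine isUnit_of_isUnit_mk h.jac ?_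
    rw [map_add, map_mul, map_one]
    exact Ideal.mem_jacobson_bot.mp (h'.jac (Ideal.mem_map_of_mem _ hx)) _
  refine ⟨hjac, fun f hf a₀ h₀ h₁ => ?_⟩
  obtain ⟨b, hb, hbJ⟩ := h'.is_henselian (f.map (Ideal.Quotient.mk I)) (hf.map _)
    (Ideal.Quotient.mk I a₀) (by rw [eval_map, eval₂_at_apply]; exact Ideal.mem_map_of_mem _ h₀)
    (by
      rw [derivative_map, eval_map, eval₂_at_apply]
      exact ((isUnit_of_isUnit_mk hjac h₁).map _).map _)
  obtain ⟨b, rfl⟩ := Ideal.Quotient.mk_surjective b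
  have hbJ : b - a₀ ∈ J := by
    rw [← map_sub, ← Ideal.mem_comap,
      Ideal.comap_map_of_surjective' _ Ideal.Quotient.mk_surjective, Ideal.mk_ker,
      sup_eq_left.mpr hIJ] at hbJ
    exact hbJ
  rw [IsRoot, eval_map, eval₂_at_apply, Ideal.Quotient.eq_zero_iff_mem] at hb
  have hu : IsUnit (f.derivative.eval b) := by
    refine isUnit_of_isUnit_mk hjac ?_
    have : Ideal.Quotient.mk J b = Ideal.Quotient.mk J a₀ := Ideal.Quotient.eq.mpr hbJ
    rwa [← eval₂_at_apply, this, eval₂_at_apply]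
  obtain ⟨a, ha, haI⟩ := h.is_henselian f hf b hb (hu.map _)
  exact ⟨a, ha, by simpa using add_mem (hIJ haI) hbJ⟩

theorem henselianRing_iff_of_le (hIJ : I ≤ J) : HenselianRing A J ↔
    (HenselianRing A I ∧ HenselianRing (A ⧸ I) (J.map (Ideal.Quotient.mk I))) :=
  ⟨fun h => ⟨henselianRing_of_le h hIJ, henselianRing_of_isIntegral (B := A ⧸ I) h⟩,
    fun h => henselianRing_trans hIJ h.1 h.2⟩

theorem henselianRing_radical (h : HenselianRing A I) : HenselianRing A I.radical := by
  refine henselianRing_trans Ideal.le_radical h (henselianRing_of_nilpotent fun x hx => ?_)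
  obtain ⟨y, ⟨n, hn⟩, rfl⟩ := (Ideal.mem_map_iff_of_surjective _ Ideal.Quotient.mk_surjective).mp hx
  exact ⟨n, by rw [← map_pow, Ideal.Quotient.eq_zero_iff_mem]; exact hn⟩

theorem henselianRing_iff_of_radical_eq (h : I.radical = J.radical) :
    HenselianRing A I ↔ HenselianRing A J :=
  ⟨fun hI => henselianRing_of_le (henselianRing_radical hI) (h ▸ Ideal.le_radical),
    fun hJ => henselianRing_of_le (henselianRing_radical hJ) (h ▸ Ideal.le_radical)⟩

theorem henselianRing_sup (hI : HenselianRing A I) (hJ : HenselianRing A J) :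
    HenselianRing A (I ⊔ J) := by
  refine henselianRing_trans le_sup_left hI ?_
  rw [Ideal.map_sup, Ideal.map_quotient_self, bot_sup_eq]
  exact henselianRing_of_isIntegral (B := A ⧸ I) hJ

theorem exists_largest_henselian (A : Type u) [CommRing A] :
    ∃ I : Ideal A, HenselianRing A I ∧ ∀ J : Ideal A, HenselianRing A J → J ≤ I := by
  let s : Set (Ideal A) := {J | HenselianRing A J}
  have hdir : DirectedOn (· ≤ ·) s := fun a ha b hb =>
    ⟨a ⊔ b, henselianRing_sup ha hb, le_sup_left, le_sup_right⟩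
  have hne : s.Nonempty := ⟨⊥, henselianRing_bot⟩
  refine ⟨sSup s, ⟨sSup_le fun J (hJ : HenselianRing A J) => hJ.jac, fun f hf a₀ h₀ h₁ => ?_⟩,
    fun J hJ => le_sSup hJ⟩
  obtain ⟨J, (hJ : HenselianRing A J), h₀'⟩ := (Submodule.mem_sSup_of_directed hne hdir).mp h₀
  obtain ⟨a, ha, haJ⟩ := hJ.is_henselian f hf a₀ h₀'
    ((isUnit_of_isUnit_mk (sSup_le fun J (hJ : HenselianRing A J) => hJ.jac) h₁).map _)
  exact ⟨a, ha, (le_sSup (show J ∈ s from hJ)) haJ⟩

theorem henselianRing_pi_iff {ι : Type u} (R : ι → Type u) [∀ j, CommRing (R j)]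
    (K : ∀ j, Ideal (R j)) :
    HenselianRing (∀ j, R j) (⨅ j, Ideal.comap (Pi.evalRingHom R j) (K j)) ↔
      ∀ j, HenselianRing (R j) (K j) := by
  classical
  set P := ⨅ j, Ideal.comap (Pi.evalRingHom R j) (K j)
  have hmem : ∀ x, x ∈ P ↔ ∀ j, x j ∈ K j := fun x => by simp [P]
  constructor
  · intro h j
    let _ : Algebra (∀ j, R j) (R j) := (Pi.evalRingHom R j).toAlgebra
    have hsur : Function.Surjective (algebraMap (∀ j, R j) (R j)) :=
      fun x => ⟨Pi.single j x, Pi.single_eq_same j x⟩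
    have : Algebra.IsIntegral (∀ j, R j) (R j) := ⟨fun x => by
      obtain ⟨y, rfl⟩ := hsur x; exact isIntegral_algebraMap⟩
    have heq : P.map (algebraMap (∀ j, R j) (R j)) = K j := by
      refine le_antisymm (Ideal.map_le_iff_le_comap.mpr fun x hx => (hmem x).mp hx j) fun x hx => ?_
      rw [← (Pi.single_eq_same j x : (Pi.single j x : ∀ k, R k) j = x)]
      show algebraMap (∀ j, R j) (R j) (Pi.single j x) ∈ _
      refine Ideal.mem_map_of_mem _ ((hmem _).mpr fun k => ?_)
      rcases eq_or_ne k j with rfl | hk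
      · simpa using hx
      · simp [Pi.single_eq_of_ne hk]
    exact heq ▸ henselianRing_of_isIntegral h
  · intro h
    refine ⟨fun x hx => Ideal.mem_jacobson_bot.mpr fun y => Pi.isUnit_iff.mpr fun j =>
      Ideal.mem_jacobson_bot.mp ((h j).jac ((hmem x).mp hx j)) (y j), fun f hf a₀ h₀ h₁ => ?_⟩
    have he : ∀ (g : (∀ j, R j)[X]) (a : ∀ j, R j) j,
        (g.map (Pi.evalRingHom R j)).eval (a j) = g.eval a j := fun g a j => by
      rw [eval_map, show a j = Pi.evalRingHom R j a from rfl, eval₂_at_apply]; rfl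
    choose a ha haI using fun j => (h j).is_henselian (f.map (Pi.evalRingHom R j)) (hf.map _)
      (a₀ j) (by rw [he]; exact (hmem _).mp h₀ j) (by
        obtain ⟨w, hw⟩ := h₁.exists_right_inv
        obtain ⟨w, rfl⟩ := Ideal.Quotient.mk_surjective w
        rw [derivative_map, he]
        refine IsUnit.of_mul_eq_one (Ideal.Quotient.mk (K j) (w j)) ?_
        rw [← map_mul, ← map_one (Ideal.Quotient.mk (K j)), Ideal.Quotient.eq]
        rw [← map_mul, ← map_one (Ideal.Quotient.mk P), Ideal.Quotient.eq] at hw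
        exact (hmem _).mp hw j)
    exact ⟨a, funext fun j => (he f a j).symm.trans (ha j), (hmem _).mpr haI⟩

/-- Gabber's criterion. -/
theorem henselianRing_iff_gabber :
    HenselianRing A I ↔ (I ≤ Ideal.jacobson ⊥ ∧
      ∀ (n : ℕ), 0 < n → ∀ p : A[X], p.natDegree ≤ n → (∀ i, p.coeff i ∈ I) →
        ∃! α : A, α - 1 ∈ I ∧ IsRoot (X ^ n * (X - 1) + p) α) := by
  constructor
  · intro h
    refine ⟨h.jac, fun n hn p hp hpI => ?_⟩
    have hmap : (X ^ n * (X - 1) + p).map (Ideal.Quotient.mk I) = X ^ n * (X - 1) := by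
      have : p.map (Ideal.Quotient.mk I) = 0 := by
        ext i; simpa using Ideal.Quotient.eq_zero_iff_mem.mpr (hpI i)
      simp [this]
    have hmonic : (X ^ n * (X - 1) + p).Monic := by
      nontriviality A
      refine ((monic_X_pow n).mul (monic_X_sub_C (1 : A))).add_of_left ?_
      refine (degree_le_natDegree.trans (Nat.cast_le.mpr hp)).trans_lt ?_
      rw [degree_mul' (by simpa using X_sub_C_ne_zero (1 : A)), degree_X_pow, degree_X_sub_C]
      exact_mod_cast Nat.lt_succ_self n
    have hder : IsUnit (Ideal.Quotient.mk I ((X ^ n * (X - 1) + p).derivative.eval 1)) := by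
      rw [← eval₂_at_apply, ← eval_map, ← derivative_map, hmap]; simp [derivative_mul]
    obtain ⟨a, ha, ha1⟩ := (RootPair.of_henselianRing h).root n _ hn hmonic hmap
    refine ⟨a, ⟨ha1, ha⟩, fun b ⟨hb1, hb⟩ => ?_⟩
    obtain ⟨k, hk⟩ := exists_mul_sq_add_linear_part_eq_eval_add (X ^ n * (X - 1) + p) a (b - a)
    rw [add_sub_cancel, hb.eq_zero, ha.eq_zero, add_zero] at hk
    have hba : b - a ∈ I := by simpa using sub_mem hb1 ha1
    have hunit : IsUnit ((X ^ n * (X - 1) + p).derivative.eval a + k * (b - a)) := by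
      refine isUnit_of_isUnit_mk h.jac ?_
      have ha1' : Ideal.Quotient.mk I a = Ideal.Quotient.mk I 1 := Ideal.Quotient.eq.mpr ha1
      rw [map_add, Ideal.Quotient.eq_zero_iff_mem.mpr (I.mul_mem_left k hba), add_zero,
        ← eval₂_at_apply, ha1', eval₂_at_apply]
      exact hder
    exact sub_eq_zero.mp (hunit.mul_right_eq_zero.mp (by linear_combination hk))
  · rintro ⟨hjac, hroot⟩
    refine henselianRing_of_etaleLift (RootPair.etaleLift ⟨hjac, fun n P hn hP hmap => ?_⟩)
    nontriviality A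
    have hX : ((X : A[X]) ^ n * (X - 1)).Monic := (monic_X_pow n).mul (monic_X_sub_C 1)
    have hne : Nontrivial (A ⧸ I) := by
      rw [Ideal.Quotient.nontrivial_iff]
      intro h
      have h1 : (1 : A) ∈ Ideal.jacobson ⊥ := hjac (h ▸ Submodule.mem_top)
      have := Ideal.mem_jacobson_bot.mp h1 (-1)
      simp at this
    have hd : P.natDegree = n + 1 := by
      rw [← hP.natDegree_map (Ideal.Quotient.mk I), hmap, ← C_1,
        (monic_X_pow n).natDegree_mul (monic_X_sub_C (1 : A ⧸ I)), natDegree_X_pow,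
        natDegree_X_sub_C]
    have hd' : ((X : A[X]) ^ n * (X - 1)).natDegree = n + 1 := by
      rw [← C_1, (monic_X_pow n).natDegree_mul (monic_X_sub_C (1 : A)), natDegree_X_pow,
        natDegree_X_sub_C]
    obtain ⟨a, ⟨ha1, ha⟩, -⟩ := hroot n hn (P - X ^ n * (X - 1))
      (natDegree_le_iff_coeff_eq_zero.mpr fun m hm => by
        rw [coeff_sub]
        rcases eq_or_lt_of_le (Nat.succ_le_of_lt hm) with h | h
        · rw [← h]
          have h1 := hP.coeff_natDegree
          have h2 := hX.coeff_natDegree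
          rw [hd] at h1; rw [hd'] at h2
          rw [h1, h2, sub_self]
        · rw [coeff_eq_zero_of_natDegree_lt (hd ▸ h), coeff_eq_zero_of_natDegree_lt (hd' ▸ h),
            sub_zero])
      (fun i => by
        rw [coeff_sub, ← Ideal.Quotient.eq, ← coeff_map, ← coeff_map, hmap]; simp)
    exact ⟨a, by simpa using ha, ha1⟩

/-- Monic coprime factor lifting characterizes henselian pairs. -/
theorem henselianRing_of_factor_lift (hjac : I ≤ Ideal.jacobson ⊥)
    (h : ∀ f : A[X], f.Monic → ∀ g₀ h₀ : (A ⧸ I)[X], g₀.Monic → h₀.Monic →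
        IsCoprime g₀ h₀ → f.map (Ideal.Quotient.mk I) = g₀ * h₀ →
        ∃ g h' : A[X], g.Monic ∧ h'.Monic ∧ f = g * h' ∧
          g.map (Ideal.Quotient.mk I) = g₀ ∧ h'.map (Ideal.Quotient.mk I) = h₀) :
    HenselianRing A I := by
  refine ⟨hjac, fun f hf a₀ h₀ h₁ => ?_⟩
  cases subsingleton_or_nontrivial (A ⧸ I) with
  | inl hs =>
    have : I = ⊤ := Ideal.Quotient.subsingleton_iff.mp hs
    have : Subsingleton A := by
      refine subsingleton_of_zero_eq_one ?_
      have := Ideal.mem_jacobson_bot.mp (hjac (this ▸ Submodule.mem_top : (1 : A) ∈ I)) (-1)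
      simpa [isUnit_zero_iff] using this
    exact ⟨a₀, Subsingleton.elim _ _, by simp⟩
  | inr hn =>
    set b := Ideal.Quotient.mk I a₀
    have hb : (f.map (Ideal.Quotient.mk I)).IsRoot b := by
      rw [IsRoot, eval_map, eval₂_at_apply]; exact Ideal.Quotient.eq_zero_iff_mem.mpr h₀
    obtain ⟨q, hq⟩ := dvd_iff_isRoot.mpr hb
    have hqm : q.Monic := (monic_X_sub_C b).of_mul_monic_left (hq ▸ hf.map _)
    have hqb : IsUnit (q.eval b) := by
      rw [← eval₂_at_apply, ← eval_map, ← derivative_map, hq] at h₁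
      simpa [derivative_mul, b] using h₁
    have hco : IsCoprime (X - C b) q := by
      obtain ⟨k, hk⟩ := X_sub_C_dvd_sub_C_eval (a := b) (p := q)
      obtain ⟨w, hw⟩ := hqb.exists_left_inv
      have hC : C w * C (q.eval b) = 1 := by rw [← C_mul, hw, C_1]
      exact ⟨-C w * k, C w, by linear_combination C w * hk + hC⟩
    obtain ⟨g, h', hg, -, hfgh, hgmap, -⟩ := h f hf _ q (monic_X_sub_C b) hqm hco hq
    have hgd : g.natDegree = 1 := by
      rw [← hg.natDegree_map (Ideal.Quotient.mk I), hgmap, natDegree_X_sub_C]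
    have hg' : g = X + C (g.coeff 0) := hg.eq_X_add_C hgd
    refine ⟨-g.coeff 0, ?_, ?_⟩
    · rw [IsRoot, hfgh, eval_mul, hg']; simp
    · have := congrArg (fun p => coeff p 0) hgmap
      rw [← Ideal.Quotient.eq, map_neg]
      simpa [b, neg_eq_iff_eq_neg] using this

/-- Idempotent lifting in the algebras `A[X]/(p)`, `p ≡ (X² - X)^m`, suffices. -/
theorem henselianRing_of_surjOn_congr (hI : I ≤ Ideal.jacobson ⊥)
    (h : ∀ (m : ℕ) (p : A[X]), p.Monic →
      p.map (Ideal.Quotient.mk I) = ((X ^ 2 - X) ^ m : A[X]).map (Ideal.Quotient.mk I) →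
      Set.SurjOn (Ideal.Quotient.mk (I.map (algebraMap A (AdjoinRoot p))))
        {e : AdjoinRoot p | IsIdempotentElem e} {e | IsIdempotentElem e}) :
    HenselianRing A I := by
  refine henselianRing_of_etaleLift (RootPair.etaleLift ⟨hI, fun n f hn hf hmap => ?_⟩)
  let P : A[X] := f * (X - C 1) ^ (n - 1)
  have hn' : n = n - 1 + 1 := by omega
  have hP : P.map (Ideal.Quotient.mk I) = ((X ^ 2 - X) ^ n : A[X]).map (Ideal.Quotient.mk I) := by
    simp only [P, Polynomial.map_mul, hmap, Polynomial.map_pow, Polynomial.map_sub, map_X, C_1,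
      Polynomial.map_one]
    rw [mul_assoc, ← pow_succ', ← hn', ← mul_pow]
    ring
  set B := AdjoinRoot P
  obtain ⟨u, v, huv⟩ : IsCoprime ((X : A[X]) ^ n) ((X - 1) ^ n) :=
    IsCoprime.pow ⟨1, -1, by ring⟩
  have hmem : ∀ (q : A[X]) (g : A[X]), q.map (Ideal.Quotient.mk I) = g.map (Ideal.Quotient.mk I) →
      aeval (AdjoinRoot.root g) q ∈ I.map (algebraMap A (AdjoinRoot g)) := by
    intro q g hqg
    have hk : ∀ i, (q - g).coeff i ∈ I := fun i => by
      rw [← Ideal.Quotient.eq_zero_iff_mem, ← coeff_map, Polynomial.map_sub, hqg, sub_self, coeff_zero]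
    have : aeval (AdjoinRoot.root g) q = aeval (AdjoinRoot.root g) (q - g) := by
      rw [map_sub, AdjoinRoot.aeval_eq g, AdjoinRoot.mk_self, sub_zero]
    rw [this, aeval_eq_sum_range]
    exact Submodule.sum_mem _ fun i _ => by
      rw [Algebra.smul_def]; exact Ideal.mul_mem_right _ _ (Ideal.mem_map_of_mem _ (hk i))
  set g : A[X] := u * X ^ n
  set r : B := AdjoinRoot.root P
  have ht : aeval r g * aeval r g - aeval r g ∈ I.map (algebraMap A B) := by
    have : g * g - g = -(u * v) * (X ^ 2 - X) ^ n := by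
      have h2 : ((X : A[X]) ^ 2 - X) ^ n = X ^ n * (X - 1) ^ n := by rw [← mul_pow]; ring
      rw [h2]
      linear_combination (u * X ^ n) * huv
    rw [← map_mul, ← map_sub, this, map_mul]
    exact Ideal.mul_mem_left _ _ (hmem _ _ hP.symm)
  obtain ⟨e, he, het⟩ := h n P (hf.mul ((monic_X_sub_C 1).pow _)) hP
    (show IsIdempotentElem (Ideal.Quotient.mk _ (aeval r g)) by
      rw [IsIdempotentElem, ← map_mul]; exact Ideal.Quotient.eq.mpr ht)
  have het : e - aeval r g ∈ I.map (algebraMap A B) := Ideal.Quotient.eq.mp het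
  let π : B →ₐ[A] AdjoinRoot f := AdjoinRoot.liftAlgHom P (Algebra.ofId A _) (AdjoinRoot.root f)
    (by
      show aeval (AdjoinRoot.root f) P = 0
      rw [map_mul, AdjoinRoot.aeval_eq f, AdjoinRoot.mk_self, zero_mul])
  have hπ : ∀ q, π (aeval r q) = aeval (AdjoinRoot.root f) q := fun q => by
    rw [← aeval_algHom_apply, show π r = AdjoinRoot.root f from AdjoinRoot.liftAlgHom_root _ _ _ _]
  refine exists_root_of_idempotent hI hf ?_ (e := π e) (IsIdempotentElem.map he π) (g := g) ?_ ?_ ?_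
  · rw [← Ideal.Quotient.eq_zero_iff_mem, ← eval₂_at_apply, ← eval_map, hmap]; simp
  · rw [← hπ, ← map_sub]
    have := Ideal.mem_map_of_mem π.toRingHom het
    rwa [Ideal.map_map, AlgHom.toRingHom_eq_coe, π.comp_algebraMap] at this
  · rw [← Ideal.Quotient.eq, map_one]
    have h1 := congrArg (fun p => Ideal.Quotient.mk I (eval 1 p)) huv
    simpa [g, hn.ne', zero_pow] using h1
  · have : (AdjoinRoot.root f - algebraMap A _ 1) * aeval (AdjoinRoot.root f) g =
        aeval (AdjoinRoot.root f) u * aeval (AdjoinRoot.root f) (X ^ n * (X - 1) : A[X]) := by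
      simp only [g, map_mul, map_sub, map_pow, aeval_X, map_one]; ring
    rw [this]
    refine Ideal.mul_mem_left _ _ (hmem _ _ ?_)
    rw [hmap]; simp

end Groth.Agent.Hens
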