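import Groth.Agent.Lib.Hens.Local
import Mathlib.RingTheory.TensorProduct.Quotient
import Mathlib.RingTheory.LocalRing.Module
import Mathlib.LinearAlgebra.Dimension.OrzechProperty

/-!
Finite algebras over henselian pairs and monogenic algebras over local rings.
-/

open Polynomial IsLocalRing

namespace Groth.Agent.Hens

universe u v w

/-- Version of the lifting property for a surjection with kernel `J`. -/
theorem existsUnique_algHom_lift_of_surjective {R : Type v} [CommRing R] {T T' : Type u}
    [CommRing T] [CommRing T'] [Algebra R T] [Algebra R T'] {J : Ideal T} (h : HenselianRing T J)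
    (π : T →ₐ[R] T') (hπ : Function.Surjective π) (hker : RingHom.ker π = J) {E : Type w}
    [CommRing E] [Algebra R E] [Algebra.Etale R E] (σ : E →ₐ[R] T') :
    ∃! τ : E →ₐ[R] T, π.comp τ = σ := by
  subst hker
  let e := Ideal.quotientKerAlgEquivOfSurjective (f := π) hπ
  obtain ⟨τ, hτ, huniq⟩ := existsUnique_algHom_lift h (e.symm.toAlgHom.comp σ)
  have he : ∀ t, e (Ideal.Quotient.mk _ t) = π t := fun t => rfl
  refine ⟨τ, ?_, fun τ' hτ' => huniq τ' ?_⟩
  · ext x
    have h1 := congrArg e (congr($hτ x) : Ideal.Quotient.mk _ (τ x) = e.symm (σ x))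
    rwa [AlgEquiv.apply_symm_apply, he] at h1
  · ext x
    show Ideal.Quotient.mk _ (τ' x) = e.symm (σ x)
    rw [AlgEquiv.eq_symm_apply, he]
    exact congr($hτ' x)

theorem ker_includeRight_quotient {A : Type u} [CommRing A] (I : Ideal A) (B : Type v) [CommRing B]
    [Algebra A B] :
    RingHom.ker (Algebra.TensorProduct.includeRight : B →ₐ[A] TensorProduct A (A ⧸ I) B) =
      I.map (algebraMap A B) := by
  ext b
  rw [RingHom.mem_ker, ← Ideal.Quotient.eq_zero_iff_mem]
  let e := (Algebra.TensorProduct.quotIdealMapEquivTensorQuot B I)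
  rw [← map_eq_zero_iff e e.injective, Algebra.TensorProduct.quotIdealMapEquivTensorQuot_mk,
    ← map_eq_zero_iff (Algebra.TensorProduct.comm A B (A ⧸ I)) (AlgEquiv.injective _)]
  rfl

theorem surjective_includeRight_quotient {A : Type u} [CommRing A] (I : Ideal A) (B : Type v)
    [CommRing B] [Algebra A B] :
    Function.Surjective
      (Algebra.TensorProduct.includeRight : B →ₐ[A] TensorProduct A (A ⧸ I) B) :=
  TensorProduct.mk_surjective A B (A ⧸ I) Ideal.Quotient.mk_surjective

theorem bijective_baseChange_algHom {A : Type u} [CommRing A] {I : Ideal A} (h : HenselianRing A I)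
    (B₁ B₂ : Type u) [CommRing B₁] [CommRing B₂] [Algebra A B₁] [Algebra A B₂]
    [Algebra.Etale A B₁] [Algebra.IsIntegral A B₂] :
    Function.Bijective (fun φ : B₁ →ₐ[A] B₂ =>
      Algebra.TensorProduct.map (AlgHom.id (A ⧸ I) (A ⧸ I)) φ) := by
  let π : B₂ →ₐ[A] TensorProduct A (A ⧸ I) B₂ := Algebra.TensorProduct.includeRight
  have key := fun σ : B₁ →ₐ[A] TensorProduct A (A ⧸ I) B₂ =>
    existsUnique_algHom_lift_of_surjective (henselianRing_of_isIntegral (B := B₂) h) π
      (surjective_includeRight_quotient I B₂) (ker_includeRight_quotient I B₂) σ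
  constructor
  · intro φ φ' hφ
    refine (key (π.comp φ)).unique rfl ?_
    ext x
    have := congr($hφ ((1 : A ⧸ I) ⊗ₜ[A] x))
    simpa [π] using this.symm
  · intro ψ
    obtain ⟨τ, hτ, -⟩ := key ((ψ.restrictScalars A).comp Algebra.TensorProduct.includeRight)
    refine ⟨τ, Algebra.TensorProduct.ext (by ext) ?_⟩
    ext x
    simpa [π] using congr($hτ x)

variable {A : Type u} [CommRing A] [IsLocalRing A]

theorem span_pow_eq_top_of_monic {C : Type v} [CommRing C] [Algebra A C] [Module.Finite A C]
    (x : C) (Q : A[X]) (hQ : Q.Monic)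
    (hgen : ∀ y : C, ∃ p : A[X], y - aeval x p ∈ (maximalIdeal A).map (algebraMap A C))
    (hQx : aeval x Q ∈ (maximalIdeal A).map (algebraMap A C)) :
    Submodule.span A (Set.range fun i : Fin Q.natDegree => x ^ (i : ℕ)) = ⊤ := by
  nontriviality C
  refine top_le_iff.mp (Submodule.le_of_le_smul_of_le_jacobson_bot Module.Finite.fg_top
    (maximalIdeal_le_jacobson _) fun y _ => ?_)
  obtain ⟨p, hp⟩ := hgen y
  refine Submodule.mem_sup.mpr ⟨aeval x (p %ₘ Q), ?_, y - aeval x (p %ₘ Q), ?_, by ring⟩
  · rw [aeval_eq_sum_range]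
    refine Submodule.sum_mem _ fun i hi => ?_
    by_cases hc : (p %ₘ Q).coeff i = 0
    · simp [hc]
    · have hi' : i < Q.natDegree := by
        have h1 := le_natDegree_of_ne_zero hc
        have h2 : Q ≠ 1 := fun h => hc (by rw [h, modByMonic_one]; exact coeff_zero i)
        exact h1.trans_lt (natDegree_modByMonic_lt p hQ h2)
      exact Submodule.smul_mem _ _ (Submodule.subset_span ⟨⟨i, hi'⟩, rfl⟩)
  · rw [Ideal.smul_top_eq_map, Submodule.restrictScalars_mem]
    have h1 := congrArg (aeval x) (modByMonic_add_div p Q)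
    simp only [map_add, map_mul] at h1
    have : y - aeval x (p %ₘ Q) = (y - aeval x p) + aeval x Q * aeval x (p /ₘ Q) := by
      linear_combination -h1
    rw [this]
    exact add_mem hp (Ideal.mul_mem_right _ _ hQx)

theorem exists_monic_relation_of_span_eq_top {C : Type v} [CommRing C] [Algebra A C] (x : C)
    (d : ℕ) (h : Submodule.span A (Set.range fun i : Fin d => x ^ (i : ℕ)) = ⊤) :
    ∃ Q : A[X], Q.Monic ∧ Q.natDegree = d ∧ aeval x Q = 0 := by
  obtain ⟨c, hc⟩ := (Submodule.mem_span_range_iff_exists_fun A).mp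
    (h ▸ Submodule.mem_top : x ^ d ∈ Submodule.span A (Set.range fun i : Fin d => x ^ (i : ℕ)))
  have hd : degree (∑ i : Fin d, Polynomial.C (c i) * X ^ (i : ℕ)) < d :=
    (degree_sum_le _ _).trans_lt ((Finset.sup_lt_iff (WithBot.bot_lt_coe d)).mpr fun i _ =>
      (degree_C_mul_X_pow_le _ _).trans_lt (WithBot.coe_lt_coe.mpr i.2))
  have hm := monic_X_pow_sub hd
  refine ⟨_, hm, ?_, ?_⟩
  · refine natDegree_eq_of_degree_eq_some ?_
    rw [degree_sub_eq_left_of_degree_lt] <;> simp [hd]
  · simp only [map_sub, map_pow, aeval_X, map_sum, map_mul, aeval_C]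
    rw [← hc]
    simp [Algebra.smul_def]

/-- An ideal of `A[X]` with finite projective quotient, over a local ring, is principal monic. -/
theorem exists_monic_eq_span (J : Ideal A[X]) [Module.Finite A (A[X] ⧸ J)]
    [Module.Projective A (A[X] ⧸ J)] : ∃ G : A[X], G.Monic ∧ J = Ideal.span {G} := by
  let C := A[X] ⧸ J
  let x : C := Ideal.Quotient.mk J X
  have hx : ∀ p, aeval x p = Ideal.Quotient.mk J p := fun p => by
    show aeval (Ideal.Quotient.mkₐ A J X) p = Ideal.Quotient.mkₐ A J p
    rw [aeval_algHom_apply, aeval_X_left_apply]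
  let m := maximalIdeal A
  let Jbar : Ideal (ResidueField A)[X] := J.map (mapRingHom (residue A))
  obtain ⟨g, hg⟩ : ∃ g, Jbar = Ideal.span {g} :=
    ⟨_, (Submodule.IsPrincipal.span_singleton_generator Jbar).symm⟩
  have hmem : ∀ p, Ideal.Quotient.mk J p ∈ m.map (algebraMap A C) ↔ p.map (residue A) ∈ Jbar := by
    intro p
    have hm : m.map (algebraMap A C) = (m.map (Polynomial.C : A →+* A[X])).map (Ideal.Quotient.mk J) := by
      rw [Ideal.map_map]; rfl
    have hk : RingHom.ker (mapRingHom (residue A)) = m.map (Polynomial.C : A →+* A[X]) := by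
      rw [ker_mapRingHom, IsLocalRing.ker_residue]
    rw [hm, ← Ideal.mem_comap, Ideal.comap_map_of_surjective' _ Ideal.Quotient.mk_surjective,
      Ideal.mk_ker, ← hk, ← coe_mapRingHom, ← Ideal.mem_comap,
      Ideal.comap_map_of_surjective' _ (map_surjective (residue A) residue_surjective), sup_comm]
  have : Module.Free A C := Module.free_of_flat_of_isLocalRing
  by_cases hC : Subsingleton C
  · exact ⟨1, monic_one, by rw [Ideal.span_singleton_one]; exact Ideal.Quotient.subsingleton_iff.mp hC⟩
  have : Nontrivial C := not_subsingleton_iff_nontrivial.mp hC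
  have hg0 : g ≠ 0 := by
    obtain ⟨q, hq, hq0⟩ := Algebra.IsIntegral.isIntegral (R := A) x
    rintro rfl
    have h1 : q.map (residue A) ∈ Jbar := by
      rw [← hmem, ← hx]; rw [← aeval_def] at hq0; rw [hq0]; exact zero_mem _
    rw [hg, Ideal.span_singleton_eq_bot.mpr rfl, Ideal.mem_bot] at h1
    exact (hq.map _).ne_zero h1
  let g₀ := g * Polynomial.C g.leadingCoeff⁻¹
  have hg₀ : g₀.Monic := monic_mul_leadingCoeff_inv hg0
  have hspan : Jbar = Ideal.span {g₀} := by
    rw [hg]
    refine (Ideal.span_singleton_mul_right_unit ?_ g).symm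
    exact isUnit_C.mpr (isUnit_iff_ne_zero.mpr (inv_ne_zero (leadingCoeff_ne_zero.mpr hg0)))
  obtain ⟨Q, hQmap, hQdeg, hQ⟩ := lifts_and_degree_eq_and_monic
    (f := residue A) (mem_lifts_of_surjective residue_surjective g₀) hg₀
  have hsp := span_pow_eq_top_of_monic (A := A) x Q hQ
    (fun y => by obtain ⟨p, rfl⟩ := Ideal.Quotient.mk_surjective y; exact ⟨p, by rw [hx, sub_self]; exact zero_mem _⟩)
    (by rw [hx, hmem, hQmap, hspan]; exact Ideal.mem_span_singleton_self _)
  obtain ⟨G, hG, hGd, hG0⟩ := exists_monic_relation_of_span_eq_top x _ hsp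
  have hGJ : G ∈ J := by rw [← Ideal.Quotient.eq_zero_iff_mem, ← hx]; exact hG0
  have hle : Q.natDegree ≤ Module.finrank A C := by
    -- the residues of the powers are independent
    have hfin : Module.finrank (ResidueField A) (TensorProduct A (ResidueField A) C) =
        Module.finrank A C := Module.finrank_baseChange
    rw [← hfin]
    let φ : C →ₗ[A] (ResidueField A)[X] ⧸ Jbar :=
      (Ideal.Quotient.liftₐ J
        ((Ideal.Quotient.mkₐ A Jbar).comp (Polynomial.mapAlgHom (Algebra.ofId A (ResidueField A))))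
        fun p hp => Ideal.Quotient.eq_zero_iff_mem.mpr (Ideal.mem_map_of_mem _ hp)).toLinearMap
    let ψ := LinearMap.liftBaseChange (ResidueField A) φ
    have hψ : Function.Surjective ψ := fun z => by
      obtain ⟨p, rfl⟩ := Ideal.Quotient.mk_surjective z
      obtain ⟨p, rfl⟩ := map_surjective (residue A) residue_surjective p
      refine ⟨1 ⊗ₜ Ideal.Quotient.mk J p, ?_⟩
      rw [LinearMap.liftBaseChange_tmul, one_smul]
      rfl
    refine le_of_eq_of_le ?_ (LinearMap.finrank_le_finrank_of_surjective hψ)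
    rw [hspan, finrank_quotient_span_eq_natDegree, ← hQmap, hQ.natDegree_map]
  have hb : LinearIndependent A (fun i : Fin Q.natDegree => x ^ (i : ℕ)) := by
    have hr : Module.finrank A C ≤ Q.natDegree := by
      have := finrank_range_le_card (R := A) (fun i : Fin Q.natDegree => x ^ (i : ℕ))
      rwa [Set.finrank, hsp, finrank_top, Fintype.card_fin] at this
    exact linearIndependent_of_top_le_span_of_card_eq_finrank hsp.ge
      (by rw [Fintype.card_fin]; omega)
  refine ⟨G, hG, le_antisymm (fun p hp => ?_) (Ideal.span_le.mpr (Set.singleton_subset_iff.mpr hGJ))⟩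
  rw [Ideal.mem_span_singleton, ← modByMonic_eq_zero_iff_dvd hG]
  have h1 : aeval x (p %ₘ G) = 0 := by
    rw [aeval_modByMonic_eq_self_of_root hG0, hx, Ideal.Quotient.eq_zero_iff_mem]; exact hp
  by_cases hG1 : G = 1
  · simp [hG1]
  have hlt : (p %ₘ G).natDegree < Q.natDegree := hGd ▸ natDegree_modByMonic_lt p hG hG1
  rw [aeval_eq_sum_range' hlt, ← Fin.sum_univ_eq_sum_range
    (fun i => (p %ₘ G).coeff i • x ^ i)] at h1
  have h2 := Fintype.linearIndependent_iff.mp hb _ h1
  ext i
  rcases lt_or_ge i Q.natDegree with h | h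
  · exact h2 ⟨i, h⟩
  · exact coeff_eq_zero_of_natDegree_lt (hlt.trans_le h)

end Groth.Agent.Hens
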