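import Groth.Agent.Lib.Hens.Henselization
import Mathlib.RingTheory.Smooth.NoetherianDescent
import Mathlib.RingTheory.Unramified.Field
import Mathlib.RingTheory.Flat.Basic
import Mathlib.RingTheory.Jacobson.Polynomial
import Mathlib.RingTheory.FiniteType
import Mathlib.LinearAlgebra.TensorProduct.Pi

/-!
Étale algebras over reduced rings are reduced; so are henselizations.
-/

open IsLocalRing

open scoped TensorProduct

namespace Groth.Agent.Hens

universe u

theorem isReduced_of_flat_unramified_noetherian (B E : Type u) [CommRing B] [CommRing E]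
    [Algebra B E] [IsNoetherianRing B] [IsReduced B] [Module.Flat B E]
    [Algebra.FormallyUnramified B E] [Algebra.EssFiniteType B E] : IsReduced E := by
  classical
  refine ⟨fun x hx => ?_⟩
  have : Fintype (minimalPrimes B) := (minimalPrimes.finite_of_isNoetherianRing B).fintype
  have : ∀ p : minimalPrimes B, p.1.IsPrime := fun p => p.2.1.1
  let ι : B →ₗ[B] (Π p : minimalPrimes B, p.1.ResidueField) :=
    LinearMap.pi fun p => Algebra.linearMap B p.1.ResidueField
  have hι : Function.Injective ι := by
    refine (injective_iff_map_eq_zero _).mpr fun b hb => IsReduced.eq_zero b ?_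
    rw [nilpotent_iff_mem_prime]
    intro q hq
    have : q.IsPrime := hq
    obtain ⟨p, hp, hpq⟩ := Ideal.exists_minimalPrimes_le (bot_le : (⊥ : Ideal B) ≤ q)
    have : p.IsPrime := hp.1.1
    exact hpq (Ideal.algebraMap_residueField_eq_zero.mp (congr_fun hb ⟨p, hp⟩))
  have hzero : TensorProduct.piRight B B E _ (ι.lTensor E (x ⊗ₜ[B] (1 : B))) = 0 := by
    funext p
    have : IsReduced (p.1.ResidueField ⊗[B] E) :=
      Algebra.FormallyUnramified.isReduced_of_field p.1.ResidueField _
    have h0 : (1 : p.1.ResidueField) ⊗ₜ[B] x = 0 := (hx.map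
      (Algebra.TensorProduct.includeRight (R := B) (A := p.1.ResidueField))).eq_zero
    have h1 : (TensorProduct.comm B p.1.ResidueField E) ((1 : p.1.ResidueField) ⊗ₜ[B] x) = 0 := by
      rw [h0, map_zero]
    rw [TensorProduct.comm_tmul] at h1
    simpa [ι] using h1
  have h2 : x ⊗ₜ[B] (1 : B) = 0 := Module.Flat.lTensor_preserves_injective_linearMap ι hι (by
    rw [map_zero]
    exact (TensorProduct.piRight B B E _).injective (hzero.trans (map_zero _).symm))
  simpa using congrArg (TensorProduct.rid B E) h2

/-- An étale algebra over a reduced ring is reduced. -/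
theorem isReduced_of_etale (A B : Type u) [CommRing A] [CommRing B] [Algebra A B] [IsReduced A]
    [Algebra.Etale A B] : IsReduced B := by
  obtain ⟨A₀, B₀, _, _, hfg, hB₀, ⟨e⟩⟩ := Algebra.Etale.exists_subalgebra_fg ℤ A B
  suffices IsReduced (B₀ ⊗[A₀] A) by
    exact isReduced_of_injective
      ((Algebra.TensorProduct.comm A₀ A B₀).toRingHom.comp e.toRingEquiv.toRingHom)
      ((Algebra.TensorProduct.comm A₀ A B₀).injective.comp e.injective)
  refine IsReduced.tensorProduct_of_flat_of_forall_fg fun C hC => ?_
  have : Algebra.FiniteType ℤ A₀ := (Subalgebra.fg_iff_finiteType _).mp hfg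
  have : IsNoetherianRing A₀ := Algebra.FiniteType.isNoetherianRing ℤ A₀
  have : Algebra.FiniteType A₀ C := (Subalgebra.fg_iff_finiteType _).mp hC
  have : IsNoetherianRing C := Algebra.FiniteType.isNoetherianRing A₀ C
  have : IsReduced C := isReduced_of_injective C.val Subtype.val_injective
  have : IsReduced (C ⊗[A₀] B₀) := isReduced_of_flat_unramified_noetherian C (C ⊗[A₀] B₀)
  exact isReduced_of_injective (Algebra.TensorProduct.comm A₀ B₀ C).toRingHom
    (Algebra.TensorProduct.comm A₀ B₀ C).injective

namespace Nbhd

variable {R : Type u} [CommRing R] [IsReduced R] {K : Type u} [Field K] [Algebra R K]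

instance (i : Nbhd R K) : IsReduced i.G :=
  have := isReduced_of_etale R i.S
  @isReduced_localizationPreserves i.S _ i.q.primeCompl i.G _ _ _ inferInstance

end Nbhd

instance Hs.isReduced {R : Type u} [CommRing R] [IsReduced R] {K : Type u} [Field K] [Algebra R K] :
    IsReduced (Hs R K) := by
  refine ⟨fun x ⟨n, hn⟩ => ?_⟩
  obtain ⟨i, y, rfl⟩ := Hs.exists_of x
  rw [← map_pow, ← map_zero (Hs.of i)] at hn
  obtain ⟨k, hi, hi', hk⟩ := Hs.of_eq_of_iff.mp hn
  rw [map_pow, map_zero] at hk
  rw [← Hs.of_map hi, IsNilpotent.eq_zero ⟨n, hk⟩, map_zero]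

variable (R S : Type u) [CommRing R] [IsLocalRing R] [CommRing S] [IsLocalRing S] [Algebra R S]
  [IsLocalHom (algebraMap R S)]

theorem henselization_isReduced_iff [Hensel.IsHenselization R S] : IsReduced R ↔ IsReduced S := by
  refine ⟨fun _ => ?_, fun _ => ?_⟩
  · obtain ⟨e⟩ := exists_henselization_equiv R S
    exact isReduced_of_injective e.symm.toRingEquiv.toRingHom e.symm.injective
  · have := henselization_faithfullyFlat R S
    exact isReduced_of_injective (algebraMap R S) (FaithfulSMul.algebraMap_injective R S)

theorem strictHenselization_isReduced_iff [Hensel.IsStrictHenselization R S] :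
    IsReduced S ↔ IsReduced R := by
  refine ⟨fun _ => ?_, fun _ => ?_⟩
  · have := strictHenselization_faithfullyFlat R S
    exact isReduced_of_injective (algebraMap R S) (FaithfulSMul.algebraMap_injective R S)
  · obtain ⟨e⟩ := exists_strictHenselization_equiv R S
    exact isReduced_of_injective e.symm.toRingEquiv.toRingHom e.symm.injective

end Groth.Agent.Hens
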