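import Groth.Agent.Lib.Hens.Transfer
import Mathlib.RingTheory.Unramified.LocalRing
import Mathlib.RingTheory.LocalRing.ResidueField.Fiber
import Mathlib.RingTheory.Unramified.Field
import Mathlib.RingTheory.Artinian.Module
import Mathlib.RingTheory.Artinian.Ring
import Mathlib.RingTheory.Flat.Localization
import Mathlib.RingTheory.Ideal.AssociatedPrime.Localization

/-!
Fibres of henselizations; associated primes, conditions R_k and S_k.
-/

open IsLocalRing

open scoped TensorProduct

namespace Groth.Agent.Hens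

universe u

/-- Locally along every prime, the prime is extended from the base. -/
def UnrStalks (R S : Type u) [CommRing R] [CommRing S] [Algebra R S] : Prop :=
  ∀ (P : Ideal S), P.IsPrime → ∀ x ∈ P, ∃ s ∉ P,
    s * x ∈ (P.comap (algebraMap R S)).map (algebraMap R S)

theorem unrStalks_of_essFiniteType (R G : Type u) [CommRing R] [CommRing G] [Algebra R G]
    [Algebra.FormallyUnramified R G] [Algebra.EssFiniteType R G] : UnrStalks R G := by
  intro P hP x hx
  have : P.LiesOver (P.comap (algebraMap R G)) := ⟨rfl⟩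
  let p := P.comap (algebraMap R G)
  have : p.IsPrime := Ideal.comap_isPrime _ P
  let _ := Localization.AtPrime.algebraOfLiesOver p P
  have : IsLocalHom (algebraMap (Localization.AtPrime p) (Localization.AtPrime P)) :=
    Localization.isLocalHom_localRingHom p P (algebraMap R G) rfl
  have : Algebra.FormallyUnramified G (Localization.AtPrime P) :=
    Algebra.FormallyUnramified.of_isLocalization P.primeCompl
  have : Algebra.FormallyUnramified R (Localization.AtPrime P) :=
    Algebra.FormallyUnramified.comp R G _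
  have : Algebra.FormallyUnramified (Localization.AtPrime p) (Localization.AtPrime P) :=
    Algebra.FormallyUnramified.of_restrictScalars R _ _
  have : Algebra.EssFiniteType R (Localization.AtPrime P) := Algebra.EssFiniteType.comp R G _
  have : Algebra.EssFiniteType (Localization.AtPrime p) (Localization.AtPrime P) :=
    Algebra.EssFiniteType.of_comp R _ _
  have h : algebraMap G (Localization.AtPrime P) x ∈
      ((p.map (algebraMap R (Localization.AtPrime p))).map
        (algebraMap (Localization.AtPrime p) (Localization.AtPrime P))) := by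
    rw [Localization.AtPrime.map_eq_maximalIdeal, Algebra.FormallyUnramified.map_maximalIdeal,
      ← Localization.AtPrime.map_eq_maximalIdeal]
    exact Ideal.mem_map_of_mem _ hx
  rw [Ideal.map_map, ← IsScalarTower.algebraMap_eq,
    IsScalarTower.algebraMap_eq R G (Localization.AtPrime P), ← Ideal.map_map] at h
  obtain ⟨s, hs, h'⟩ :=
    (IsLocalization.algebraMap_mem_map_algebraMap_iff P.primeCompl _ _ _).mp h
  exact ⟨s, hs, h'⟩

theorem UnrStalks.hs (R K : Type u) [CommRing R] [Field K] [Algebra R K] :
    UnrStalks R (Hs R K) := by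
  intro P hP x hx
  obtain ⟨i, y, rfl⟩ := Hs.exists_of x
  let φ : i.G →+* Hs R K := (Hs.of i).toRingHom
  have hφ : φ.comp (algebraMap R i.G) = algebraMap R (Hs R K) := (Hs.of i).comp_algebraMap
  let P' : Ideal i.G := Ideal.comap φ P
  have hP' : P'.IsPrime := Ideal.comap_isPrime φ P
  obtain ⟨s, hs, h⟩ := unrStalks_of_essFiniteType R i.G P' hP' y hx
  refine ⟨Hs.of i s, hs, ?_⟩
  have h' := Ideal.mem_map_of_mem φ h
  rw [Ideal.map_map, Ideal.comap_comap, hφ] at h'
  rw [← map_mul]
  exact h'

theorem UnrStalks.of_algEquiv {R S T : Type u} [CommRing R] [CommRing S] [Algebra R S] [CommRing T]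
    [Algebra R T] (e : S ≃ₐ[R] T) (h : UnrStalks R S) : UnrStalks R T := by
  intro P hP x hx
  let φ : S →+* T := e.toRingEquiv.toRingHom
  have hP' : (Ideal.comap φ P).IsPrime := Ideal.comap_isPrime φ P
  obtain ⟨s, hs, h⟩ := h (Ideal.comap φ P) hP' (e.symm x) (by
    show e (e.symm x) ∈ P
    rwa [e.apply_symm_apply])
  refine ⟨e s, hs, ?_⟩
  have hφ : φ.comp (algebraMap R S) = algebraMap R T := e.toAlgHom.comp_algebraMap
  have h' := Ideal.mem_map_of_mem φ h
  rw [Ideal.map_map, Ideal.comap_comap, hφ, map_mul] at h'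
  rwa [show φ (e.symm x) = x from e.apply_symm_apply x] at h'

section Generic

variable {R S : Type u} [CommRing R] [CommRing S] [Algebra R S] (hu : UnrStalks R S)

include hu

theorem map_maximalIdeal_localization (p : Ideal R) [p.IsPrime] (P : Ideal S) [P.IsPrime]
    [P.LiesOver p] [Algebra (Localization.AtPrime p) (Localization.AtPrime P)]
    [Localization.AtPrime.IsLiesOverAlgebra p P] :
    (maximalIdeal (Localization.AtPrime p)).map
      (algebraMap (Localization.AtPrime p) (Localization.AtPrime P)) =
      maximalIdeal (Localization.AtPrime P) := by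
  have hmap : ((maximalIdeal (Localization.AtPrime p)).map
      (algebraMap (Localization.AtPrime p) (Localization.AtPrime P))) =
      (p.map (algebraMap R S)).map (algebraMap S (Localization.AtPrime P)) := by
    rw [← Localization.AtPrime.map_eq_maximalIdeal, Ideal.map_map, Ideal.map_map,
      ← IsScalarTower.algebraMap_eq, ← IsScalarTower.algebraMap_eq]
  rw [hmap, ← Localization.AtPrime.map_eq_maximalIdeal]
  refine le_antisymm (Ideal.map_mono (Ideal.map_le_iff_le_comap.mpr (Ideal.over_def P p).le))
    (Ideal.map_le_iff_le_comap.mpr fun x hx => ?_)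
  obtain ⟨s, hs, h⟩ := hu P inferInstance x hx
  rw [Ideal.mem_comap, IsLocalization.algebraMap_mem_map_algebraMap_iff P.primeCompl]
  exact ⟨s, hs, by rwa [Ideal.over_def P p]⟩

theorem exists_fibre_mul_eq_zero (p : Ideal R) [p.IsPrime] (Q : Ideal (p.Fiber S)) [hQ : Q.IsPrime]
    (z : p.Fiber S) (hz : z ∈ Q) : ∃ t ∉ Q, t * z = 0 := by
  obtain ⟨r, hr, x, hx⟩ := Ideal.Fiber.exists_smul_eq_one_tmul _ z
  let ι : S →+* p.Fiber S :=
    (Algebra.TensorProduct.includeRight : S →ₐ[R] p.ResidueField ⊗[R] S).toRingHom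
  let P : Ideal S := Ideal.comap ι Q
  have hP : P.IsPrime := Ideal.comap_isPrime ι Q
  have hι : ι.comp (algebraMap R S) = algebraMap R (p.Fiber S) :=
    (Algebra.TensorProduct.includeRight : S →ₐ[R] p.ResidueField ⊗[R] S).comp_algebraMap
  have hPp : P.comap (algebraMap R S) = p := by
    rw [Ideal.comap_comap, hι]
    exact (Ideal.over_def Q p).symm
  obtain ⟨s, hs, h⟩ := hu P hP x (by
    show ι x ∈ Q
    rw [show ι x = r • z from hx.symm]
    exact Submodule.smul_of_tower_mem _ r hz)
  have h' := Ideal.mem_map_of_mem ι h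
  rw [Ideal.map_map, hι, hPp, map_mul, show ι x = r • z from hx.symm] at h'
  have hp0 : p.map (algebraMap R (p.Fiber S)) = ⊥ := by
    rw [Ideal.map_eq_bot_iff_le_ker]
    intro a ha
    rw [RingHom.mem_ker, IsScalarTower.algebraMap_apply R p.ResidueField (p.Fiber S),
      Ideal.algebraMap_residueField_eq_zero.mpr ha, map_zero]
  rw [hp0, Ideal.mem_bot, Algebra.smul_def, ← mul_assoc] at h'
  refine ⟨ι s * algebraMap R (p.Fiber S) r, ?_, h'⟩
  intro hmem
  rcases hQ.mem_or_mem hmem with h1 | h1
  · exact hs h1
  · exact hr ((Ideal.over_def Q p).ge h1)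

theorem isReduced_fibre (p : Ideal R) [p.IsPrime] : IsReduced (p.Fiber S) := by
  refine ⟨fun z hz => ?_⟩
  by_contra h0
  have hne : LinearMap.ker (LinearMap.toSpanSingleton (p.Fiber S) (p.Fiber S) z) ≠ ⊤ := by
    intro h
    apply h0
    have h1 : (1 : p.Fiber S) ∈
        LinearMap.ker (LinearMap.toSpanSingleton (p.Fiber S) (p.Fiber S) z) := h ▸ trivial
    simpa using h1
  obtain ⟨Q, hQ, hle⟩ := Ideal.exists_le_maximal _ hne
  have := hQ.isPrime
  obtain ⟨t, ht, htz⟩ := exists_fibre_mul_eq_zero hu p Q z
    (nilpotent_iff_mem_prime.mp hz Q hQ.isPrime)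
  exact ht (hle (by simpa using htz))

theorem isMaximal_fibre (p : Ideal R) [p.IsPrime] (Q : Ideal (p.Fiber S)) [Q.IsPrime] :
    Q.IsMaximal := by
  obtain ⟨M, hM, hle⟩ := Ideal.exists_le_maximal Q (Ideal.IsPrime.ne_top ‹_›)
  suffices Q = M by rwa [this]
  refine le_antisymm hle fun z hz => ?_
  obtain ⟨t, ht, htz⟩ := exists_fibre_mul_eq_zero hu p M z hz
  exact ((‹Q.IsPrime›.mem_or_mem (htz ▸ Q.zero_mem : t * z ∈ Q)).resolve_left fun h => ht (hle h))

variable [IsNoetherianRing R] [IsNoetherianRing S] [Module.Flat R S]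

theorem localization_pair (p : Ideal R) [p.IsPrime] (P : Ideal S) [P.IsPrime] [P.LiesOver p]
    [Algebra (Localization.AtPrime p) (Localization.AtPrime P)]
    [Localization.AtPrime.IsLiesOverAlgebra p P] :
    IsLocalHom (algebraMap (Localization.AtPrime p) (Localization.AtPrime P)) ∧
      Module.Flat (Localization.AtPrime p) (Localization.AtPrime P) := by
  refine ⟨((local_hom_TFAE _).out 2 0 rfl rfl).mp (map_maximalIdeal_localization hu p P).le, ?_⟩
  exact (Module.flat_iff_of_isLocalization (R := R) (S := Localization.AtPrime p)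
    (M := Localization.AtPrime P) p.primeCompl).mpr inferInstance

theorem height_and_regular (P : Ideal S) [P.IsPrime] :
    P.height = (P.comap (algebraMap R S)).height ∧
      (IsRegularLocalRing (Localization.AtPrime P) ↔
        IsRegularLocalRing (Localization.AtPrime (P.comap (algebraMap R S)))) ∧
      LocCoh.depth (Localization.AtPrime P) (Localization.AtPrime P) =
        LocCoh.depth (Localization.AtPrime (P.comap (algebraMap R S)))
          (Localization.AtPrime (P.comap (algebraMap R S))) ∧
      ringKrullDim (Localization.AtPrime P) =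
        ringKrullDim (Localization.AtPrime (P.comap (algebraMap R S))) := by
  have : (P.comap (algebraMap R S)).IsPrime := Ideal.comap_isPrime _ P
  set p := P.comap (algebraMap R S) with hp
  have : P.LiesOver p := ⟨rfl⟩
  let _ := Localization.AtPrime.algebraOfLiesOver p P
  obtain ⟨_, _⟩ := localization_pair hu p P
  have hm := map_maximalIdeal_localization hu p P
  have hd := RegLoc.ringKrullDim_eq_of_map_maximalIdeal hm
  refine ⟨?_, (RegLoc.isRegularLocalRing_iff_of_map_maximalIdeal hm).symm,
    depth_eq_of_map_maximalIdeal _ _ hm, hd⟩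
  rw [IsLocalization.AtPrime.ringKrullDim_eq_height P,
    IsLocalization.AtPrime.ringKrullDim_eq_height p] at hd
  exact_mod_cast hd

omit hu [Module.Flat R S] [IsNoetherianRing S] in
theorem maximalIdeal_mem_associatedPrimes_iff (A : Type u) [CommRing A] [IsLocalRing A]
    [IsNoetherianRing A] :
    maximalIdeal A ∈ associatedPrimes A A ↔
      ∀ r ∈ maximalIdeal A, ¬ IsSMulRegular A r := by
  refine ⟨fun h r hr hreg => ?_, fun h => ?_⟩
  · have : r ∈ {r : A | ¬ IsSMulRegular A r} := by
      rw [show {r : A | ¬ IsSMulRegular A r} = {r : A | IsSMulRegular A r}ᶜ from rfl,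
        ← biUnion_associatedPrimes_eq_compl_regular]
      exact Set.mem_biUnion h hr
    exact this hreg
  · obtain ⟨P, hP, hle⟩ := DepthLib.exists_associatedPrime_ge h
    rwa [(maximalIdeal.isMaximal A).eq_of_le hP.1.ne_top hle]

theorem mem_associatedPrimes_iff_comap (P : Ideal S) [P.IsPrime] :
    P ∈ associatedPrimes S S ↔ P.comap (algebraMap R S) ∈ associatedPrimes R R := by
  have : (P.comap (algebraMap R S)).IsPrime := Ideal.comap_isPrime _ P
  set p := P.comap (algebraMap R S) with hp
  have : P.LiesOver p := ⟨rfl⟩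
  let _ := Localization.AtPrime.algebraOfLiesOver p P
  obtain ⟨_, _⟩ := localization_pair hu p P
  have hm := map_maximalIdeal_localization hu p P
  have hff : Module.FaithfullyFlat (Localization.AtPrime p) (Localization.AtPrime P) :=
    Module.FaithfullyFlat.of_flat_of_isLocalHom
  have hS : P ∈ associatedPrimes S S ↔ maximalIdeal (Localization.AtPrime P) ∈
      associatedPrimes (Localization.AtPrime P) (Localization.AtPrime P) := by
    have h := Set.ext_iff.mp
      (Module.associatedPrimes.preimage_comap_associatedPrimes_eq_associatedPrimes_of_isLocalizedModule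
        P.primeCompl (Localization.AtPrime P) (Algebra.linearMap S (Localization.AtPrime P)))
      (maximalIdeal _)
    rw [Set.mem_preimage, ← Ideal.under_def, Localization.AtPrime.under_maximalIdeal] at h
    exact h
  have hR : p ∈ associatedPrimes R R ↔ maximalIdeal (Localization.AtPrime p) ∈
      associatedPrimes (Localization.AtPrime p) (Localization.AtPrime p) := by
    have h := Set.ext_iff.mp
      (Module.associatedPrimes.preimage_comap_associatedPrimes_eq_associatedPrimes_of_isLocalizedModule
        p.primeCompl (Localization.AtPrime p) (Algebra.linearMap R (Localization.AtPrime p)))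
      (maximalIdeal _)
    rw [Set.mem_preimage, ← Ideal.under_def, Localization.AtPrime.under_maximalIdeal] at h
    exact h
  rw [hS, hR, maximalIdeal_mem_associatedPrimes_iff, maximalIdeal_mem_associatedPrimes_iff]
  refine ⟨fun h r hr hreg => ?_, fun h => ?_⟩
  · refine h _ (hm.le (Ideal.mem_map_of_mem _ hr)) ?_
    exact hreg.of_flat_of_isBaseChange (IsBaseChange.linearMap (Localization.AtPrime p)
      (Localization.AtPrime P))
  · obtain ⟨m, hm0, hmk⟩ := DepthLib.exists_ne_zero_smul_eq_zero h
    intro r hr hreg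
    rw [← hm] at hr
    refine hm0 (FaithfulSMul.algebraMap_injective (Localization.AtPrime p)
      (Localization.AtPrime P) ((hreg.right_eq_zero_of_smul ?_).trans (map_zero _).symm))
    refine Submodule.span_induction
      (p := fun y _ => y • algebraMap (Localization.AtPrime p) (Localization.AtPrime P) m = 0)
      ?_ (zero_smul _ _) (fun a b _ _ ha hb => by rw [add_smul, ha, hb, add_zero])
      (fun a b _ hb => by rw [smul_assoc, hb, smul_zero]) hr
    rintro _ ⟨a, ha, rfl⟩
    rw [smul_eq_mul, ← map_mul, show a * m = 0 from hmk a ha, map_zero]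

omit [Module.Flat R S] in
theorem hasRk_iff [Module.FaithfullyFlat R S] (k : ℕ) : LocCoh.HasRk k S ↔ LocCoh.HasRk k R := by
  refine ⟨fun h p _ hk => ?_, fun h P _ hk => ?_⟩
  · obtain ⟨⟨P, hP⟩, hPp⟩ :=
      PrimeSpectrum.comap_surjective_of_faithfullyFlat (A := R) (B := S) ⟨p, ‹_›⟩
    have hPp' : P.comap (algebraMap R S) = p := congrArg PrimeSpectrum.asIdeal hPp
    subst hPp'
    obtain ⟨hh, hr, -⟩ := height_and_regular hu P
    exact hr.mp (h P (hh ▸ hk))
  · obtain ⟨hh, hr, -⟩ := height_and_regular hu P
    exact hr.mpr (h _ (hh ▸ hk))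

omit [Module.Flat R S] in
theorem hasSk_iff [Module.FaithfullyFlat R S] (k : ℕ) :
    LocCoh.HasSk k S S ↔ LocCoh.HasSk k R R := by
  have key : ∀ (A : Type u) [CommRing A] (q : Ideal A) [q.IsPrime],
      (min (k : WithBot ℕ∞) (Module.supportDim (Localization.AtPrime q)
          (LocalizedModule q.primeCompl A)) ≤
        ((LocCoh.depth (Localization.AtPrime q) (LocalizedModule q.primeCompl A) : ℕ∞) :
          WithBot ℕ∞)) ↔
      (min (k : WithBot ℕ∞) (ringKrullDim (Localization.AtPrime q)) ≤
        ((LocCoh.depth (Localization.AtPrime q) (Localization.AtPrime q) : ℕ∞) : WithBot ℕ∞)) := by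
    intro A _ q _
    let e : LocalizedModule q.primeCompl A ≃ₗ[Localization.AtPrime q] Localization.AtPrime q :=
      LinearEquiv.refl _ _
    rw [← Module.supportDim_self_eq_ringKrullDim, Module.supportDim_eq_of_equiv e,
      show LocCoh.depth (Localization.AtPrime q) (LocalizedModule q.primeCompl A) =
        LocCoh.depth (Localization.AtPrime q) (Localization.AtPrime q) from
        DepthLib.idealDepth_congr e]
  refine ⟨fun h p _ => ?_, fun h P _ => ?_⟩
  · obtain ⟨⟨P, hP⟩, hPp⟩ :=
      PrimeSpectrum.comap_surjective_of_faithfullyFlat (A := R) (B := S) ⟨p, ‹_›⟩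
    have hPp' : P.comap (algebraMap R S) = p := congrArg PrimeSpectrum.asIdeal hPp
    subst hPp'
    obtain ⟨-, -, hd, hdim⟩ := height_and_regular hu P
    rw [key, ← hd, ← hdim, ← key]
    exact h P
  · obtain ⟨-, -, hd, hdim⟩ := height_and_regular hu P
    rw [key, hd, hdim, ← key]
    exact h _

end Generic

theorem isSeparable_algHom_apply {κ A F : Type u} [Field κ] [CommRing A] [Algebra κ A]
    [Algebra.FormallyUnramified κ A] [Algebra.EssFiniteType κ A] [CommRing F] [IsDomain F]
    [Algebra κ F] (χ : A →ₐ[κ] F) (a : A) : IsSeparable κ (χ a) := by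
  let I : Ideal A := RingHom.ker χ
  have : I.IsPrime := RingHom.ker_isPrime _
  have : Algebra.FormallyUnramified κ (A ⧸ I) :=
    Algebra.FormallyUnramified.of_surjective (Ideal.Quotient.mkₐ κ I) Ideal.Quotient.mk_surjective
  have : Algebra.EssFiniteType κ (A ⧸ I) := Algebra.EssFiniteType.comp κ A _
  have := Module.Free.of_divisionRing κ (A ⧸ I)
  have : Module.Finite κ (A ⧸ I) := Algebra.FormallyUnramified.finite_of_free _ _
  have hfield : IsField (A ⧸ I) :=
    isField_of_isIntegral_of_isField' (Field.toIsField κ)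
  let _ := hfield.toField
  have hsep : Algebra.IsSeparable κ (A ⧸ I) := Algebra.FormallyUnramified.isSeparable _ _
  let χ' : (A ⧸ I) →ₐ[κ] F := Ideal.Quotient.liftₐ I χ fun a ha => ha
  rw [show χ a = χ' (Ideal.Quotient.mk I a) from rfl]
  exact (isSeparable_map_iff χ' χ'.toRingHom.injective).mpr (Algebra.IsSeparable.isSeparable κ _)

theorem isSeparable_fibre_of_hom {R G H : Type u} [CommRing R] [CommRing G] [Algebra R G]
    [Algebra.FormallyUnramified R G] [Algebra.EssFiniteType R G] [CommRing H] [Algebra R H]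
    (φ : G →ₐ[R] H) (p : Ideal R) [p.IsPrime] (Q : Ideal (p.Fiber H)) [Q.IsPrime]
    (z : p.Fiber H) (r : R) (hr : r ∉ p) (y : G) (hx : r • z = 1 ⊗ₜ[R] φ y) :
    IsSeparable p.ResidueField (Ideal.Quotient.mk Q z) := by
  have hu : algebraMap R p.ResidueField r ≠ 0 := by
    rwa [ne_eq, Ideal.algebraMap_residueField_eq_zero]
  have hz : (algebraMap R p.ResidueField r)⁻¹ ⊗ₜ[R] φ y = z := by
    rw [← mul_one (algebraMap R p.ResidueField r)⁻¹, ← smul_eq_mul, ← TensorProduct.smul_tmul', ← hx,
      smul_comm, ← smul_assoc, Algebra.smul_def r, mul_inv_cancel₀ hu, one_smul]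
  have h := isSeparable_algHom_apply (κ := p.ResidueField) (A := p.ResidueField ⊗[R] G)
    (F := p.Fiber H ⧸ Q) ((Ideal.Quotient.mkₐ p.ResidueField Q).comp
    (Algebra.TensorProduct.map (AlgHom.id p.ResidueField p.ResidueField) φ))
    ((algebraMap R p.ResidueField r)⁻¹ ⊗ₜ[R] y)
  simpa [hz] using h

theorem Hs.isSeparable_fibre_quotient {R K : Type u} [CommRing R] [Field K] [Algebra R K]
    (p : Ideal R) [p.IsPrime] (Q : Ideal (p.Fiber (Hs R K))) [Q.IsPrime]
    (z : p.Fiber (Hs R K) ⧸ Q) : IsSeparable p.ResidueField z := by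
  obtain ⟨z, rfl⟩ := Ideal.Quotient.mk_surjective z
  obtain ⟨r, hr, x, hx⟩ := Ideal.Fiber.exists_smul_eq_one_tmul _ z
  obtain ⟨i, y, rfl⟩ := Hs.exists_of x
  exact isSeparable_fibre_of_hom (Hs.of i) p Q z r hr y hx

/-- The fibres are finite products of separable field extensions. -/
theorem Hs.exists_fibre_equiv_pi {R K S : Type u} [CommRing R] [Field K] [Algebra R K] [CommRing S]
    [Algebra R S] (e : Hs R K ≃ₐ[R] S) [IsNoetherianRing S] (p : Ideal R) [p.IsPrime] :
    ∃ (n : ℕ) (L : Fin n → Type u) (_ : ∀ i, Field (L i)) (_ : ∀ i, Algebra p.ResidueField (L i)),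
      (∀ i, Algebra.IsSeparable p.ResidueField (L i)) ∧
      Nonempty ((p.ResidueField ⊗[R] S) ≃ₐ[p.ResidueField] (Π i, L i)) := by
  classical
  have hu : UnrStalks R (Hs R K) := UnrStalks.hs R K
  have : IsNoetherianRing (Hs R K) := isNoetherianRing_of_ringEquiv S e.symm.toRingEquiv
  have : IsNoetherianRing (p.Fiber (Hs R K)) := by
    have : Algebra.EssFiniteType (Hs R K) (Hs R K ⊗[R] p.ResidueField) := inferInstance
    have : IsNoetherianRing (Hs R K ⊗[R] p.ResidueField) :=
      Algebra.EssFiniteType.isNoetherianRing (Hs R K) _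
    exact isNoetherianRing_of_ringEquiv (Hs R K ⊗[R] p.ResidueField)
      (Algebra.TensorProduct.comm R (Hs R K) p.ResidueField).toRingEquiv
  have : IsReduced (p.Fiber (Hs R K)) := isReduced_fibre hu p
  have : IsArtinianRing (p.Fiber (Hs R K)) :=
    isArtinianRing_iff_isNoetherianRing_krullDimLE_zero.mpr
      ⟨inferInstance, Ring.krullDimLE_zero_iff.mpr fun Q _ => isMaximal_fibre hu p Q⟩
  let en := Finite.equivFin (MaximalSpectrum (p.Fiber (Hs R K)))
  refine ⟨_, fun i => p.Fiber (Hs R K) ⧸ (en.symm i).asIdeal,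
    fun i => @Ideal.Quotient.field _ _ _ (en.symm i).isMaximal, fun i => inferInstance,
    fun i => ?_, ⟨?_⟩⟩
  · have := (en.symm i).isMaximal.isPrime
    exact ⟨fun z => Hs.isSeparable_fibre_quotient p _ z⟩
  · exact (Algebra.TensorProduct.congr (AlgEquiv.refl : p.ResidueField ≃ₐ[p.ResidueField] _)
      e.symm).trans (((IsArtinianRing.equivPi (p.Fiber (Hs R K))).restrictScalars p.ResidueField).trans
        (AlgEquiv.piCongrLeft' p.ResidueField
          (fun I : MaximalSpectrum (p.Fiber (Hs R K)) => p.Fiber (Hs R K) ⧸ I.asIdeal) en))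

section Wrappers

variable (R S : Type u) [CommRing R] [IsLocalRing R] [CommRing S] [IsLocalRing S] [Algebra R S]
  [IsLocalHom (algebraMap R S)]

theorem henselization_unrStalks [Hensel.IsHenselization R S] : UnrStalks R S :=
  let ⟨e⟩ := exists_henselization_equiv R S
  UnrStalks.of_algEquiv e (UnrStalks.hs _ _)

theorem strictHenselization_unrStalks [Hensel.IsStrictHenselization R S] : UnrStalks R S :=
  let ⟨e⟩ := exists_strictHenselization_equiv R S
  UnrStalks.of_algEquiv e (UnrStalks.hs _ _)

end Wrappers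

end Groth.Agent.Hens
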