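import Groth.Agent.Lib.Hens.Noetherian
import Groth.Agent.Lib.RegLoc.Unramified
import Groth.Agent.Lib.Depth.BaseChange
import Groth.Prelude.Def_CAlg
import Mathlib.RingTheory.Unramified.LocalStructure
import Mathlib.RingTheory.Ideal.GoingDown
import Mathlib.RingTheory.DiscreteValuationRing.TFAE
import Mathlib.RingTheory.KrullDimension.Module

/-!
Properties shared by a local ring and its (strict) henselization.
-/

open IsLocalRing

open scoped TensorProduct

namespace Groth.Agent.Hens

universe u

namespace Hs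

variable {R : Type u} [CommRing R] {K : Type u} [Field K] [Algebra R K]

instance formallyUnramified : Algebra.FormallyUnramified R (Hs R K) := by
  refine Algebra.FormallyUnramified.iff_comp_injective.mpr ?_
  intro B _ _ I hI f g h
  refine AlgHom.ext fun x => ?_
  obtain ⟨i, y, rfl⟩ := exists_of x
  let φ : i.G →ₐ[R] Hs R K := of i
  have : f.comp φ = g.comp φ :=
    Algebra.FormallyUnramified.lift_unique (R := R) (A := i.G) (B := B) I ⟨2, hI⟩ (f.comp φ) (g.comp φ)
      (AlgHom.ext fun z => congr($h (φ z)))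
  exact congr($this y)

/-- No inclusions between primes in a fibre. -/
theorem eq_of_le_of_under_eq (P Q : Ideal (Hs R K)) [P.IsPrime] [Q.IsPrime] (hle : P ≤ Q)
    (h : P.comap (algebraMap R (Hs R K)) = Q.comap (algebraMap R (Hs R K))) : P = Q := by
  refine le_antisymm hle fun x hx => ?_
  obtain ⟨i, y, rfl⟩ := exists_of x
  let φ : i.G →+* Hs R K := (of i).toRingHom
  let P' : Ideal i.G := Ideal.comap φ P
  let Q' : Ideal i.G := Ideal.comap φ Q
  have : P'.IsPrime := Ideal.comap_isPrime φ P
  have : Q'.IsPrime := Ideal.comap_isPrime φ Q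
  have hφ : φ.comp (algebraMap R i.G) = algebraMap R (Hs R K) := (of i).comp_algebraMap
  have hu : Ideal.under R P' = Ideal.under R Q' := by
    show Ideal.comap (algebraMap R i.G) (Ideal.comap φ P) =
      Ideal.comap (algebraMap R i.G) (Ideal.comap φ Q)
    rw [Ideal.comap_comap, Ideal.comap_comap, hφ]
    exact h
  have hle' : P' ≤ Q' := Ideal.comap_mono hle
  have hc : P' = Q' := @Algebra.QuasiFinite.eq_of_le_of_under_eq R i.G _ _ _ inferInstance P' Q' _ _ hle' hu
  exact hc.ge (show y ∈ Ideal.comap φ Q from hx)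

variable [IsLocalRing R] [Algebra (ResidueField R) K] [IsScalarTower R (ResidueField R) K]

theorem ringKrullDim_eq : ringKrullDim (Hs R K) = ringKrullDim R := by
  refine le_antisymm ?_ ?_
  · refine Order.krullDim_le_of_strictMono (PrimeSpectrum.comap (algebraMap R (Hs R K)))
      fun P Q hlt => lt_of_le_of_ne (Ideal.comap_mono hlt.le) fun h => ?_
    exact hlt.ne (PrimeSpectrum.ext (eq_of_le_of_under_eq P.asIdeal Q.asIdeal hlt.le
      (congrArg PrimeSpectrum.asIdeal h)))
  · refine iSup_le fun l => ?_
    obtain ⟨P, hP⟩ :=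
      PrimeSpectrum.comap_surjective_of_faithfullyFlat (A := R) (B := Hs R K) l.last
    have : P.asIdeal.LiesOver l.last.asIdeal := ⟨(congrArg PrimeSpectrum.asIdeal hP).symm⟩
    obtain ⟨L, hL, -, -⟩ := Ideal.exists_ltSeries_of_hasGoingDown l P.asIdeal
    exact le_iSup_of_le L (by rw [hL])

end Hs

variable (R S : Type u) [CommRing R] [IsLocalRing R] [CommRing S] [IsLocalRing S] [Algebra R S]
  [IsLocalHom (algebraMap R S)]

theorem henselization_ringKrullDim [Hensel.IsHenselization R S] :
    ringKrullDim S = ringKrullDim R :=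
  let ⟨e⟩ := exists_henselization_equiv R S
  (ringKrullDim_eq_of_ringEquiv e.toRingEquiv).symm.trans Hs.ringKrullDim_eq

theorem strictHenselization_ringKrullDim [Hensel.IsStrictHenselization R S] :
    ringKrullDim S = ringKrullDim R :=
  let ⟨e⟩ := exists_strictHenselization_equiv R S
  (ringKrullDim_eq_of_ringEquiv e.toRingEquiv).symm.trans Hs.ringKrullDim_eq

section Noetherian

variable [IsNoetherianRing R] [IsNoetherianRing S] [Module.Flat R S]
  (hm : (maximalIdeal R).map (algebraMap R S) = maximalIdeal S)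

include hm

omit [IsLocalHom (algebraMap R S)] [Module.Flat R S] in
theorem isLocalHom_of_map_maximalIdeal : IsLocalHom (algebraMap R S) :=
  ((local_hom_TFAE _).out 2 0 rfl rfl).mp hm.le

theorem depth_eq_of_map_maximalIdeal : LocCoh.depth S S = LocCoh.depth R R := by
  have : Module.FaithfullyFlat R S := Module.FaithfullyFlat.of_flat_of_isLocalHom
  show LocCoh.idealDepth _ _ = LocCoh.idealDepth _ _
  rw [← hm, ← DepthLib.idealDepth_congr (TensorProduct.AlgebraTensorModule.rid R S S)]
  exact DepthLib.idealDepth_baseChange_eq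

theorem isCohenMacaulay_iff_of_map_maximalIdeal :
    LocCoh.IsCohenMacaulayLocalRing S ↔ LocCoh.IsCohenMacaulayLocalRing R := by
  have hd := depth_eq_of_map_maximalIdeal R S hm
  have hdim := RegLoc.ringKrullDim_eq_of_map_maximalIdeal hm
  refine ⟨fun h => ⟨?_⟩, fun h => ⟨?_⟩⟩
  · rw [Module.supportDim_self_eq_ringKrullDim, ← hdim, ← hd, ← Module.supportDim_self_eq_ringKrullDim]
    exact h.supportDim_eq_depth
  · rw [Module.supportDim_self_eq_ringKrullDim, hdim, hd, ← Module.supportDim_self_eq_ringKrullDim]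
    exact h.supportDim_eq_depth

end Noetherian

theorem isDiscreteValuationRing_iff_regular_dim_one (A : Type u) [CommRing A] [IsLocalRing A]
    [IsNoetherianRing A] :
    (∃ _ : IsDomain A, IsDiscreteValuationRing A) ↔
      IsRegularLocalRing A ∧ ringKrullDim A = 1 := by
  refine ⟨fun ⟨hd, hv⟩ => ⟨inferInstance, IsDiscreteValuationRing.ringKrullDim_eq_one A⟩,
    fun ⟨hreg, hdim⟩ => ?_⟩
  have := RegLoc.isDomain A
  refine ⟨this, ?_⟩
  have hnf : ¬ IsField A := fun h => by
    rw [ringKrullDim_eq_zero_of_isField h] at hdim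
    exact zero_ne_one hdim
  refine ((IsDiscreteValuationRing.TFAE A hnf).out 4 0).mp ?_
  have h1 := IsRegularLocalRing.spanFinrank_maximalIdeal (R := A)
  rw [hdim] at h1
  exact ((Submodule.spanFinrank_eq_one_iff _).mp (by exact_mod_cast h1)).1

end Groth.Agent.Hens
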