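import Groth.Agent.Lib.Hens.Colim
import Groth.Prelude.Def_Hensel
import Mathlib.FieldTheory.IsSepClosed
import Mathlib.RingTheory.Flat.FaithfullyFlat.Algebra

/-!
The (strict) henselization of a local ring, as a colimit of étale neighbourhoods, and the
comparison with any ring having the universal property.
-/

open IsLocalRing

namespace Groth.Agent.Hens

universe u v

variable (R : Type u) [CommRing R] [IsLocalRing R]

/-- The henselization of a local ring. -/
abbrev Hh : Type u := Hs R (ResidueField R)

/-- The strict henselization of a local ring. -/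
abbrev Hsh : Type u := Hs R (SeparableClosure (ResidueField R))

variable {R}

namespace Hs

variable {K : Type u} [Field K] [Algebra R K] [Algebra (ResidueField R) K]
  [IsScalarTower R (ResidueField R) K] [Algebra.IsSeparable (ResidueField R) K]

/-- Evaluation on the residue field. -/
noncomputable def resBar : ResidueField (Hs R K) →+* K :=
  Ideal.Quotient.lift _ (res : Hs R K →ₐ[R] K).toRingHom fun x hx => (res_eq_zero_iff x).mpr hx

theorem resBar_residue (x : Hs R K) : resBar (residue _ x) = res x := rfl

theorem resBar_bijective : Function.Bijective (resBar : ResidueField (Hs R K) →+* K) := by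
  refine ⟨resBar.injective, fun b => ?_⟩
  obtain ⟨a, ha⟩ := exists_res_eq (R := R) b
  exact ⟨residue _ a, ha⟩

theorem resBar_comp_algebraMap :
    (resBar : ResidueField (Hs R K) →+* K).comp
      (algebraMap (ResidueField R) (ResidueField (Hs R K))) =
      algebraMap (ResidueField R) K := by
  refine Ideal.Quotient.ringHom_ext (RingHom.ext fun r => ?_)
  show res (algebraMap R (Hs R K) r) = algebraMap (ResidueField R) K (residue R r)
  rw [AlgHom.commutes, IsScalarTower.algebraMap_apply R (ResidueField R) K]
  rfl

/-- The residue field of the colimit is `K`. -/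
noncomputable def residueEquiv : ResidueField (Hs R K) ≃ₐ[ResidueField R] K :=
  AlgEquiv.ofRingEquiv (f := RingEquiv.ofBijective resBar resBar_bijective)
    fun x => congr($(resBar_comp_algebraMap) x)

theorem residueEquiv_residue (x : Hs R K) : residueEquiv (residue _ x) = res x := rfl

end Hs

/-- `IsLocalHom` maps induce algebra maps on residue fields. -/
noncomputable def resAlgHom {T : Type u} [CommRing T] [IsLocalRing T] [Algebra R T]
    [IsLocalHom (algebraMap R T)] : ResidueField R →ₐ[R] ResidueField T :=
  { ResidueField.map (algebraMap R T) with commutes' := fun _ => rfl }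

theorem exists_eq_add_mem (x : Hh R) :
    ∃ (r : R) (y : Hh R), y ∈ maximalIdeal (Hh R) ∧ x = algebraMap R (Hh R) r + y := by
  obtain ⟨r, hr⟩ := residue_surjective (Hs.res x)
  refine ⟨r, x - algebraMap R _ r, ?_, by ring⟩
  rw [← Hs.res_eq_zero_iff, map_sub, AlgHom.commutes, sub_eq_zero]
  exact hr.symm

theorem map_mem_maximalIdeal {T : Type v} [CommRing T] [IsLocalRing T] [Algebra R T]
    [IsLocalHom (algebraMap R T)] {H : Type u} [CommRing H] [IsLocalRing H] [Algebra R H]
    (hH : (maximalIdeal R).map (algebraMap R H) = maximalIdeal H) (g : H →ₐ[R] T) {x : H}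
    (hx : x ∈ maximalIdeal H) : g x ∈ maximalIdeal T := by
  have h := Ideal.mem_map_of_mem g.toRingHom (hH.ge hx)
  rw [Ideal.map_map, AlgHom.toRingHom_eq_coe, AlgHom.comp_algebraMap] at h
  exact ((local_hom_TFAE (algebraMap R T)).out 0 2 rfl rfl).mp inferInstance h

theorem residue_apply {T : Type u} [CommRing T] [IsLocalRing T] [Algebra R T]
    [IsLocalHom (algebraMap R T)] (g : Hh R →ₐ[R] T) (x : Hh R) :
    residue T (g x) = resAlgHom (T := T) (Hs.res x) := by
  obtain ⟨r, y, hy, rfl⟩ := exists_eq_add_mem x
  rw [map_add, map_add, map_add, (residue_eq_zero_iff _).mpr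
    (map_mem_maximalIdeal (R := R) Hs.map_maximalIdeal g hy), (Hs.res_eq_zero_iff y).mpr hy,
    add_zero, add_zero, AlgHom.commutes, AlgHom.commutes, AlgHom.commutes]
  rfl

theorem existsUnique_hh_lift (T : Type u) [CommRing T] [HenselianLocalRing T] [Algebra R T]
    [IsLocalHom (algebraMap R T)] : ∃! g : Hh R →ₐ[R] T, True := by
  obtain ⟨g, -, hu⟩ := Hs.existsUnique_lift (R := R) (K := ResidueField R) T resAlgHom
  exact ⟨g, trivial, fun g' _ => hu g' fun x => residue_apply g' x⟩

instance : Hensel.IsHenselization R (Hh R) where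
  henselian := inferInstance
  universal T _ _ f hf := by
    let _ := f.toAlgebra
    have : IsLocalHom (algebraMap R T) := hf
    obtain ⟨g, -, hu⟩ := existsUnique_hh_lift (R := R) T
    exact ⟨g.toRingHom, g.comp_algebraMap, fun g' hg' =>
      congrArg AlgHom.toRingHom (hu { g' with commutes' := fun r => congr($hg' r) } trivial)⟩

instance : Hensel.IsStrictHenselization R (Hsh R) where
  henselian := inferInstance
  isSepClosure := by
    let e := Hs.residueEquiv (R := R) (K := SeparableClosure (ResidueField R))
    exact ⟨IsSepClosed.of_exists_root _ fun p hm hp hs => by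
      have := IsSepClosure.sep_closed (ResidueField R) (K := SeparableClosure (ResidueField R))
      obtain ⟨x, hx⟩ := IsSepClosed.exists_eval₂_eq_zero e.toRingEquiv.toRingHom p
        (Polynomial.degree_pos_of_irreducible hp).ne' hs
      refine ⟨e.symm x, e.toRingEquiv.injective ?_⟩
      rw [map_zero]
      have h := Polynomial.eval₂_at_apply (p := p) e.toRingEquiv.toRingHom (e.symm x)
      rw [show e.toRingEquiv.toRingHom (e.symm x) = x from e.apply_symm_apply x, hx] at h
      exact h.symm, Algebra.IsSeparable.of_algHom _ _ e.toAlgHom⟩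
  universal T _ _ f _ τ hτ := by
    let _ := f.toAlgebra
    have : IsLocalHom (algebraMap R T) := ‹IsLocalHom f›
    let e := Hs.residueEquiv (R := R) (K := SeparableClosure (ResidueField R))
    let τ' : SeparableClosure (ResidueField R) →ₐ[R] ResidueField T :=
      { τ.comp e.symm.toRingEquiv.toRingHom with
        commutes' := fun r => by
          show τ (e.symm (algebraMap R _ r)) = _
          rw [IsScalarTower.algebraMap_apply R (ResidueField R) (SeparableClosure _),
            AlgEquiv.commutes]
          exact congr($hτ (residue R r)) }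
    have hτ' : ∀ x, τ' (Hs.res x) = τ (residue _ x) := fun x => by
      show τ (e.symm (Hs.res x)) = _
      rw [← Hs.residueEquiv_residue, AlgEquiv.symm_apply_apply]
    obtain ⟨g, hg, hu⟩ := Hs.existsUnique_lift (R := R) T τ'
    refine ⟨g.toRingHom, ⟨g.comp_algebraMap, fun x => (hg x).trans (hτ' x)⟩, fun g' hg' => ?_⟩
    exact congrArg AlgHom.toRingHom (hu { g' with commutes' := fun r => congr($(hg'.1) r) }
      fun x => (hg'.2 x).trans (hτ' x).symm)

variable (R) (S : Type u) [CommRing S] [IsLocalRing S] [Algebra R S] [IsLocalHom (algebraMap R S)]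

/-- A henselization is isomorphic to the colimit of étale neighbourhoods. -/
theorem exists_henselization_equiv [Hensel.IsHenselization R S] :
    Nonempty (Hh R ≃ₐ[R] S) := by
  have hS : HenselianLocalRing S := Hensel.IsHenselization.henselian (R := R)
  obtain ⟨g, -, -⟩ := existsUnique_hh_lift (R := R) S
  obtain ⟨h, hh, -⟩ := Hensel.IsHenselization.universal (R := R) (S := S) (Hh R)
    (algebraMap R (Hh R)) inferInstance
  let h' : S →ₐ[R] Hh R := { h with commutes' := fun r => congr($hh r) }
  obtain ⟨a, -, ha⟩ := existsUnique_hh_lift (R := R) (Hh R)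
  obtain ⟨b, -, hb⟩ := Hensel.IsHenselization.universal (R := R) (S := S) S
    (algebraMap R S) inferInstance
  refine ⟨AlgEquiv.ofAlgHom g h' ?_ ?_⟩
  · refine AlgHom.coe_ringHom_injective ?_
    exact (hb _ (g.comp h').comp_algebraMap).trans (hb _ (AlgHom.id R S).comp_algebraMap).symm
  · exact (ha (h'.comp g) trivial).trans (ha (AlgHom.id R _) trivial).symm

/-- A strict henselization is isomorphic to the colimit of étale neighbourhoods. -/
theorem exists_strictHenselization_equiv [Hensel.IsStrictHenselization R S] :
    Nonempty (Hsh R ≃ₐ[R] S) := by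
  have hS : HenselianLocalRing S := Hensel.IsStrictHenselization.henselian (R := R)
  have : IsSepClosure (ResidueField R) (ResidueField S) :=
    Hensel.IsStrictHenselization.isSepClosure (R := R)
  have : IsSepClosure (ResidueField R) (ResidueField (Hsh R)) :=
    Hensel.IsStrictHenselization.isSepClosure (R := R)
  let e : ResidueField (Hsh R) ≃ₐ[ResidueField R] ResidueField S :=
    IsSepClosure.equiv (ResidueField R) _ _
  have he : e.toRingEquiv.toRingHom.comp (ResidueField.map (algebraMap R (Hsh R))) =
      ResidueField.map (algebraMap R S) := RingHom.ext e.commutes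
  have he' : e.symm.toRingEquiv.toRingHom.comp (ResidueField.map (algebraMap R S)) =
      ResidueField.map (algebraMap R (Hsh R)) := RingHom.ext e.symm.commutes
  obtain ⟨g, ⟨hg, hgr⟩, -⟩ := Hensel.IsStrictHenselization.universal (R := R) (S := Hsh R) S
    (algebraMap R S) e.toRingEquiv.toRingHom he
  obtain ⟨h, ⟨hh, hhr⟩, -⟩ := Hensel.IsStrictHenselization.universal (R := R) (S := S) (Hsh R)
    (algebraMap R (Hsh R)) e.symm.toRingEquiv.toRingHom he'
  obtain ⟨a, -, ha⟩ := Hensel.IsStrictHenselization.universal (R := R) (S := Hsh R) (Hsh R)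
    (algebraMap R (Hsh R)) (RingHom.id _) (RingHom.id_comp _)
  obtain ⟨b, -, hb⟩ := Hensel.IsStrictHenselization.universal (R := R) (S := S) S
    (algebraMap R S) (RingHom.id _) (RingHom.id_comp _)
  let g' : Hsh R →ₐ[R] S := { g with commutes' := fun r => congr($hg r) }
  let h' : S →ₐ[R] Hsh R := { h with commutes' := fun r => congr($hh r) }
  refine ⟨AlgEquiv.ofAlgHom g' h' ?_ ?_⟩
  · refine AlgHom.coe_ringHom_injective ((hb _ ⟨(g'.comp h').comp_algebraMap, fun x => ?_⟩).trans
      (hb _ ⟨(AlgHom.id R S).comp_algebraMap, fun x => rfl⟩).symm)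
    show residue S (g (h x)) = residue S x
    rw [hgr, hhr]
    exact e.apply_symm_apply _
  · refine AlgHom.coe_ringHom_injective ((ha _ ⟨(h'.comp g').comp_algebraMap, fun x => ?_⟩).trans
      (ha _ ⟨(AlgHom.id R _).comp_algebraMap, fun x => rfl⟩).symm)
    show residue _ (h (g x)) = residue _ x
    rw [hhr, hgr]
    exact e.symm_apply_apply _

variable {R S}

theorem map_maximalIdeal_of_equiv {H : Type u} [CommRing H] [IsLocalRing H] [Algebra R H]
    (e : H ≃ₐ[R] S) (hH : (maximalIdeal R).map (algebraMap R H) = maximalIdeal H) :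
    (maximalIdeal R).map (algebraMap R S) = maximalIdeal S := by
  rw [← e.toAlgHom.comp_algebraMap, ← Ideal.map_map, hH]
  exact eq_maximalIdeal (Ideal.map_isMaximal_of_equiv e.toRingEquiv)

variable (R S)

theorem henselization_map_maximalIdeal [Hensel.IsHenselization R S] :
    (maximalIdeal R).map (algebraMap R S) = maximalIdeal S :=
  let ⟨e⟩ := exists_henselization_equiv R S
  map_maximalIdeal_of_equiv e Hs.map_maximalIdeal

theorem strictHenselization_map_maximalIdeal [Hensel.IsStrictHenselization R S] :
    (maximalIdeal R).map (algebraMap R S) = maximalIdeal S :=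
  let ⟨e⟩ := exists_strictHenselization_equiv R S
  map_maximalIdeal_of_equiv e Hs.map_maximalIdeal

theorem henselization_flat [Hensel.IsHenselization R S] : Module.Flat R S :=
  let ⟨e⟩ := exists_henselization_equiv R S
  Module.Flat.of_linearEquiv e.symm.toLinearEquiv

theorem strictHenselization_flat [Hensel.IsStrictHenselization R S] : Module.Flat R S :=
  let ⟨e⟩ := exists_strictHenselization_equiv R S
  Module.Flat.of_linearEquiv e.symm.toLinearEquiv

theorem henselization_faithfullyFlat [Hensel.IsHenselization R S] : Module.FaithfullyFlat R S :=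
  have := henselization_flat R S
  Module.FaithfullyFlat.of_flat_of_isLocalHom

theorem strictHenselization_faithfullyFlat [Hensel.IsStrictHenselization R S] :
    Module.FaithfullyFlat R S :=
  have := strictHenselization_flat R S
  Module.FaithfullyFlat.of_flat_of_isLocalHom

theorem henselization_exists_sub_mem [Hensel.IsHenselization R S] (x : S) :
    ∃ r : R, x - algebraMap R S r ∈ maximalIdeal S := by
  obtain ⟨e⟩ := exists_henselization_equiv R S
  obtain ⟨r, y, hy, hx⟩ := exists_eq_add_mem (e.symm x)
  refine ⟨r, ?_⟩
  have h := congrArg e hx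
  rw [e.apply_symm_apply, map_add, AlgEquiv.commutes] at h
  rw [h, add_sub_cancel_left]
  exact map_mem_maximalIdeal Hs.map_maximalIdeal e.toAlgHom hy

theorem henselization_residueField_bijective [Hensel.IsHenselization R S] :
    Function.Bijective (ResidueField.map (algebraMap R S)) := by
  refine ⟨RingHom.injective _, fun x => ?_⟩
  obtain ⟨x, rfl⟩ := residue_surjective x
  obtain ⟨r, hr⟩ := henselization_exists_sub_mem R S x
  exact ⟨residue R r, by rw [ResidueField.map_residue]; exact ((Ideal.Quotient.eq).mpr hr).symm⟩

theorem henselization_exists_sub_mem_pow [Hensel.IsHenselization R S] (n : ℕ) :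
    ∀ x : S, ∃ r : R, x - algebraMap R S r ∈ (maximalIdeal R ^ n).map (algebraMap R S) := by
  induction n with
  | zero => exact fun x => ⟨0, by simp [Ideal.map_top]⟩
  | succ n ih =>
    intro x
    obtain ⟨r, hr⟩ := ih x
    have key : ∀ y ∈ (maximalIdeal R ^ n).map (algebraMap R S), ∃ r : R,
        y - algebraMap R S r ∈ (maximalIdeal R ^ (n + 1)).map (algebraMap R S) := by
      intro y hy
      refine Submodule.span_induction ?_ ⟨0, by simp⟩ ?_ ?_ hy
      · rintro _ ⟨a, ha, rfl⟩
        exact ⟨a, by simp⟩
      · rintro a b - - ⟨r, hr⟩ ⟨s, hs⟩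
        exact ⟨r + s, by rw [map_add, add_sub_add_comm]; exact add_mem hr hs⟩
      · rintro c a hac ⟨r, hr⟩
        obtain ⟨s, hs⟩ := henselization_exists_sub_mem R S c
        refine ⟨s * r, ?_⟩
        rw [smul_eq_mul, map_mul, show c * a - algebraMap R S s * algebraMap R S r =
          (c - algebraMap R S s) * a + algebraMap R S s * (a - algebraMap R S r) by ring]
        refine add_mem ?_ (Ideal.mul_mem_left _ _ hr)
        rw [pow_succ', Ideal.map_mul, henselization_map_maximalIdeal]
        exact Ideal.mul_mem_mul hs hac
    obtain ⟨s, hs⟩ := key _ hr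
    exact ⟨r + s, by rwa [map_add, ← sub_sub]⟩

theorem henselization_quotient_pow_bijective [Hensel.IsHenselization R S] (n : ℕ) :
    Function.Bijective (Ideal.quotientMap
      (Ideal.map (algebraMap R S) (maximalIdeal R ^ n)) (algebraMap R S)
      Ideal.le_comap_map) := by
  have := henselization_faithfullyFlat R S
  refine ⟨Ideal.quotientMap_injective' (Ideal.comap_map_eq_self_of_faithfullyFlat _).le,
    fun x => ?_⟩
  obtain ⟨x, rfl⟩ := Ideal.Quotient.mk_surjective x
  obtain ⟨r, hr⟩ := henselization_exists_sub_mem_pow R S n x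
  exact ⟨Ideal.Quotient.mk _ r, ((Ideal.Quotient.eq).mpr hr).symm⟩

end Groth.Agent.Hens
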