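import Groth.Agent.Lib.Hens.System
import Mathlib

/-!
Sections of smooth algebras lift along henselian pairs.
-/

namespace Groth.Agent.Hens

universe u v

open MvPolynomial

/-- First order Taylor expansion modulo the square of an ideal containing the increments. -/
theorem taylor_mem_sq {R : Type u} [CommRing R] {n : ℕ} (J : Ideal (MvPolynomial (Fin n) R))
    (g : Fin n → MvPolynomial (Fin n) R) (hg : ∀ k, g k ∈ J) (f : MvPolynomial (Fin n) R) :
    aeval (fun k => X k - g k) f - (f - ∑ k, pderiv k f * g k) ∈ J * J := by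
  induction f using MvPolynomial.induction_on with
  | C a => simp
  | add p q hp hq =>
    convert add_mem hp hq using 1
    simp only [map_add, add_mul, Finset.sum_add_distrib]
    ring
  | mul_X p i hp =>
    have hT : (∑ k, pderiv k (p * X i) * g k) = (∑ k, pderiv k p * g k) * X i + p * g i := by
      classical
      simp only [pderiv_mul, pderiv_X, Pi.single_apply, add_mul, Finset.sum_add_distrib,
        Finset.sum_mul]
      congr 1
      · exact Finset.sum_congr rfl fun k _ => by ring
      · simp [Finset.sum_ite_eq']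
    have hsum : (∑ k, pderiv k p * g k) * g i ∈ J * J :=
      Ideal.mul_mem_mul (Ideal.sum_mem _ fun k _ => Ideal.mul_mem_left _ _ (hg k)) (hg i)
    have h1 := Ideal.mul_mem_right (X i - g i) _ hp
    convert add_mem h1 hsum using 1
    rw [map_mul, aeval_X, hT]
    ring

theorem pderiv_mem_of_mem_sq {R : Type u} [CommRing R] {n : ℕ} (J : Ideal (MvPolynomial (Fin n) R))
    {f : MvPolynomial (Fin n) R} (hf : f ∈ J * J) (j : Fin n) : pderiv j f ∈ J := by
  induction hf using Submodule.mul_induction_on' with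
  | mem_mul_mem a ha b hb =>
    rw [pderiv_mul]
    exact add_mem (J.mul_mem_left _ hb) (J.mul_mem_right _ ha)
  | add a _ b _ ha hb => rw [map_add]; exact add_mem ha hb

open Polynomial in
/-- An idempotent matrix modulo the ideal of a henselian pair lifts to an idempotent matrix. -/
theorem exists_idempotent_matrix_lift {A : Type u} [CommRing A] {I : Ideal A} (h : HenselianRing A I)
    {n : ℕ} (E : Matrix (Fin n) (Fin n) A) (hE : ∀ i j, (E * E - E) i j ∈ I) :
    ∃ P : Matrix (Fin n) (Fin n) A, P * P = P ∧ ∀ i j, P i j - E i j ∈ I := by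
  let θ : A[X] →ₐ[A] Matrix (Fin n) (Fin n) A := Polynomial.aeval E
  let μ : Matrix (Fin n) (Fin n) A →+* Matrix (Fin n) (Fin n) (A ⧸ I) :=
    (Ideal.Quotient.mk I).mapMatrix
  cases subsingleton_or_nontrivial A with
  | inl hs => exact ⟨E, Subsingleton.elim _ _, fun i j => by simp⟩
  | inr hn =>
  let p : A[X] := Polynomial.X ^ 2 - Polynomial.X
  have hpdeg : p.natDegree = 2 := by
    rw [show p = Polynomial.X ^ 2 - Polynomial.X from rfl,
      Polynomial.natDegree_sub_eq_left_of_natDegree_lt] <;> simp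
  have hpm : p.Monic := Polynomial.monic_X_pow_sub (by simp)
  let M := θ p
  have hM : μ M = 0 := by
    ext i j
    simpa [μ, M, θ, p, pow_two] using Ideal.Quotient.eq_zero_iff_mem.mpr (hE i j)
  let q : A[X] := M.charpoly.comp p
  have hq : q.Monic := (Matrix.charpoly_monic M).comp hpm (by omega)
  have hθq : θ q = 0 := by
    show Polynomial.aeval E (M.charpoly.comp p) = 0
    rw [Polynomial.aeval_comp]
    exact M.aeval_self_charpoly
  have hχ : M.charpoly.map (Ideal.Quotient.mk I) = Polynomial.X ^ n := by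
    rw [← Matrix.charpoly_map]
    rw [show M.map (Ideal.Quotient.mk I) = 0 from hM, Matrix.charpoly_zero, Fintype.card_fin]
  let B := AdjoinRoot q
  have : Module.Finite A B := hq.finite_adjoinRoot
  let b : B := AdjoinRoot.root q
  let IB : Ideal B := I.map (algebraMap A B)
  let J2 : Ideal B := IB ⊔ Ideal.span {b * b - b}
  have hnil : (b * b - b) ^ n ∈ IB := by
    have hmk : ∀ r : A[X], r.map (Ideal.Quotient.mk I) = 0 → AdjoinRoot.mk q r ∈ IB := by
      intro r hr
      have : r ∈ I.map (Polynomial.C : A →+* A[X]) := by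
        rw [Ideal.mem_map_C_iff]
        intro k
        rw [← Ideal.Quotient.eq_zero_iff_mem, ← Polynomial.coeff_map, hr, Polynomial.coeff_zero]
      have := Ideal.mem_map_of_mem (AdjoinRoot.mk q) this
      rwa [Ideal.map_map, show (AdjoinRoot.mk q).comp Polynomial.C = algebraMap A B from rfl] at this
    have hz := hmk (p ^ n - q) (by
      simp only [q, Polynomial.map_sub, Polynomial.map_pow, Polynomial.map_comp, hχ]
      simp)
    rw [map_sub, AdjoinRoot.mk_self, sub_zero, map_pow] at hz
    simpa [p, b, pow_two] using hz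
  let f : B ⧸ IB →+* B ⧸ J2 := Ideal.Quotient.factor le_sup_left
  have hker : ∀ x ∈ RingHom.ker f, IsNilpotent x := by
    intro x hx
    obtain ⟨x, rfl⟩ := Ideal.Quotient.mk_surjective x
    rw [RingHom.mem_ker, Ideal.Quotient.factor_mk, Ideal.Quotient.eq_zero_iff_mem] at hx
    obtain ⟨y, hy, z, hz, rfl⟩ := Submodule.mem_sup.mp hx
    obtain ⟨w, rfl⟩ := Ideal.mem_span_singleton'.mp hz
    refine ⟨n, ?_⟩
    rw [← map_pow, Ideal.Quotient.eq_zero_iff_mem]
    have hd := sub_dvd_pow_sub_pow (y + w * (b * b - b)) (w * (b * b - b)) n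
    rw [add_sub_cancel_right] at hd
    rw [← sub_add_cancel ((y + w * (b * b - b)) ^ n) ((w * (b * b - b)) ^ n)]
    exact add_mem (Ideal.mem_of_dvd _ hd hy) (by rw [mul_pow]; exact Ideal.mul_mem_left _ _ hnil)
  obtain ⟨e₀, he₀, hfe₀⟩ := exists_isIdempotentElem_eq_of_ker_isNilpotent f hker
    (Ideal.Quotient.mk J2 b) ⟨Ideal.Quotient.mk IB b, Ideal.Quotient.factor_mk _ _⟩ (by
      show Ideal.Quotient.mk J2 b * Ideal.Quotient.mk J2 b = Ideal.Quotient.mk J2 b
      rw [← map_mul, Ideal.Quotient.eq]
      exact Ideal.mem_sup_right (Ideal.mem_span_singleton_self _))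
  obtain ⟨b', rfl⟩ := Ideal.Quotient.mk_surjective e₀
  obtain ⟨e, he, heb⟩ := exists_idempotent_lift h b' (Ideal.Quotient.eq.mp (by
    rw [map_mul]; exact he₀))
  have hsub : e - b ∈ J2 := by
    rw [show e - b = (e - b') + (b' - b) by ring]
    refine add_mem (Ideal.mem_sup_left heb) ?_
    rw [← Ideal.Quotient.eq]
    exact hfe₀
  obtain ⟨pe, rfl⟩ := AdjoinRoot.mk_surjective e
  have hker2 : ∀ r : A[X], q ∣ r → θ r = 0 := fun r ⟨c, hc⟩ => by
    rw [hc, map_mul, hθq, zero_mul]
  refine ⟨θ pe, ?_, fun i j => ?_⟩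
  · rw [← map_mul, ← sub_eq_zero, ← map_sub]
    exact hker2 _ (AdjoinRoot.mk_eq_zero.mp (by rw [map_sub, map_mul, he.eq, sub_self]))
  · have hJ2 : J2 ≤ ((RingHom.ker (μ.comp θ.toRingHom)).map (AdjoinRoot.mk q)) := by
      refine sup_le (Ideal.map_le_iff_le_comap.mpr fun a ha => ?_) ?_
      · rw [Ideal.mem_comap]
        refine Ideal.mem_map_of_mem (AdjoinRoot.mk q) (x := Polynomial.C a) ?_
        show μ (θ (Polynomial.C a)) = 0
        rw [Polynomial.aeval_C]
        ext i j
        simp only [μ, RingHom.mapMatrix_apply, Matrix.map_apply, Matrix.algebraMap_matrix_apply]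
        split <;> simp [Ideal.Quotient.eq_zero_iff_mem.mpr ha]
      · rw [Ideal.span_singleton_le_iff_mem,
          show b * b - b = AdjoinRoot.mk q p by simp [p, b, pow_two]]
        exact Ideal.mem_map_of_mem _ hM
    obtain ⟨r, hr, hre⟩ := (Ideal.mem_map_iff_of_surjective _ AdjoinRoot.mk_surjective).mp (hJ2 hsub)
    have hd : θ pe - E - θ r = 0 := by
      have := hker2 (pe - Polynomial.X - r) (AdjoinRoot.mk_eq_zero.mp (by
        rw [map_sub, map_sub, AdjoinRoot.mk_X, hre, sub_self]))
      simpa [θ] using this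
    have h2 : μ (θ pe - E) = 0 := by
      rw [sub_eq_zero.mp hd]
      exact hr
    have := congrFun (congrFun h2 i) j
    rw [← Ideal.Quotient.eq_zero_iff_mem]
    simpa [μ] using this

/-- A section modulo the ideal of a henselian pair of a smooth algebra lifts. -/
theorem exists_smooth_lift_of_henselianRing {R S A : Type u} [CommRing R] [CommRing S] [Algebra R S]
    [Algebra.Smooth R S] [CommRing A] [Algebra R A] {I : Ideal A} (h : HenselianRing A I)
    (σ : S →ₐ[R] A ⧸ I) : ∃ τ : S →ₐ[R] A, (Ideal.Quotient.mkₐ R I).comp τ = σ := by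
  classical
  obtain ⟨n, π, hπ, hJfg⟩ := Algebra.FinitePresentation.out (R := R) (A := S)
  let J : Ideal (MvPolynomial (Fin n) R) := RingHom.ker π
  have hJfg : J.FG := hJfg
  let π₁ : (MvPolynomial (Fin n) R ⧸ J * J) →ₐ[R] S := Ideal.Quotient.liftₐ (J * J) π fun a ha =>
    Ideal.mul_le_left ha
  have hπ₁ : Function.Surjective π₁ := fun s => by
    obtain ⟨x, rfl⟩ := hπ s
    exact ⟨Ideal.Quotient.mk _ x, rfl⟩
  have hnil : IsNilpotent (RingHom.ker π₁) := by
    refine ⟨2, ?_⟩
    have : RingHom.ker π₁ = J.map (Ideal.Quotient.mk (J * J)) := by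
      ext x
      obtain ⟨x, rfl⟩ := Ideal.Quotient.mk_surjective x
      rw [Ideal.mem_quotient_iff_mem Ideal.mul_le_left]
      rfl
    rw [this, ← Ideal.map_pow, pow_two, Ideal.map_quotient_self]
    rfl
  let s := Algebra.FormallySmooth.liftOfSurjective (AlgHom.id R S) π₁ hπ₁ hnil
  choose y hy using fun k => Ideal.Quotient.mk_surjective (s (π (X k)))
  let g : Fin n → MvPolynomial (Fin n) R := fun k => X k - y k
  have hg : ∀ k, g k ∈ J := by
    intro k
    show π (X k - y k) = 0
    have := congrArg π₁ (hy k)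
    rw [Algebra.FormallySmooth.liftOfSurjective_apply] at this
    rw [map_sub, sub_eq_zero]
    exact this.symm
  have hgJ : ∀ f ∈ J, f - ∑ k, pderiv k f * g k ∈ J * J := by
    intro f hf
    have hcomp : s.comp π = (Ideal.Quotient.mkₐ R (J * J)).comp (aeval (fun k => X k - g k)) :=
      MvPolynomial.algHom_ext fun k => by
        simp only [AlgHom.comp_apply, aeval_X, g, sub_sub_cancel]
        exact (hy k).symm
    have h0 : aeval (fun k => X k - g k) f ∈ J * J := by
      have := congr($hcomp f)
      simp only [AlgHom.comp_apply, show π f = 0 from hf, map_zero] at this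
      exact Ideal.Quotient.eq_zero_iff_mem.mp this.symm
    have := sub_mem h0 (taylor_mem_sq J g hg f)
    rwa [sub_sub_cancel] at this
  choose a₀ ha₀ using fun k => Ideal.Quotient.mk_surjective (σ (π (X k)))
  have hσ : (Ideal.Quotient.mkₐ R I).comp (aeval a₀) = σ.comp π :=
    MvPolynomial.algHom_ext fun k => by simpa using ha₀ k
  have hJI : ∀ a : Fin n → A, (∀ k, a k - a₀ k ∈ I) → ∀ f ∈ J, aeval a f ∈ I := by
    intro a ha f hf
    have : (Ideal.Quotient.mkₐ R I).comp (aeval a) = σ.comp π := by
      rw [← hσ]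
      exact MvPolynomial.algHom_ext fun k => by simpa [Ideal.Quotient.eq] using ha k
    rw [← Ideal.Quotient.eq_zero_iff_mem]
    simpa [show π f = 0 from hf] using congr($this f)
  let E : Matrix (Fin n) (Fin n) A := Matrix.of fun l k => aeval a₀ (pderiv k (g l))
  have hEI : ∀ l j, (E * E - E) l j ∈ I := by
    intro l j
    have h1 := pderiv_mem_of_mem_sq J (hgJ _ (hg l)) j
    have h2 : pderiv j (g l) - ∑ k, pderiv k (g l) * pderiv j (g k) ∈ J := by
      have : (∑ k, pderiv j (pderiv k (g l)) * g k) ∈ J :=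
        Ideal.sum_mem _ fun k _ => Ideal.mul_mem_left _ _ (hg k)
      convert add_mem h1 this using 1
      simp only [map_sub, map_sum, pderiv_mul, Finset.sum_add_distrib]
      ring
    have h3 := hJI a₀ (fun k => by simp) _ h2
    simp only [map_sub, map_sum, map_mul] at h3
    simpa [E, Matrix.mul_apply] using I.neg_mem h3
  obtain ⟨P, hP, hPE⟩ := exists_idempotent_matrix_lift h E hEI
  let G : Fin n → MvPolynomial (Fin n) A := fun l =>
    MvPolynomial.map (algebraMap R A) (g l) + ∑ k, C ((1 - P) l k) * (X k - C (a₀ k))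
  have hevmap : ∀ (a : Fin n → A) (f : MvPolynomial (Fin n) R),
      MvPolynomial.eval a (MvPolynomial.map (algebraMap R A) f) = aeval a f := fun a f => by
    rw [MvPolynomial.eval_map]; rfl
  have hG0 : ∀ l, MvPolynomial.eval a₀ (G l) ∈ I := fun l => by
    simp only [G, map_add, hevmap, map_sum, map_mul, map_sub, eval_C, eval_X, sub_self, mul_zero,
      Finset.sum_const_zero, add_zero]
    exact hJI a₀ (fun k => by simp) _ (hg l)
  have hjac : IsUnit (Ideal.Quotient.mk I (MvPolynomial.eval a₀ (jacDet G))) := by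
    have : (Matrix.of fun i j => MvPolynomial.pderiv j (G i)).map
        ((Ideal.Quotient.mk I).comp (MvPolynomial.eval a₀)) = 1 := by
      ext i j
      have hd : MvPolynomial.eval a₀ (pderiv j (G i)) = E i j + (1 - P) i j := by
        simp [G, MvPolynomial.pderiv_map, hevmap, E, pderiv_X, Pi.single_apply,
          apply_ite (MvPolynomial.eval a₀)]
      simp only [Matrix.map_apply, Matrix.of_apply, RingHom.comp_apply, hd, Matrix.sub_apply]
      rw [show E i j + ((1 : Matrix (Fin n) (Fin n) A) i j - P i j) =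
        (1 : Matrix (Fin n) (Fin n) A) i j - (P i j - E i j) by ring, map_sub,
        Ideal.Quotient.eq_zero_iff_mem.mpr (hPE i j), sub_zero]
      simp [Matrix.one_apply, apply_ite (Ideal.Quotient.mk I)]
    rw [jacDet, ← RingHom.comp_apply, RingHom.map_det, RingHom.mapMatrix_apply, this, Matrix.det_one]
    exact isUnit_one
  obtain ⟨a, ha, haI⟩ := exists_zero_of_isUnit_jacDet h G a₀ hG0 hjac
  let v : Fin n → A := fun l => aeval a (g l)
  let K : Ideal A := Ideal.span (Set.range v)
  have hKI : K ≤ I := Ideal.span_le.mpr (by rintro _ ⟨l, rfl⟩; exact hJI a haI _ (hg l))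
  have hJK : J.map (aeval a).toRingHom ≤ K := by
    refine Submodule.le_of_le_smul_of_le_jacobson_bot (hJfg.map _) h.jac ?_
    rw [Ideal.map_le_iff_le_comap]
    intro f hf
    rw [Ideal.mem_comap, show f = (∑ k, pderiv k f * g k) + (f - ∑ k, pderiv k f * g k) by ring,
      map_add]
    refine Submodule.add_mem_sup ?_ ?_
    · rw [map_sum]
      refine Ideal.sum_mem _ fun k _ => ?_
      rw [map_mul]
      exact Ideal.mul_mem_left _ _ (Ideal.subset_span ⟨k, rfl⟩)
    · rw [smul_eq_mul]
      refine Ideal.mul_mono_left ?_ (Ideal.map_mul (aeval a).toRingHom J J ▸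
        Ideal.mem_map_of_mem _ (hgJ f hf))
      rw [Ideal.map_le_iff_le_comap]
      exact fun f hf => hJI a haI f hf
  have hmapJ : ∀ f ∈ J, aeval a f ∈ K := fun f hf => hJK (Ideal.mem_map_of_mem _ hf)
  have hv : ∀ l, v l = -((1 - P).mulVec (fun k => a k - a₀ k)) l := fun l => by
    have := ha l
    simp only [G, map_add, hevmap, map_sum, map_mul, map_sub, eval_C, eval_X] at this
    simpa [v, Matrix.mulVec, dotProduct] using eq_neg_of_add_eq_zero_left this
  have hPv : P.mulVec v = 0 := by
    rw [show v = -((1 - P).mulVec (fun k => a k - a₀ k)) from funext hv, Matrix.mulVec_neg,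
      Matrix.mulVec_mulVec, mul_sub, mul_one, hP, sub_self, Matrix.zero_mulVec, neg_zero]
  have hK : K ≤ I • K := by
    rw [Ideal.span_le]
    rintro _ ⟨l, rfl⟩
    have h1 : aeval a (g l - ∑ k, pderiv k (g l) * g k) ∈ I • K := by
      have h2 := hgJ _ (hg l)
      refine Submodule.mul_induction_on h2 (fun x hx y hy => ?_) (fun x y hx hy => ?_)
      · rw [map_mul]
        exact Submodule.smul_mem_smul (hJI a haI x hx) (hmapJ y hy)
      · rw [map_add]; exact add_mem hx hy
    have h4 : ∀ k, aeval a (pderiv k (g l)) - P l k ∈ I := fun k => by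
      have h5 : aeval a (pderiv k (g l)) - aeval a₀ (pderiv k (g l)) ∈ I := by
        rw [← Ideal.Quotient.eq]
        have : (Ideal.Quotient.mkₐ R I).comp (aeval a) = (Ideal.Quotient.mkₐ R I).comp (aeval a₀) :=
          MvPolynomial.algHom_ext fun k => by simpa [Ideal.Quotient.eq] using haI k
        exact congr($this _)
      convert sub_mem h5 (hPE l k) using 1
      simp [E]
    have h6 : v l = aeval a (g l - ∑ k, pderiv k (g l) * g k) +
        ∑ k, (aeval a (pderiv k (g l)) - P l k) * v k := by
      have : ∑ k, P l k * v k = 0 := congrFun hPv l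
      simp only [map_sub, map_sum, map_mul, sub_mul, Finset.sum_sub_distrib, this, sub_zero, v]
      ring
    rw [SetLike.mem_coe, h6]
    exact add_mem h1 (Submodule.sum_mem _ fun k _ =>
      Submodule.smul_mem_smul (h4 k) (Ideal.subset_span ⟨k, rfl⟩))
  have hK0 : K = ⊥ := Submodule.eq_bot_of_le_smul_of_le_jacobson_bot I K
    (Submodule.fg_span (Set.finite_range v)) hK h.jac
  have hz : RingHom.ker π.toRingHom ≤ RingHom.ker (aeval a : MvPolynomial (Fin n) R →ₐ[R] A).toRingHom :=
    fun f hf => by
      have h0 := hmapJ f hf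
      rw [hK0] at h0
      exact h0
  refine ⟨AlgHom.liftOfSurjective π hπ (aeval a) hz, ?_⟩
  refine AlgHom.ext fun x => ?_
  obtain ⟨x, rfl⟩ := hπ x
  rw [AlgHom.comp_apply, AlgHom.liftOfSurjective_apply]
  have : (Ideal.Quotient.mkₐ R I).comp (aeval a) = σ.comp π := by
    rw [← hσ]
    exact MvPolynomial.algHom_ext fun k => by simpa [Ideal.Quotient.eq] using haI k
  exact congr($this x)

end Groth.Agent.Hens
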