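import Groth.Agent.Lib.Hens.IndEtale
import Groth.Agent.Lib.Hens.Fibre
import Mathlib.RingTheory.LocalRing.ResidueField.Ideal

/-!
Residually trivial étale neighbourhoods of a prime and the henselization at a prime.
-/

open IsLocalRing

open scoped TensorProduct

namespace Groth.Agent.Hens

universe u

variable {R : Type u} [CommRing R] (p : Ideal R) [p.IsPrime]

section Trivial

variable {S : Type u} [CommRing S] [Algebra R S]

theorem exists_residueField_lift (q : Ideal S) [q.IsPrime] {T : Type u} [Field T] (φ : S →+* T)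
    (hφ : RingHom.ker φ = q) : ∃ φ' : q.ResidueField →+* T,
      ∀ x, φ' (algebraMap S q.ResidueField x) = φ x := by
  have hu : q.primeCompl ≤ (IsUnit.submonoid T).comap φ := fun x hx => by
    show IsUnit (φ x)
    exact isUnit_iff_ne_zero.mpr fun h0 => hx (hφ.le h0)
  exact ⟨Ideal.ResidueField.lift q φ hφ.ge hu, fun x =>
    Ideal.ResidueField.lift_algebraMap q φ hφ.ge hu x⟩

/-- The point attached to a residually trivial prime. -/
theorem exists_algHom_of_bijective (q : Ideal S) [q.IsPrime] (hq : p = q.comap (algebraMap R S))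
    (h : Function.Bijective (Ideal.ResidueField.map p q (algebraMap R S) hq)) :
    ∃ σ : S →ₐ[R] p.ResidueField, RingHom.ker σ = q := by
  let e := RingEquiv.ofBijective _ h
  refine ⟨{ e.symm.toRingHom.comp (algebraMap S q.ResidueField) with commutes' := fun r => ?_ }, ?_⟩
  · show e.symm (algebraMap S q.ResidueField (algebraMap R S r)) = _
    apply e.injective
    rw [RingEquiv.apply_symm_apply]
    exact (Ideal.ResidueField.map_algebraMap p q (algebraMap R S) hq r).symm
  · ext x
    show e.symm (algebraMap S q.ResidueField x) = 0 ↔ _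
    rw [map_eq_zero_iff _ e.symm.injective, Ideal.algebraMap_residueField_eq_zero]

theorem bijective_residueFieldMap (σ : S →ₐ[R] p.ResidueField) (q : Ideal S) [q.IsPrime]
    (hker : RingHom.ker σ = q) (hq : p = q.comap (algebraMap R S)) :
    Function.Bijective (Ideal.ResidueField.map p q (algebraMap R S) hq) := by
  refine ⟨RingHom.injective _, fun y => ?_⟩
  obtain ⟨g, hg⟩ := exists_residueField_lift q σ.toRingHom hker
  refine ⟨g y, (RingHom.injective g) ?_⟩
  have hcomp : g.comp (Ideal.ResidueField.map p q (algebraMap R S) hq) = RingHom.id _ := by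
    refine Ideal.ResidueField.ringHom_ext (RingHom.ext fun r => ?_)
    show g (Ideal.ResidueField.map p q (algebraMap R S) hq (algebraMap R p.ResidueField r)) =
      algebraMap R p.ResidueField r
    rw [Ideal.ResidueField.map_algebraMap, hg]
    exact σ.commutes r
  exact congr($hcomp (g y))

theorem comap_ker_eq (σ : S →ₐ[R] p.ResidueField) :
    p = (RingHom.ker σ).comap (algebraMap R S) := by
  ext r
  rw [Ideal.mem_comap, RingHom.mem_ker, σ.commutes, Ideal.algebraMap_residueField_eq_zero]

theorem algHom_residue_ext {T : Type u} [Field T] [Algebra R T] (f g : p.ResidueField →ₐ[R] T) :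
    f = g :=
  AlgHom.coe_ringHom_injective
    (Ideal.ResidueField.ringHom_ext (f.comp_algebraMap.trans g.comp_algebraMap.symm))

/-- Two points with the same kernel into fields agree, when the kernel is residually trivial. -/
theorem algHom_eq_of_ker (q : Ideal S) [q.IsPrime] (hq : p = q.comap (algebraMap R S))
    (h : Function.Bijective (Ideal.ResidueField.map p q (algebraMap R S) hq))
    {T : Type u} [Field T] [Algebra R T] (f g : S →ₐ[R] T) (hf : RingHom.ker f = q)
    (hg : RingHom.ker g = q) : f = g := by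
  obtain ⟨f', hf'⟩ := exists_residueField_lift q f.toRingHom hf
  obtain ⟨g', hg'⟩ := exists_residueField_lift q g.toRingHom hg
  have heq : f'.comp (Ideal.ResidueField.map p q (algebraMap R S) hq) =
      g'.comp (Ideal.ResidueField.map p q (algebraMap R S) hq) :=
    Ideal.ResidueField.ringHom_ext (RingHom.ext fun r => by
      simp only [RingHom.comp_apply, Ideal.ResidueField.map_algebraMap]
      rw [hf', hg']
      exact (f.commutes r).trans (g.commutes r).symm)
  refine AlgHom.ext fun x => ?_
  rw [show f x = f.toRingHom x from rfl, show g x = g.toRingHom x from rfl, ← hf', ← hg']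
  obtain ⟨y, hy⟩ := h.2 (algebraMap S q.ResidueField x)
  rw [← hy]
  exact congr($heq y)

end Trivial

theorem Hs.maximalIdeal_eq_map_prime :
    maximalIdeal (Hs R p.ResidueField) = p.map (algebraMap R (Hs R p.ResidueField)) := by
  refine le_antisymm (fun x hx => ?_) (Ideal.map_le_iff_le_comap.mpr fun r hr => ?_)
  · obtain ⟨i, y, rfl⟩ := Hs.exists_of x
    rw [← Hs.res_eq_zero_iff, Hs.res_of, Nbhd.res_eq_zero_iff,
      ← Localization.AtPrime.map_eq_maximalIdeal] at hx
    have hmem : ∀ z ∈ i.q, Hs.of i (algebraMap i.S i.G z) ∈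
        p.map (algebraMap R (Hs R p.ResidueField)) := fun z hz => by
      obtain ⟨s, hs, h⟩ := unrStalks_of_essFiniteType R i.S i.q inferInstance z hz
      have hp : i.q.comap (algebraMap R i.S) = p := (comap_ker_eq p i.σ).symm
      rw [hp] at h
      let φ : i.S →+* Hs R p.ResidueField := (Hs.of i).toRingHom.comp (algebraMap i.S i.G)
      have h' := Ideal.mem_map_of_mem φ h
      rw [Ideal.map_map, show φ.comp (algebraMap R i.S) = algebraMap R (Hs R p.ResidueField) from
        RingHom.ext fun r => by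
          show Hs.of i (algebraMap i.S i.G (algebraMap R i.S r)) = _
          rw [← IsScalarTower.algebraMap_apply, AlgHom.commutes], map_mul] at h'
      exact (Ideal.unit_mul_mem_iff_mem _
        ((IsLocalization.map_units (M := i.q.primeCompl) i.G ⟨s, hs⟩).map (Hs.of i))).mp h'
    let φ : i.G →+* Hs R p.ResidueField := (Hs.of i).toRingHom
    have hle : (i.q.map (algebraMap i.S i.G)).map φ ≤
        p.map (algebraMap R (Hs R p.ResidueField)) := by
      rw [Ideal.map_map]
      exact Ideal.map_le_iff_le_comap.mpr hmem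
    exact hle (Ideal.mem_map_of_mem φ hx)
  · rw [Ideal.mem_comap, ← Hs.res_eq_zero_iff, AlgHom.commutes]
    exact Ideal.algebraMap_residueField_eq_zero.mpr hr

noncomputable instance : Algebra (Localization.AtPrime p) (Hs R p.ResidueField) :=
  (IsLocalization.lift (M := p.primeCompl) (g := algebraMap R (Hs R p.ResidueField)) fun s => by
    rw [Hs.isUnit_iff, AlgHom.commutes, ne_eq, Ideal.algebraMap_residueField_eq_zero]
    exact s.2).toAlgebra

instance : IsScalarTower R (Localization.AtPrime p) (Hs R p.ResidueField) :=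
  IsScalarTower.of_algebraMap_eq fun r => (IsLocalization.lift_eq _ r).symm

theorem res_algebraMap_atPrime (a : Localization.AtPrime p) :
    Hs.res (algebraMap (Localization.AtPrime p) (Hs R p.ResidueField) a) =
      algebraMap (Localization.AtPrime p) p.ResidueField a := by
  have : ((Hs.res : Hs R p.ResidueField →ₐ[R] p.ResidueField).toRingHom.comp
      (algebraMap (Localization.AtPrime p) (Hs R p.ResidueField))) =
      algebraMap (Localization.AtPrime p) p.ResidueField :=
    IsLocalization.ringHom_ext p.primeCompl (RingHom.ext fun r => by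
      show Hs.res (algebraMap _ _ (algebraMap R (Localization.AtPrime p) r)) = _
      rw [← IsScalarTower.algebraMap_apply, AlgHom.commutes, RingHom.comp_apply,
        ← IsScalarTower.algebraMap_apply])
  exact congr($this a)

instance : IsLocalHom (algebraMap (Localization.AtPrime p) (Hs R p.ResidueField)) where
  map_nonunit a ha := by
    rw [Hs.isUnit_iff, res_algebraMap_atPrime] at ha
    by_contra hn
    exact ha ((residue_eq_zero_iff a).mpr hn)

instance : Hensel.IsHenselization (Localization.AtPrime p) (Hs R p.ResidueField) where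
  henselian := inferInstance
  universal T _ _ f hf := by
    let _ := f.toAlgebra
    have : IsLocalHom (algebraMap (Localization.AtPrime p) T) := hf
    let _ : Algebra R T := (f.comp (algebraMap R (Localization.AtPrime p))).toAlgebra
    let τ : p.ResidueField →ₐ[R] ResidueField T :=
      { ResidueField.map f with commutes' := fun r => rfl }
    obtain ⟨g, hg, hu⟩ := Hs.existsUnique_lift (R := R) T τ
    refine ⟨g.toRingHom, ?_, fun g' hg' => ?_⟩
    · refine IsLocalization.ringHom_ext p.primeCompl (RingHom.ext fun r => ?_)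
      show g (algebraMap _ _ (algebraMap R (Localization.AtPrime p) r)) = _
      rw [← IsScalarTower.algebraMap_apply, AlgHom.commutes]
      rfl
    · let g'' : Hs R p.ResidueField →ₐ[R] T :=
        { g' with commutes' := fun r =>
            (congrArg g' (IsScalarTower.algebraMap_apply R (Localization.AtPrime p)
              (Hs R p.ResidueField) r)).trans congr($hg' (algebraMap R (Localization.AtPrime p) r)) }
      refine congrArg AlgHom.toRingHom (hu g'' fun x => ?_)
      obtain ⟨a, ha⟩ := residue_surjective (R := Localization.AtPrime p) (Hs.res x)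
      have hx : x - algebraMap _ _ a ∈ maximalIdeal (Hs R p.ResidueField) := by
        rw [← Hs.res_eq_zero_iff, map_sub, res_algebraMap_atPrime, sub_eq_zero]
        exact ha.symm
      have hmax : g'' (x - algebraMap _ _ a) ∈ maximalIdeal T := by
        let φ : Hs R p.ResidueField →+* T := g''.toRingHom
        have hle : (maximalIdeal (Hs R p.ResidueField)).map φ ≤ maximalIdeal T := by
          rw [Hs.maximalIdeal_eq_map_prime, Ideal.map_map,
            show φ.comp (algebraMap R (Hs R p.ResidueField)) = algebraMap R T from g''.comp_algebraMap,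
            show algebraMap R T = f.comp (algebraMap R (Localization.AtPrime p)) from rfl,
            ← Ideal.map_map, Localization.AtPrime.map_eq_maximalIdeal]
          exact ((local_hom_TFAE f).out 0 2 rfl rfl).mp hf
        exact hle (Ideal.mem_map_of_mem φ hx)
      rw [← residue_eq_zero_iff, map_sub, map_sub, sub_eq_zero] at hmax
      rw [hmax, show g'' (algebraMap _ _ a) = f a from congr($hg' a), ← ha]
      rfl

end Groth.Agent.Hens

namespace Groth.Agent.Hens

universe u

theorem exists_equiv_isHenselization (A S T : Type u) [CommRing A] [IsLocalRing A] [CommRing S]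
    [IsLocalRing S] [Algebra A S] [IsLocalHom (algebraMap A S)] [Hensel.IsHenselization A S]
    [CommRing T] [IsLocalRing T] [Algebra A T] [IsLocalHom (algebraMap A T)]
    [Hensel.IsHenselization A T] : Nonempty (S ≃ₐ[A] T) := by
  obtain ⟨e⟩ := exists_henselization_equiv A S
  obtain ⟨e'⟩ := exists_henselization_equiv A T
  exact ⟨e.symm.trans e'⟩

variable {R : Type u} [CommRing R] (p : Ideal R) [p.IsPrime]

theorem exists_trivial_dominating (S₁ : Type u) [CommRing S₁] [Algebra R S₁] [Algebra.Etale R S₁]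
    (q₁ : Ideal S₁) [q₁.IsPrime] (hq₁ : p = q₁.comap (algebraMap R S₁))
    (hq₁κ : Function.Bijective (Ideal.ResidueField.map p q₁ (algebraMap R S₁) hq₁))
    (S₂ : Type u) [CommRing S₂] [Algebra R S₂] [Algebra.Etale R S₂] (q₂ : Ideal S₂) [q₂.IsPrime]
    (hq₂ : p = q₂.comap (algebraMap R S₂))
    (hq₂κ : Function.Bijective (Ideal.ResidueField.map p q₂ (algebraMap R S₂) hq₂)) :
    ∃ (S₃ : Type u) (_ : CommRing S₃) (_ : Algebra R S₃) (_ : Algebra.Etale R S₃) (q₃ : Ideal S₃)
      (_ : q₃.IsPrime) (hq₃ : p = q₃.comap (algebraMap R S₃)),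
      Function.Bijective (Ideal.ResidueField.map p q₃ (algebraMap R S₃) hq₃) ∧
        ∃ (φ₁ : S₁ →ₐ[R] S₃) (φ₂ : S₂ →ₐ[R] S₃),
          q₃.comap φ₁.toRingHom = q₁ ∧ q₃.comap φ₂.toRingHom = q₂ := by
  obtain ⟨σ₁, h₁⟩ := exists_algHom_of_bijective p q₁ hq₁ hq₁κ
  obtain ⟨σ₂, h₂⟩ := exists_algHom_of_bijective p q₂ hq₂ hq₂κ
  let σ : S₁ ⊗[R] S₂ →ₐ[R] p.ResidueField :=
    Algebra.TensorProduct.lift σ₁ σ₂ fun _ _ => .all _ _
  have : Algebra.Etale R (S₁ ⊗[R] S₂) := Algebra.Etale.comp R S₁ _
  have hq : (RingHom.ker σ).IsPrime := RingHom.ker_isPrime σ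
  refine ⟨S₁ ⊗[R] S₂, inferInstance, inferInstance, inferInstance, RingHom.ker σ, hq,
    comap_ker_eq p σ, bijective_residueFieldMap p σ _ rfl _,
    Algebra.TensorProduct.includeLeft, Algebra.TensorProduct.includeRight, ?_, ?_⟩
  · rw [← h₁]; ext x; show σ (x ⊗ₜ 1) = 0 ↔ σ₁ x = 0; simp [σ]
  · rw [← h₂]; ext x; show σ (1 ⊗ₜ x) = 0 ↔ σ₂ x = 0; simp [σ]

theorem exists_trivial_coequalizing (S₁ : Type u) [CommRing S₁] [Algebra R S₁] [Algebra.Etale R S₁]
    (q₁ : Ideal S₁) [q₁.IsPrime] (hq₁ : p = q₁.comap (algebraMap R S₁))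
    (hq₁κ : Function.Bijective (Ideal.ResidueField.map p q₁ (algebraMap R S₁) hq₁))
    (S₂ : Type u) [CommRing S₂] [Algebra R S₂] [Algebra.Etale R S₂] (q₂ : Ideal S₂) [q₂.IsPrime]
    (hq₂ : p = q₂.comap (algebraMap R S₂))
    (hq₂κ : Function.Bijective (Ideal.ResidueField.map p q₂ (algebraMap R S₂) hq₂))
    (φ ψ : S₁ →ₐ[R] S₂) (hφ : q₂.comap φ.toRingHom = q₁) (hψ : q₂.comap ψ.toRingHom = q₁) :
    ∃ (S₃ : Type u) (_ : CommRing S₃) (_ : Algebra R S₃) (_ : Algebra.Etale R S₃) (q₃ : Ideal S₃)
      (_ : q₃.IsPrime) (hq₃ : p = q₃.comap (algebraMap R S₃)),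
      Function.Bijective (Ideal.ResidueField.map p q₃ (algebraMap R S₃) hq₃) ∧
        ∃ χ : S₂ →ₐ[R] S₃, q₃.comap χ.toRingHom = q₂ ∧ χ.comp φ = χ.comp ψ := by
  obtain ⟨σ₂, h₂⟩ := exists_algHom_of_bijective p q₂ hq₂ hq₂κ
  have heq : σ₂.comp φ = σ₂.comp ψ := algHom_eq_of_ker p q₁ hq₁ hq₁κ _ _
    (by rw [← hφ, ← h₂]; rfl) (by rw [← hψ, ← h₂]; rfl)
  obtain ⟨i, e, he⟩ := Nbhd.exists_of (K := p.ResidueField) S₁ (σ₂.comp φ)
  obtain ⟨j, e', he'⟩ := Nbhd.exists_of (K := p.ResidueField) S₂ σ₂
  let f : (⟨i⟩ : EtNbhd R p.ResidueField) ⟶ ⟨j⟩ := ⟨e'.toAlgHom.comp (φ.comp e.symm.toAlgHom),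
    AlgHom.ext fun x => by
      show j.σ (e' (φ (e.symm x))) = i.σ x
      rw [he', show σ₂ (φ (e.symm x)) = (σ₂.comp φ) (e.symm x) from rfl, ← he, e.apply_symm_apply]⟩
  let g : (⟨i⟩ : EtNbhd R p.ResidueField) ⟶ ⟨j⟩ := ⟨e'.toAlgHom.comp (ψ.comp e.symm.toAlgHom),
    AlgHom.ext fun x => by
      show j.σ (e' (ψ (e.symm x))) = i.σ x
      rw [he', show σ₂ (ψ (e.symm x)) = (σ₂.comp ψ) (e.symm x) from rfl, ← heq, ← he,
        e.apply_symm_apply]⟩
  let h := CategoryTheory.IsFiltered.coeqHom f g
  let k := (CategoryTheory.IsFiltered.coeq f g).toNbhd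
  have hh : h.1.comp f.1 = h.1.comp g.1 :=
    congrArg Subtype.val (CategoryTheory.IsFiltered.coeq_condition f g)
  have hk : k.σ.comp h.1 = j.σ := h.2
  refine ⟨k.S, inferInstance, inferInstance, inferInstance, k.q, inferInstance,
    comap_ker_eq p k.σ, bijective_residueFieldMap p k.σ k.q rfl _, h.1.comp e'.toAlgHom, ?_, ?_⟩
  · rw [← h₂]
    ext x
    show k.σ (h.1 (e' x)) = 0 ↔ σ₂ x = 0
    rw [show k.σ (h.1 (e' x)) = j.σ (e' x) from congr($hk (e' x)), he']
  · refine AlgHom.ext fun x => ?_
    have := congr($hh (e x))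
    show h.1 (e' (φ x)) = h.1 (e' (ψ x))
    have h' : h.1 (e' (φ (e.symm (e x)))) = h.1 (e' (ψ (e.symm (e x)))) := this
    rwa [e.symm_apply_apply] at h'

theorem henselization_atPrime_colimit (Rh : Type u) [CommRing Rh] [IsLocalRing Rh]
    [Algebra (Localization.AtPrime p) Rh] [IsLocalHom (algebraMap (Localization.AtPrime p) Rh)]
    [Hensel.IsHenselization (Localization.AtPrime p) Rh] [Algebra R Rh]
    [IsScalarTower R (Localization.AtPrime p) Rh] :
    (∀ (S : Type u) [CommRing S] [Algebra R S] [Algebra.Etale R S] (q : Ideal S) [q.IsPrime]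
        (hq : p = q.comap (algebraMap R S)),
        Function.Bijective (Ideal.ResidueField.map p q (algebraMap R S) hq) →
          ∃! f : S →ₐ[R] Rh, (maximalIdeal Rh).comap f.toRingHom = q) ∧
    (∀ x : Rh, ∃ (S : Type u) (_ : CommRing S) (_ : Algebra R S) (_ : Algebra.Etale R S) (q : Ideal S)
        (_ : q.IsPrime) (hq : p = q.comap (algebraMap R S)),
        Function.Bijective (Ideal.ResidueField.map p q (algebraMap R S) hq) ∧
          ∃ (f : S →ₐ[R] Rh) (s : S), (maximalIdeal Rh).comap f.toRingHom = q ∧ f s = x) ∧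
    (∀ (S : Type u) [CommRing S] [Algebra R S] [Algebra.Etale R S] (q : Ideal S) [q.IsPrime]
        (hq : p = q.comap (algebraMap R S)),
        Function.Bijective (Ideal.ResidueField.map p q (algebraMap R S) hq) →
          ∀ (f : S →ₐ[R] Rh), (maximalIdeal Rh).comap f.toRingHom = q → ∀ s : S, f s = 0 →
            ∃ (S' : Type u) (_ : CommRing S') (_ : Algebra R S') (_ : Algebra.Etale R S') (q' : Ideal S')
              (_ : q'.IsPrime) (hq' : p = q'.comap (algebraMap R S')),
              Function.Bijective (Ideal.ResidueField.map p q' (algebraMap R S') hq') ∧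
                ∃ φ : S →ₐ[R] S', q'.comap φ.toRingHom = q ∧ φ s = 0) := by
  obtain ⟨e₀⟩ := exists_equiv_isHenselization (Localization.AtPrime p) (Hs R p.ResidueField) Rh
  let e : Hs R p.ResidueField ≃ₐ[R] Rh := e₀.restrictScalars R
  have hmax : ∀ x, e x ∈ maximalIdeal Rh ↔ Hs.res x = 0 := fun x => by
    rw [Hs.res_eq_zero_iff, mem_maximalIdeal, mem_maximalIdeal, mem_nonunits_iff, mem_nonunits_iff,
      isUnit_map_iff]
  have hex : ∀ (S : Type u) [CommRing S] [Algebra R S] [Algebra.Etale R S] (q : Ideal S) [q.IsPrime]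
      (hq : p = q.comap (algebraMap R S)),
      Function.Bijective (Ideal.ResidueField.map p q (algebraMap R S) hq) →
      ∀ f g : S →ₐ[R] Rh, (maximalIdeal Rh).comap f.toRingHom = q →
        (maximalIdeal Rh).comap g.toRingHom = q → f = g := by
    intro S _ _ _ q _ hq hb f g hf hg
    have hres := algHom_eq_of_ker p q hq hb ((IsScalarTower.toAlgHom R Rh (ResidueField Rh)).comp f)
      ((IsScalarTower.toAlgHom R Rh (ResidueField Rh)).comp g)
      (by rw [← hf]; ext x; exact residue_eq_zero_iff (f x))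
      (by rw [← hg]; ext x; exact residue_eq_zero_iff (g x))
    refine algHom_ext_of_le_jacobson (A := R) (E := S)
      (maximalIdeal_le_jacobson (⊥ : Ideal Rh)) fun x => ?_
    rw [← residue_eq_zero_iff, map_sub, sub_eq_zero]
    exact congr($hres x)
  have hmk : ∀ (i : EtNbhd R p.ResidueField),
      (maximalIdeal Rh).comap (e.toAlgHom.comp i.toHs).toRingHom = i.toNbhd.q := fun i => by
    ext x
    show e (i.toHs x) ∈ maximalIdeal Rh ↔ i.toNbhd.σ x = 0
    rw [hmax, EtNbhd.toHs_apply, Hs.res_of, Nbhd.res_algebraMap]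
  have hnb : ∀ (S : Type u) [CommRing S] [Algebra R S] [Algebra.Etale R S] (q : Ideal S) [q.IsPrime]
      (hq : p = q.comap (algebraMap R S)),
      Function.Bijective (Ideal.ResidueField.map p q (algebraMap R S) hq) →
      ∃ (i : EtNbhd R p.ResidueField) (ε : S ≃ₐ[R] i.toNbhd.S),
        i.toNbhd.q.comap ε.toAlgHom.toRingHom = q := by
    intro S _ _ _ q _ hq hb
    obtain ⟨σ, hσ⟩ := exists_algHom_of_bijective p q hq hb
    obtain ⟨i, ε, hε⟩ := Nbhd.exists_of (K := p.ResidueField) S σ
    refine ⟨⟨i⟩, ε, ?_⟩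
    rw [← hσ]
    ext x
    show i.σ (ε x) = 0 ↔ σ x = 0
    rw [hε]
  refine ⟨?_, fun x => ?_, ?_⟩
  · intro S _ _ _ q _ hq hb
    obtain ⟨i, ε, hε⟩ := hnb S q hq hb
    have hf : (maximalIdeal Rh).comap ((e.toAlgHom.comp i.toHs).comp ε.toAlgHom).toRingHom = q := by
      rw [← hε, ← hmk i]; rfl
    exact ⟨_, hf, fun g hg => hex S q hq hb g _ hg hf⟩
  · obtain ⟨k, y, hy⟩ := EtNbhd.exists_toHs (e.symm x)
    refine ⟨k.toNbhd.S, inferInstance, inferInstance, inferInstance, k.toNbhd.q, inferInstance,
      comap_ker_eq p k.toNbhd.σ, bijective_residueFieldMap p k.toNbhd.σ k.toNbhd.q rfl _,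
      e.toAlgHom.comp k.toHs, y, hmk k, ?_⟩
    show e (k.toHs y) = x
    rw [hy, e.apply_symm_apply]
  · intro S _ _ _ q _ hq hb f hf s hs
    obtain ⟨i, ε, hε⟩ := hnb S q hq hb
    have hfe := hex S q hq hb f ((e.toAlgHom.comp i.toHs).comp ε.toAlgHom) hf (by
      rw [← hε, ← hmk i]; rfl)
    rw [hfe] at hs
    obtain ⟨k, g, hg⟩ := EtNbhd.exists_hom_eq (m := i) (a := ε s) (b := 0) (by
      rw [map_zero]; exact e.injective (hs.trans (map_zero e).symm))
    refine ⟨k.toNbhd.S, inferInstance, inferInstance, inferInstance, k.toNbhd.q, inferInstance,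
      comap_ker_eq p k.toNbhd.σ, bijective_residueFieldMap p k.toNbhd.σ k.toNbhd.q rfl _,
      g.1.comp ε.toAlgHom, ?_, hg.trans (map_zero _)⟩
    rw [← hε]
    ext x
    show k.toNbhd.σ (g.1 (ε x)) = 0 ↔ i.toNbhd.σ (ε x) = 0
    rw [show k.toNbhd.σ (g.1 (ε x)) = i.toNbhd.σ (ε x) from congr($(g.2) (ε x))]

end Groth.Agent.Hens
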