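import Groth.Agent.Lib.Hens.Henselization
import Groth.Prelude.Def_PBC
import Mathlib.Algebra.Category.Ring.Under.Basic
import Mathlib.CategoryTheory.Filtered.Basic

/-!
(Strict) henselizations are ind-étale.
-/

open CategoryTheory CategoryTheory.Limits

open scoped TensorProduct

namespace Groth.Agent.Hens

universe u

variable (R : Type u) [CommRing R] (K : Type u) [Field K] [Algebra R K]

/-- Étale neighbourhoods with morphisms of coordinate rings. -/
structure EtNbhd : Type u where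
  /-- View as a neighbourhood. -/
  toNbhd : Nbhd R K

variable {R K}

noncomputable instance : SmallCategory (EtNbhd R K) where
  Hom i j := {ψ : i.toNbhd.S →ₐ[R] j.toNbhd.S // j.toNbhd.σ.comp ψ = i.toNbhd.σ}
  id i := ⟨AlgHom.id R _, AlgHom.comp_id _⟩
  comp f g := ⟨g.1.comp f.1, by rw [← AlgHom.comp_assoc, g.2, f.2]⟩
  id_comp f := Subtype.ext (AlgHom.comp_id _)
  comp_id f := Subtype.ext (AlgHom.id_comp _)
  assoc f g h := Subtype.ext (AlgHom.comp_assoc _ _ _)

namespace EtNbhd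

/-- The map to the colimit. -/
noncomputable def toHs (i : EtNbhd R K) : i.toNbhd.S →ₐ[R] Hs R K :=
  (Hs.of i.toNbhd).comp (IsScalarTower.toAlgHom R i.toNbhd.S i.toNbhd.G)

theorem toHs_apply (i : EtNbhd R K) (x : i.toNbhd.S) :
    i.toHs x = Hs.of i.toNbhd (algebraMap _ i.toNbhd.G x) := rfl

theorem toHs_hom {i j : EtNbhd R K} (f : i ⟶ j) (x : i.toNbhd.S) : j.toHs (f.1 x) = i.toHs x := by
  obtain ⟨h, h'⟩ := Nbhd.le_of_algHom f.1 f.2
  rw [toHs_apply, toHs_apply, ← h', Hs.of_map]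

/-- Inverting an element not vanishing at the point. -/
theorem exists_invert (i : EtNbhd R K) (t : i.toNbhd.S) (ht : i.toNbhd.σ t ≠ 0) :
    ∃ (k : EtNbhd R K) (f : i ⟶ k), IsUnit (f.1 t) := by
  let σA : Localization.Away t →ₐ[R] K :=
    IsLocalization.Away.liftAlgHom t (f := i.toNbhd.σ) (isUnit_iff_ne_zero.mpr ht)
  have : Algebra.Etale R (Localization.Away t) := by
    have := Algebra.Etale.of_isLocalizationAway (R := i.toNbhd.S) (A := Localization.Away t) t
    exact Algebra.Etale.comp R i.toNbhd.S _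
  obtain ⟨k, e, he⟩ := Nbhd.exists_of (Localization.Away t) σA
  refine ⟨⟨k⟩, ⟨e.toAlgHom.comp (IsScalarTower.toAlgHom R i.toNbhd.S (Localization.Away t)), ?_⟩,
    (IsLocalization.Away.algebraMap_isUnit (S := Localization.Away t) t).map e⟩
  ext x
  show k.σ (e (algebraMap _ _ x)) = i.toNbhd.σ x
  rw [he]
  exact IsLocalization.Away.lift_eq (S := Localization.Away t) t (g := i.toNbhd.σ.toRingHom)
    (isUnit_iff_ne_zero.mpr ht) x

theorem exists_equalize (i : EtNbhd R K) {ι : Type} [Finite ι] (a b : ι → i.toNbhd.S)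
    (h : ∀ c, algebraMap _ i.toNbhd.G (a c) = algebraMap _ i.toNbhd.G (b c)) :
    ∃ (k : EtNbhd R K) (f : i ⟶ k), ∀ c, f.1 (a c) = f.1 (b c) := by
  cases nonempty_fintype ι
  have h' := fun c => (IsLocalization.eq_iff_exists i.toNbhd.q.primeCompl i.toNbhd.G).mp (h c)
  choose t ht using h'
  obtain ⟨k, f, hf⟩ := i.exists_invert ((∏ c, t c : i.toNbhd.q.primeCompl) : i.toNbhd.S)
    (∏ c, t c : i.toNbhd.q.primeCompl).2
  refine ⟨k, f, fun c => ?_⟩
  have hd : ((∏ c, t c : i.toNbhd.q.primeCompl) : i.toNbhd.S) * a c =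
      ((∏ c, t c : i.toNbhd.q.primeCompl) : i.toNbhd.S) * b c := by
    obtain ⟨s, hs⟩ := Finset.dvd_prod_of_mem t (Finset.mem_univ c)
    rw [hs, Submonoid.coe_mul, mul_comm (t c : i.toNbhd.S) _, mul_assoc, mul_assoc, ht c]
  exact hf.mul_left_cancel (by rw [← map_mul, ← map_mul, hd])

theorem exists_hom₂ (i j : EtNbhd R K) :
    ∃ k : EtNbhd R K, Nonempty (i ⟶ k) ∧ Nonempty (j ⟶ k) := by
  have : Algebra.Etale R (i.toNbhd.S ⊗[R] j.toNbhd.S) := Algebra.Etale.comp R i.toNbhd.S _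
  obtain ⟨k, e, he⟩ := Nbhd.exists_of (i.toNbhd.S ⊗[R] j.toNbhd.S)
    (Algebra.TensorProduct.lift i.toNbhd.σ j.toNbhd.σ fun _ _ => .all _ _)
  refine ⟨⟨k⟩, ⟨⟨e.toAlgHom.comp Algebra.TensorProduct.includeLeft, ?_⟩⟩,
    ⟨⟨e.toAlgHom.comp Algebra.TensorProduct.includeRight, ?_⟩⟩⟩
  · ext x
    show k.σ (e (x ⊗ₜ 1)) = _
    rw [he]
    simp
  · ext x
    show k.σ (e (1 ⊗ₜ x)) = _
    rw [he]
    simp

theorem hom_congr {i j : EtNbhd R K} (f g : i ⟶ j) (x : i.toNbhd.S) :
    algebraMap _ j.toNbhd.G (f.1 x) = algebraMap _ j.toNbhd.G (g.1 x) := by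
  obtain ⟨h, hf⟩ := Nbhd.le_of_algHom f.1 f.2
  obtain ⟨h', hg⟩ := Nbhd.le_of_algHom g.1 g.2
  rw [← hf, ← hg]

instance : Nonempty (EtNbhd R K) := ⟨⟨Classical.arbitrary _⟩⟩

instance : IsFiltered (EtNbhd R K) where
  cocone_objs i j := by
    obtain ⟨k, ⟨f⟩, ⟨g⟩⟩ := exists_hom₂ i j
    exact ⟨k, f, g, trivial⟩
  cocone_maps {i j} f g := by
    have h := hom_congr f g
    obtain ⟨k, e, he⟩ := j.exists_equalize (ι := Fin i.toNbhd.n)
      (fun c => f.1 (Ideal.Quotient.mk _ (MvPolynomial.X c)))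
      (fun c => g.1 (Ideal.Quotient.mk _ (MvPolynomial.X c))) fun c => h _
    exact ⟨k, e, Subtype.ext (Ideal.Quotient.algHom_ext R (MvPolynomial.algHom_ext he))⟩

theorem exists_toHs (x : Hs R K) : ∃ (k : EtNbhd R K) (y : k.toNbhd.S), k.toHs y = x := by
  obtain ⟨i, z, rfl⟩ := Hs.exists_of x
  obtain ⟨s, t, rfl⟩ := IsLocalization.exists_mk'_eq i.q.primeCompl z
  obtain ⟨k, f, hf⟩ := EtNbhd.exists_invert ⟨i⟩ (t : i.S) t.2
  refine ⟨k, f.1 s * (hf.unit⁻¹ : _), (hf.map k.toHs).mul_left_cancel ?_⟩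
  rw [← map_mul, mul_comm (f.1 (t : i.S)), mul_assoc, IsUnit.val_inv_mul, mul_one, toHs_hom f,
    toHs_hom f, toHs_apply, toHs_apply]
  show Hs.of i (algebraMap i.S i.G s) =
    Hs.of i (algebraMap i.S i.G t) * Hs.of i (IsLocalization.mk' i.G s t)
  rw [← map_mul, IsLocalization.mk'_spec']

theorem exists_hom_eq {m : EtNbhd R K} {a b : m.toNbhd.S} (h : m.toHs a = m.toHs b) :
    ∃ (k : EtNbhd R K) (f : m ⟶ k), f.1 a = f.1 b := by
  rw [toHs_apply, toHs_apply] at h
  obtain ⟨l, hml, hml', hl⟩ := Hs.of_eq_of_iff.mp h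
  obtain ⟨n, ⟨f⟩, ⟨g⟩⟩ := exists_hom₂ m ⟨l⟩
  obtain ⟨hf, hf'⟩ := Nbhd.le_of_algHom f.1 f.2
  obtain ⟨hg, -⟩ := Nbhd.le_of_algHom g.1 g.2
  have key : ∀ z : m.toNbhd.G, Nbhd.map hf z = Nbhd.map hg (Nbhd.map hml z) := fun z =>
    congr($(Nbhd.map_unique (φ := Nbhd.map hf) (ψ := (Nbhd.map hg).comp (Nbhd.map hml))
      (AlgHom.ext fun w => Nbhd.res_map hf w)
      (AlgHom.ext fun w => by
        rw [AlgHom.comp_apply, AlgHom.comp_apply, Nbhd.res_map, Nbhd.res_map])) z)
  obtain ⟨k, e, he⟩ := n.exists_equalize (ι := Unit) (fun _ => f.1 a) (fun _ => f.1 b) fun _ => by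
    rw [← hf', ← hf', key, key, hl]
  exact ⟨k, f ≫ e, he ()⟩

theorem exists_cospan {i j : EtNbhd R K} {a : i.toNbhd.S} {b : j.toNbhd.S}
    (h : i.toHs a = j.toHs b) : ∃ (k : EtNbhd R K) (f : i ⟶ k) (g : j ⟶ k), f.1 a = g.1 b := by
  obtain ⟨m, ⟨f⟩, ⟨g⟩⟩ := exists_hom₂ i j
  obtain ⟨k, e, he⟩ := exists_hom_eq (m := m) (a := f.1 a) (b := g.1 b) (by
    rw [toHs_hom, toHs_hom, h])
  exact ⟨k, f ≫ e, g ≫ e, he⟩

end EtNbhd

open EtNbhd in
theorem isIndEtale_of_algEquiv_hs (S : Type u) [CommRing S] [Algebra R S] (e : Hs R K ≃ₐ[R] S) :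
    EtPBC.IsIndEtale R S := by
  classical
  let D : EtNbhd R K ⥤ Under (CommRingCat.of R) :=
    { obj := fun i => Under.mk (CommRingCat.ofHom (algebraMap R i.toNbhd.S))
      map := fun f => Under.homMk (CommRingCat.ofHom f.1.toRingHom)
        (CommRingCat.hom_ext f.1.comp_algebraMap) }
  let c : Cocone D :=
    { pt := Under.mk (CommRingCat.ofHom (algebraMap R S))
      ι := { app := fun i => Under.homMk (CommRingCat.ofHom (e.toAlgHom.comp i.toHs).toRingHom)
               (CommRingCat.hom_ext (e.toAlgHom.comp i.toHs).comp_algebraMap)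
             naturality := fun {i j} f => by
               ext x
               exact congrArg e (toHs_hom f x) } }
  choose J y hy using fun x : S => exists_toHs (e.symm x)
  let g : ∀ (s : Cocone D) (i : EtNbhd R K), i.toNbhd.S →+* s.pt.right :=
    fun s i => (s.ι.app i).right.hom
  have hg : ∀ (s : Cocone D) i j a b, i.toHs a = j.toHs b → g s i a = g s j b := by
    intro s i j a b h
    obtain ⟨k, p, q, hpq⟩ := exists_cospan h
    have e1 := congrArg (fun f : D.obj i ⟶ _ => f.right.hom a) (s.w p)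
    have e2 := congrArg (fun f : D.obj j ⟶ _ => f.right.hom b) (s.w q)
    exact e1.symm.trans ((congrArg (g s k) hpq).trans e2)
  have hd : ∀ (s : Cocone D) x i a, i.toHs a = e.symm x → g s (J x) (y x) = g s i a :=
    fun s x i a h => hg s _ _ _ _ ((hy x).trans h.symm)
  let d : ∀ s : Cocone D, S →+* s.pt.right := fun s =>
    { toFun := fun x => g s (J x) (y x)
      map_one' := (hd s 1 (J 0) 1 (by rw [map_one, map_one])).trans (map_one _)
      map_zero' := (hd s 0 (J 0) 0 (by rw [map_zero, map_zero])).trans (map_zero _)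
      map_mul' := fun a b => by
        obtain ⟨m, ⟨p⟩, ⟨q⟩⟩ := exists_hom₂ (J a) (J b)
        rw [hd s (a * b) m (p.1 (y a) * q.1 (y b)) (by rw [map_mul, map_mul, toHs_hom, toHs_hom, hy, hy]),
          hd s a m (p.1 (y a)) (by rw [toHs_hom, hy]), hd s b m (q.1 (y b)) (by rw [toHs_hom, hy]),
          map_mul]
      map_add' := fun a b => by
        obtain ⟨m, ⟨p⟩, ⟨q⟩⟩ := exists_hom₂ (J a) (J b)
        rw [hd s (a + b) m (p.1 (y a) + q.1 (y b)) (by rw [map_add, map_add, toHs_hom, toHs_hom, hy, hy]),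
          hd s a m (p.1 (y a)) (by rw [toHs_hom, hy]), hd s b m (q.1 (y b)) (by rw [toHs_hom, hy]),
          map_add] }
  refine ⟨EtNbhd R K, inferInstance, inferInstance, D, c,
    { desc := fun s => Under.homMk (CommRingCat.ofHom (d s)) ?_
      fac := ?_
      uniq := ?_ }, fun i => ?_, ⟨Iso.refl _⟩⟩
  · ext r
    refine (hd s (algebraMap R S r) (J 0) (algebraMap R _ r)
      (by rw [AlgHom.commutes, AlgEquiv.commutes])).trans ?_
    exact (ConcreteCategory.congr_hom (Under.w (s.ι.app (J 0))) r :)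
  · intro s i
    ext x
    exact hd s (e (i.toHs x)) i x (e.symm_apply_apply _).symm
  · intro s m hm
    ext x
    have := congrArg (fun f : D.obj (J x) ⟶ s.pt => f.right.hom (y x)) (hm (J x))
    refine Eq.trans ?_ this
    show m.right.hom x = m.right.hom (e ((J x).toHs (y x)))
    rw [hy, AlgEquiv.apply_symm_apply]
  · show @Algebra.Etale R i.toNbhd.S _ _ ((algebraMap R i.toNbhd.S).toAlgebra)
    rw [show (algebraMap R i.toNbhd.S).toAlgebra = (inferInstance : Algebra R i.toNbhd.S) from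
      Algebra.algebra_ext _ _ fun _ => rfl]
    exact i.toNbhd.etale

theorem isIndEtale_henselization (R S : Type u) [CommRing R] [IsLocalRing R] [CommRing S]
    [IsLocalRing S] [Algebra R S] [IsLocalHom (algebraMap R S)] [Hensel.IsHenselization R S] :
    EtPBC.IsIndEtale R S :=
  let ⟨e⟩ := exists_henselization_equiv R S
  isIndEtale_of_algEquiv_hs S e

theorem isIndEtale_strictHenselization (R S : Type u) [CommRing R] [IsLocalRing R] [CommRing S]
    [IsLocalRing S] [Algebra R S] [IsLocalHom (algebraMap R S)]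
    [Hensel.IsStrictHenselization R S] : EtPBC.IsIndEtale R S :=
  let ⟨e⟩ := exists_strictHenselization_equiv R S
  isIndEtale_of_algEquiv_hs S e

end Groth.Agent.Hens
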