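import Groth.Agent.Lib.Hens.Pair
import Mathlib

/-!
Unique lifting of clopens along a map, and henselian pairs.
-/

namespace Groth.Agent.Hens

universe u v w

open CategoryTheory CategoryTheory.Limits AlgebraicGeometry

/-- Clopens of the source are uniquely pulled back from clopens of the target. -/
def ClopenLift {P : Type u} {Y : Type v} [TopologicalSpace P] [TopologicalSpace Y] (f : P → Y) :
    Prop :=
  ∀ V : Set P, IsClopen V → ∃! U : Set Y, IsClopen U ∧ f ⁻¹' U = V

section Topology

variable {P : Type u} {Y : Type v} [TopologicalSpace P] [TopologicalSpace Y]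

theorem ClopenLift.comp_homeomorph_right {Q : Type w} [TopologicalSpace Q] {f : P → Y}
    (h : ClopenLift f) (e : Q ≃ₜ P) : ClopenLift (f ∘ e) := by
  intro V hV
  obtain ⟨U, ⟨hU, hUV⟩, huniq⟩ := h (e.symm ⁻¹' V) (hV.preimage e.symm.continuous)
  refine ⟨U, ⟨hU, ?_⟩, fun U' ⟨hU', hUV'⟩ => huniq U' ⟨hU', ?_⟩⟩
  · rw [Set.preimage_comp, hUV]
    ext q; simp
  · rw [← hUV', Set.preimage_comp]
    ext p; simp

theorem ClopenLift.congr_range {Q : Type w} [TopologicalSpace Q] {f : P → Y} {f' : Q → Y}
    (h : ClopenLift f) (hf : Topology.IsEmbedding f) (hf' : Topology.IsEmbedding f')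
    (hr : Set.range f = Set.range f') : ClopenLift f' := by
  let e : Q ≃ₜ P := (hf'.toHomeomorph.trans (Homeomorph.setCongr hr.symm)).trans hf.toHomeomorph.symm
  have : f' = f ∘ e := by
    funext q
    have := hf.toHomeomorph.apply_symm_apply ((hf'.toHomeomorph.trans (Homeomorph.setCongr hr.symm)) q)
    exact (congrArg Subtype.val this).symm
  exact this ▸ h.comp_homeomorph_right e

theorem ClopenLift.homeomorph_left {Y' : Type w} [TopologicalSpace Y'] {f : P → Y}
    (h : ClopenLift f) (e : Y ≃ₜ Y') : ClopenLift (e ∘ f) := by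
  intro V hV
  obtain ⟨U, ⟨hU, hUV⟩, huniq⟩ := h V hV
  refine ⟨e.symm ⁻¹' U, ⟨hU.preimage e.symm.continuous, ?_⟩, fun U' ⟨hU', hUV'⟩ => ?_⟩
  · rw [← hUV]; ext p; simp
  · rw [← huniq (e ⁻¹' U') ⟨hU'.preimage e.continuous, hUV'⟩]
    ext y; simp

end Topology

/-- The clopens of the spectrum of a quotient lift uniquely iff idempotents do. -/
theorem clopenLift_comap_mk_iff {B : Type u} [CommRing B] (J : Ideal B) :
    ClopenLift (PrimeSpectrum.comap (Ideal.Quotient.mk J)) ↔
      Set.BijOn (Ideal.Quotient.mk J) {e : B | IsIdempotentElem e} {e | IsIdempotentElem e} := by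
  have hpre : ∀ e : B, PrimeSpectrum.comap (Ideal.Quotient.mk J) ⁻¹'
      (PrimeSpectrum.basicOpen e : Set (PrimeSpectrum B)) =
      PrimeSpectrum.basicOpen (Ideal.Quotient.mk J e) := fun e => rfl
  have hclopen : ∀ {R : Type u} [CommRing R] (e : R), IsIdempotentElem e →
      IsClopen (PrimeSpectrum.basicOpen e : Set (PrimeSpectrum R)) := fun e he =>
    PrimeSpectrum.isClopen_iff_mul_add.mpr ⟨e, 1 - e, by rw [mul_sub, mul_one, he.eq, sub_self],
      by rw [add_sub_cancel], rfl⟩
  constructor
  · intro h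
    refine ⟨fun e he => he.map _, fun e he e' he' heq => ?_, fun x hx => ?_⟩
    · obtain ⟨U, -, huniq⟩ := h _ (hclopen _ (he.map (Ideal.Quotient.mk J)))
      have h1 := huniq _ ⟨hclopen e he, hpre e⟩
      have h2 := huniq _ ⟨hclopen e' he', by rw [hpre e', heq]⟩
      exact PrimeSpectrum.basicOpen_injOn_isIdempotentElem he he' (SetLike.ext' (h1.trans h2.symm))
    · obtain ⟨U, ⟨hU, hUV⟩, -⟩ := h _ (hclopen _ hx)
      obtain ⟨e, he, rfl⟩ := PrimeSpectrum.exists_idempotent_basicOpen_eq_of_isClopen hU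
      exact ⟨e, he, PrimeSpectrum.basicOpen_injOn_isIdempotentElem (he.map _) hx
        (SetLike.ext' ((hpre e).symm.trans hUV))⟩
  · intro h V hV
    obtain ⟨x, hx, rfl⟩ := PrimeSpectrum.exists_idempotent_basicOpen_eq_of_isClopen hV
    obtain ⟨e, he, rfl⟩ := h.2.2 hx
    refine ⟨_, ⟨hclopen e he, hpre e⟩, fun U ⟨hU, hUV⟩ => ?_⟩
    obtain ⟨e', he', rfl⟩ := PrimeSpectrum.exists_idempotent_basicOpen_eq_of_isClopen hU
    rw [h.2.1 he' he (PrimeSpectrum.basicOpen_injOn_isIdempotentElem (he'.map _) hx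
      (SetLike.ext' ((hpre e').symm.trans hUV)))]


/-- Henselian pairs are the pairs whose clopens lift uniquely along finite morphisms. -/
theorem henselianRing_iff_clopenLift (A : Type u) [CommRing A] (I : Ideal A) :
    HenselianRing A I ↔
    ∀ (Y : Scheme.{u}) (g : Y ⟶ Spec (CommRingCat.of A)), IsFinite g →
      ClopenLift (pullback.fst g (Spec.map (CommRingCat.ofHom (Ideal.Quotient.mk I)))).base := by
  have key : ∀ (B : CommRingCat.{u}) (φ : CommRingCat.of A ⟶ B),
      Set.range (pullback.fst (Spec.map φ) (Spec.map (CommRingCat.ofHom (Ideal.Quotient.mk I)))).base =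
        Set.range (PrimeSpectrum.comap (Ideal.Quotient.mk (I.map φ.hom))) := by
    intro B φ
    rw [Scheme.Pullback.range_fst, range_comap_of_surjective _ _ Ideal.Quotient.mk_surjective]
    show PrimeSpectrum.comap φ.hom ⁻¹' Set.range (PrimeSpectrum.comap (Ideal.Quotient.mk I)) = _
    rw [range_comap_of_surjective _ _ Ideal.Quotient.mk_surjective,
      PrimeSpectrum.preimage_comap_zeroLocus, Ideal.mk_ker, Ideal.mk_ker]
    exact (PrimeSpectrum.zeroLocus_span _).symm
  have hemb : ∀ (B : CommRingCat.{u}) (J : Ideal B),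
      Topology.IsEmbedding (PrimeSpectrum.comap (Ideal.Quotient.mk J)) := fun B J =>
    (PrimeSpectrum.isClosedEmbedding_comap_of_surjective _ _ Ideal.Quotient.mk_surjective).isEmbedding
  constructor
  · intro h Y g hg
    have : IsAffine Y := isAffine_of_isAffineHom g
    obtain ⟨φ, hφ⟩ : ∃ φ, Spec.map φ = Y.isoSpec.inv ≫ g := ⟨_, Spec.map_preimage _⟩
    have hfin : φ.hom.Finite := by
      rw [← IsFinite.SpecMap_iff, hφ]
      infer_instance
    letI := φ.hom.toAlgebra
    have : Module.Finite A Γ(Y, ⊤) := hfin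
    have h1 : ClopenLift (PrimeSpectrum.comap (Ideal.Quotient.mk (I.map φ.hom))) :=
      (clopenLift_comap_mk_iff _).mpr (bijOn_idempotents h)
    have h2 : ClopenLift
        (pullback.fst (Spec.map φ) (Spec.map (CommRingCat.ofHom (Ideal.Quotient.mk I)))).base := by
      refine h1.congr_range (hemb _ _) ?_ (key _ φ).symm
      have : IsClosedImmersion (Spec.map (CommRingCat.ofHom (Ideal.Quotient.mk I))) :=
        IsClosedImmersion.spec_of_surjective _ Ideal.Quotient.mk_surjective
      exact (pullback.fst _ _ : _ ⟶ Spec Γ(Y, ⊤)).isClosedEmbedding.isEmbedding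
    have h3 := h2.homeomorph_left Y.isoSpec.inv.homeomorph
    have : IsClosedImmersion (Spec.map (CommRingCat.ofHom (Ideal.Quotient.mk I))) :=
      IsClosedImmersion.spec_of_surjective _ Ideal.Quotient.mk_surjective
    refine h3.congr_range (Y.isoSpec.inv.homeomorph.isEmbedding.comp
      (pullback.fst _ _ : _ ⟶ Spec Γ(Y, ⊤)).isClosedEmbedding.isEmbedding)
      (pullback.fst g _).isClosedEmbedding.isEmbedding ?_
    rw [Set.range_comp, Scheme.Pullback.range_fst, Scheme.Pullback.range_fst, hφ]
    ext y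
    constructor
    · rintro ⟨z, hz, rfl⟩; exact hz
    · intro hy
      exact ⟨Y.isoSpec.inv.homeomorph.symm y, by
        rw [Set.mem_preimage, Scheme.Hom.comp_apply,
          show ∀ z, Y.isoSpec.inv z = Y.isoSpec.inv.homeomorph z from fun z => rfl]
        rw [Homeomorph.apply_symm_apply]
        exact hy, Homeomorph.apply_symm_apply _ y⟩
  · intro h
    refine henselianRing_of_bijOn fun B _ _ hfin => (clopenLift_comap_mk_iff _).mp ?_
    let φ := CommRingCat.ofHom (algebraMap A B)
    have hg : IsFinite (Spec.map φ) :=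
      (IsFinite.SpecMap_iff _).mpr (RingHom.finite_algebraMap.mpr hfin)
    have : IsClosedImmersion (Spec.map (CommRingCat.ofHom (Ideal.Quotient.mk I))) :=
      IsClosedImmersion.spec_of_surjective _ Ideal.Quotient.mk_surjective
    exact (h _ _ hg).congr_range (pullback.fst (Spec.map φ) _).isClosedEmbedding.isEmbedding
      (hemb (CommRingCat.of B) _) (key _ φ)

end Groth.Agent.Hens
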