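import Groth.Agent.Lib.Hens.Henselization
import Mathlib.RingTheory.TensorProduct.Quotient

/-!
Henselization and quotients / integral base change.
-/

open IsLocalRing

open scoped TensorProduct

namespace Groth.Agent.Hens

universe u

theorem isHenselization_quotient {A S : Type u} [CommRing A] [IsLocalRing A] [CommRing S]
    [IsLocalRing S] [Algebra A S] [IsLocalHom (algebraMap A S)] [Hensel.IsHenselization A S]
    (I : Ideal A) [IsLocalRing (A ⧸ I)] [IsLocalRing (S ⧸ I.map (algebraMap A S))]
    [IsLocalHom (algebraMap (A ⧸ I) (S ⧸ I.map (algebraMap A S)))] :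
    Hensel.IsHenselization (A ⧸ I) (S ⧸ I.map (algebraMap A S)) where
  henselian := by
    have : HenselianLocalRing S := Hensel.IsHenselization.henselian (R := A)
    exact henselianLocalRing_of_isIntegral S _
  universal T _ _ f hf := by
    have hl : IsLocalHom (f.comp (Ideal.Quotient.mk I)) := by
      have : IsLocalHom (Ideal.Quotient.mk I) :=
        IsLocalHom.of_surjective _ Ideal.Quotient.mk_surjective
      infer_instance
    obtain ⟨g, hg, hu⟩ := Hensel.IsHenselization.universal (R := A) (S := S) T _ hl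
    have hker : ∀ x ∈ I.map (algebraMap A S), g x = 0 := by
      intro x hx
      have : I.map (algebraMap A S) ≤ RingHom.ker g := by
        rw [Ideal.map_le_iff_le_comap]
        intro a ha
        show g (algebraMap A S a) = 0
        rw [← RingHom.comp_apply, hg, RingHom.comp_apply, Ideal.Quotient.eq_zero_iff_mem.mpr ha,
          map_zero]
      exact this hx
    refine ⟨Ideal.Quotient.lift _ g hker, ?_, fun g' hg' => ?_⟩
    · refine Ideal.Quotient.ringHom_ext (RingHom.ext fun a => ?_)
      show g (algebraMap A S a) = f (Ideal.Quotient.mk I a)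
      rw [← RingHom.comp_apply, hg]
      rfl
    · refine Ideal.Quotient.ringHom_ext ?_
      rw [Ideal.Quotient.lift_comp_mk]
      refine hu _ (RingHom.ext fun a => ?_)
      show g' (Ideal.Quotient.mk _ (algebraMap A S a)) = f (Ideal.Quotient.mk I a)
      rw [← hg']
      rfl

theorem isHenselization_tensor_of_integral (A B S : Type u) [CommRing A] [IsLocalRing A]
    [CommRing B] [IsLocalRing B] [Algebra A B] [IsLocalHom (algebraMap A B)]
    [Algebra.IsIntegral A B] [CommRing S] [IsLocalRing S] [Algebra A S]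
    [IsLocalHom (algebraMap A S)] [Hensel.IsHenselization A S] :
    ∃ (_ : IsLocalRing (B ⊗[A] S)) (_ : IsLocalHom (algebraMap B (B ⊗[A] S))),
      Hensel.IsHenselization B (B ⊗[A] S) := by
  have hS : HenselianLocalRing S := Hensel.IsHenselization.henselian (R := A)
  let _ : Algebra S (B ⊗[A] S) := Algebra.TensorProduct.rightAlgebra
  have hint : Algebra.IsIntegral S (B ⊗[A] S) := by
    refine ⟨fun x => ?_⟩
    induction x with
    | zero => exact isIntegral_zero
    | add x y hx hy => exact hx.add hy
    | tmul b s =>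
      obtain ⟨p, hp, hpb⟩ := Algebra.IsIntegral.isIntegral (R := A) b
      have h1 : IsIntegral S ((b ⊗ₜ[A] (1 : S) : B ⊗[A] S)) := by
        refine ⟨p.map (algebraMap A S), hp.map _, ?_⟩
        rw [Polynomial.eval₂_map,
          show (algebraMap S (B ⊗[A] S)).comp (algebraMap A S) =
            (algebraMap B (B ⊗[A] S)).comp (algebraMap A B) from RingHom.ext fun a => by
              show (1 : B) ⊗ₜ[A] algebraMap A S a = algebraMap A B a ⊗ₜ[A] (1 : S)
              rw [Algebra.algebraMap_eq_smul_one, Algebra.algebraMap_eq_smul_one,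
                TensorProduct.tmul_smul, TensorProduct.smul_tmul'],
          show (b ⊗ₜ[A] (1 : S) : B ⊗[A] S) = algebraMap B _ b from rfl, ← Polynomial.hom_eval₂,
          hpb, map_zero]
      have := h1.mul (isIntegral_algebraMap (R := S) (A := B ⊗[A] S) (x := s))
      rwa [show algebraMap S (B ⊗[A] S) s = (1 : B) ⊗ₜ[A] s from rfl,
        Algebra.TensorProduct.tmul_mul_tmul, mul_one, one_mul] at this
  -- the map to the residue field of `B`
  obtain ⟨hinj, hsurj⟩ := henselization_residueField_bijective A S
  let r : ResidueField S →+* ResidueField A :=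
    (RingEquiv.ofBijective _ ⟨hinj, hsurj⟩).symm.toRingHom
  have hr : ∀ a, r (residue S (algebraMap A S a)) = residue A a := fun a =>
    (RingEquiv.ofBijective _ ⟨hinj, hsurj⟩).symm_apply_apply (residue A a)
  let ρ : S →ₐ[A] ResidueField B :=
    { ((ResidueField.map (algebraMap A B)).comp r).comp (residue S) with
      commutes' := fun a => congrArg (ResidueField.map (algebraMap A B)) (hr a) }
  let Φ : B ⊗[A] S →ₐ[A] ResidueField B :=
    Algebra.TensorProduct.lift (IsScalarTower.toAlgHom A B (ResidueField B)) ρ fun _ _ => .all _ _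
  have hΦ : ∀ b, Φ (b ⊗ₜ 1) = residue B b := fun b => by simp [Φ]
  have hΦs : Function.Surjective Φ := fun y => by
    obtain ⟨b, rfl⟩ := residue_surjective y
    exact ⟨b ⊗ₜ 1, hΦ b⟩
  let M : Ideal (B ⊗[A] S) := RingHom.ker Φ
  have hM : M.IsMaximal := RingHom.ker_isMaximal_of_surjective Φ hΦs
  have huniq : ∀ N : Ideal (B ⊗[A] S), N.IsMaximal → N = M := by
    intro N hN
    refine (hN.eq_of_le hM.ne_top fun x hx => ?_)
    have hNS : N.comap (algebraMap S (B ⊗[A] S)) = maximalIdeal S :=
      IsLocalRing.eq_maximalIdeal (Ideal.isMaximal_comap_of_isIntegral_of_isMaximal N)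
    -- every element is congruent mod `N` to some `b ⊗ 1`
    have key : ∀ z : B ⊗[A] S, ∃ b : B, z - b ⊗ₜ 1 ∈ N ∧ Φ (z - b ⊗ₜ 1) = 0 := by
      intro z
      induction z with
      | zero => exact ⟨0, by simp, by simp⟩
      | add x y hx hy =>
        obtain ⟨a, ha, ha'⟩ := hx
        obtain ⟨b, hb, hb'⟩ := hy
        exact ⟨a + b, by rw [TensorProduct.add_tmul, add_sub_add_comm]; exact add_mem ha hb,
          by rw [TensorProduct.add_tmul, add_sub_add_comm, map_add, ha', hb', add_zero]⟩
      | tmul b s =>
        obtain ⟨a, ha⟩ := henselization_exists_sub_mem A S s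
        refine ⟨a • b, ?_⟩
        have : b ⊗ₜ[A] s - (a • b) ⊗ₜ[A] (1 : S) = (b ⊗ₜ[A] (1 : S)) *
            algebraMap S (B ⊗[A] S) (s - algebraMap A S a) := by
          rw [show algebraMap S (B ⊗[A] S) (s - algebraMap A S a) =
              (1 : B) ⊗ₜ[A] (s - algebraMap A S a) from rfl,
            Algebra.TensorProduct.tmul_mul_tmul, mul_one, one_mul, TensorProduct.tmul_sub,
            Algebra.algebraMap_eq_smul_one, TensorProduct.tmul_smul, TensorProduct.smul_tmul']
        rw [this]
        refine ⟨Ideal.mul_mem_left _ _ (hNS.ge ha), ?_⟩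
        rw [map_mul, show Φ (algebraMap S (B ⊗[A] S) (s - algebraMap A S a)) =
          ρ (s - algebraMap A S a) from by
            show Φ ((1 : B) ⊗ₜ[A] (s - algebraMap A S a)) = _
            simp [Φ]]
        rw [show ρ (s - algebraMap A S a) = 0 from by
          show ((ResidueField.map (algebraMap A B)).comp r) (residue S (s - algebraMap A S a)) = 0
          rw [(residue_eq_zero_iff _).mpr ha, map_zero], mul_zero]
    show Φ x = 0
    obtain ⟨b, hb, hb'⟩ := key x
    rw [map_sub, hΦ, sub_eq_zero] at hb'
    rw [hb', residue_eq_zero_iff]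
    have hbN : b ⊗ₜ[A] (1 : S) ∈ N := by simpa using sub_mem hx hb
    by_contra hbm
    have hbu : IsUnit b := of_not_not fun h => hbm h
    exact hN.ne_top (Ideal.eq_top_of_isUnit_mem _ hbN (hbu.map (algebraMap B (B ⊗[A] S))))
  have : IsLocalRing (B ⊗[A] S) := IsLocalRing.of_unique_max_ideal ⟨M, hM, huniq⟩
  have hloc : IsLocalHom (algebraMap B (B ⊗[A] S)) := ⟨fun b hb => by
    have := (hb.map Φ).ne_zero
    rw [show Φ (algebraMap B (B ⊗[A] S) b) = residue B b from hΦ b, residue_ne_zero_iff_isUnit]
      at this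
    exact this⟩
  refine ⟨inferInstance, hloc, ⟨henselianLocalRing_of_isIntegral S _, fun T _ _ f hf => ?_⟩⟩
  obtain ⟨g, hg, hu⟩ := Hensel.IsHenselization.universal (R := A) (S := S) T
    (f.comp (algebraMap A B)) inferInstance
  let _ := f.toAlgebra
  let _ : Algebra A T := (f.comp (algebraMap A B)).toAlgebra
  let fA : B →ₐ[A] T := { f with commutes' := fun a => rfl }
  let gA : S →ₐ[A] T := { g with commutes' := fun a => congr($hg a) }
  let G := Algebra.TensorProduct.lift fA gA fun _ _ => .all _ _
  refine ⟨G.toRingHom, RingHom.ext fun b => ?_, fun g' hg' => ?_⟩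
  · show G (b ⊗ₜ 1) = f b
    simp [G, fA]
  · have hs : ∀ s, g' ((1 : B) ⊗ₜ[A] s) = g s := fun s => by
      refine congr($(hu (g'.comp
        (Algebra.TensorProduct.includeRight : S →ₐ[A] B ⊗[A] S).toRingHom) ?_) s)
      refine RingHom.ext fun a => ?_
      show g' ((1 : B) ⊗ₜ[A] algebraMap A S a) = f (algebraMap A B a)
      rw [Algebra.algebraMap_eq_smul_one, TensorProduct.tmul_smul, TensorProduct.smul_tmul',
        ← Algebra.algebraMap_eq_smul_one, ← hg']
      rfl
    refine RingHom.ext fun z => ?_
    induction z with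
    | zero => simp
    | add x y hx hy => rw [map_add, map_add, hx, hy]
    | tmul b s =>
      rw [show b ⊗ₜ[A] s = algebraMap B (B ⊗[A] S) b * ((1 : B) ⊗ₜ[A] s) from by
        show _ = (b ⊗ₜ[A] (1 : S)) * _
        rw [Algebra.TensorProduct.tmul_mul_tmul, mul_one, one_mul], map_mul, map_mul, hs,
        show g' (algebraMap B _ b) = f b from congr($hg' b)]
      show _ = G (algebraMap B _ b) * G ((1 : B) ⊗ₜ[A] s)
      congr 1
      · show f b = G (b ⊗ₜ 1); simp [G, fA]
      · simp [G, gA]

end Groth.Agent.Hens
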