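import Groth.Agent.Lib.Hens.StrictBC

/-!
Henselizations at a prime of a base change to a henselization, and base change of strict
henselizations along maps which are integral on strict henselizations.
-/

open IsLocalRing

open scoped TensorProduct

namespace Groth.Agent.Hens

universe u

theorem comap_maximalIdeal_of_isLocalHom {A : Type*} {T : Type*} [CommRing A] [IsLocalRing A]
    [CommRing T] [IsLocalRing T] (f : A →+* T) [IsLocalHom f] :
    (maximalIdeal T).comap f = maximalIdeal A :=
  ((local_hom_TFAE f).out 0 4).mp ‹IsLocalHom f›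

theorem exists_idempotent_separating {A : Type u} [CommRing A] [HenselianLocalRing A] {B : Type u}
    [CommRing B] [Algebra A B] [Algebra.IsIntegral A B] (m n : Ideal B) (hm : m.IsMaximal)
    (hn : n.IsMaximal) (hne : m ≠ n) : ∃ e : B, IsIdempotentElem e ∧ e ∈ m ∧ e ∉ n := by
  classical
  obtain ⟨x, hxm, hxn⟩ : ∃ x ∈ m, x ∉ n := by
    by_contra h
    push Not at h
    exact hne (hm.eq_of_le hn.ne_top h)
  let B₀ := Algebra.adjoin A ({x} : Set B)
  have : Module.Finite A B₀ := Module.Finite.iff_fg.mpr (fg_adjoin_of_finite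
    (Set.finite_singleton x) fun y _ => Algebra.IsIntegral.isIntegral y)
  have hmax : ∀ k : Ideal B, k.IsMaximal → (k.comap B₀.val).IsMaximal := fun k hk => by
    refine Ideal.isMaximal_of_isIntegral_of_isMaximal_comap (R := A) _ ?_
    show ((k.comap B₀.val.toRingHom).comap (algebraMap A B₀)).IsMaximal
    rw [Ideal.comap_comap, show B₀.val.toRingHom.comp (algebraMap A B₀) = algebraMap A B from
      B₀.val.comp_algebraMap]
    exact Ideal.isMaximal_comap_of_isIntegral_of_isMaximal k
  let m₀ : MaximalSpectrum B₀ := ⟨m.comap B₀.val, hmax m hm⟩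
  let n₀ : MaximalSpectrum B₀ := ⟨n.comap B₀.val, hmax n hn⟩
  have hne₀ : m₀ ≠ n₀ := fun h => by
    have h1 : (⟨x, Algebra.self_mem_adjoin_singleton A x⟩ : B₀) ∈ m₀.asIdeal := hxm
    rw [h] at h1
    exact hxn h1
  obtain ⟨hinj, hsurj⟩ := bijective_pi_localization_of_henselian (A := A) (B := B₀)
  obtain ⟨e, he⟩ := hsurj fun k => if k = n₀ then 1 else 0
  refine ⟨(e : B), IsIdempotentElem.map (hinj ?_ : IsIdempotentElem e) B₀.val, ?_, ?_⟩
  · rw [map_mul, he]
    funext k
    simp only [Pi.mul_apply]
    split_ifs <;> simp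
  · have h1 := congrFun he m₀
    rw [RingHom.pi_apply, if_neg hne₀] at h1
    show e ∈ m₀.asIdeal
    rw [← IsLocalization.AtPrime.to_map_mem_maximal_iff (Localization.AtPrime m₀.asIdeal) m₀.asIdeal, h1]
    exact zero_mem _
  · have h1 := congrFun he n₀
    rw [RingHom.pi_apply, if_pos rfl] at h1
    intro h
    replace h : e ∈ n₀.asIdeal := h
    rw [← IsLocalization.AtPrime.to_map_mem_maximal_iff (Localization.AtPrime n₀.asIdeal) n₀.asIdeal, h1] at h
    exact (maximalIdeal _).ne_top_iff_one.mp (Ideal.IsPrime.ne_top inferInstance) h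

theorem exists_integral_inverse {A : Type u} [CommRing A] [HenselianLocalRing A] {L : Type u}
    [CommRing L] [IsLocalRing L] [Algebra A L] [IsLocalHom (algebraMap A L)] (x : L)
    (hx : IsIntegral A x) (hux : IsUnit x) : ∃ u : L, IsIntegral A u ∧ x * u = 1 := by
  let B := Algebra.adjoin A ({x} : Set L)
  have : Module.Finite A B := Module.Finite.iff_fg.mpr (fg_adjoin_of_finite
    (Set.finite_singleton _) fun y hy => by rw [Set.mem_singleton_iff.mp hy]; exact hx)
  have hBint : Algebra.IsIntegral A B := Algebra.IsIntegral.of_finite A B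
  let t' : B := ⟨x, Algebra.self_mem_adjoin_singleton A _⟩
  have htu : IsUnit t' := by
    by_contra hn
    obtain ⟨m, hm, htm⟩ := exists_max_ideal_of_mem_nonunits hn
    by_cases hne : m = (maximalIdeal L).comap B.val.toRingHom
    · rw [hne] at htm
      exact htm hux
    have h2max : ((maximalIdeal L).comap B.val.toRingHom).IsMaximal := by
      refine Ideal.isMaximal_of_isIntegral_of_isMaximal_comap (R := A) (S := B)
        ((maximalIdeal L).comap B.val.toRingHom) ?_
      rw [Ideal.comap_comap, show B.val.toRingHom.comp (algebraMap A B) = algebraMap A L from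
        B.val.comp_algebraMap, comap_maximalIdeal_of_isLocalHom (algebraMap A L)]
      infer_instance
    obtain ⟨e, he, he1, he2⟩ := exists_idempotent_separating (A := A) m
      ((maximalIdeal L).comap B.val.toRingHom) hm h2max hne
    have hel : IsIdempotentElem (e : L) := he.map B.val
    have h01 : (e : L) = 0 ∨ (e : L) = 1 := by
      rcases IsLocalRing.isUnit_or_isUnit_one_sub_self (e : L) with h | h
      · exact .inr ((IsIdempotentElem.iff_eq_one_of_isUnit h).mp hel)
      · left
        refine h.mul_left_eq_zero.mp ?_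
        rw [mul_sub, mul_one, hel.eq, sub_self]
    rcases h01 with h0 | h0
    · exact he2 (show (e : L) ∈ maximalIdeal L by rw [h0]; exact zero_mem _)
    · exact hm.ne_top ((Ideal.eq_top_iff_one m).mpr ((Subtype.ext h0 : e = 1) ▸ he1))
  obtain ⟨u, hu⟩ := htu.exists_right_inv
  exact ⟨u, (hBint.isIntegral u).map B.val, congrArg Subtype.val hu⟩

section AtPrime

variable (R S : Type u) [CommRing R] [CommRing S] [Algebra R S] (p : Ideal R) [p.IsPrime]
  (q : Ideal S) [q.IsPrime] [q.LiesOver p]
  (Rh : Type u) [CommRing Rh] [IsLocalRing Rh] [Algebra (Localization.AtPrime p) Rh]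
  [IsLocalHom (algebraMap (Localization.AtPrime p) Rh)]
  [Algebra R Rh] [IsScalarTower R (Localization.AtPrime p) Rh]
  (Sh : Type u) [CommRing Sh] [IsLocalRing Sh] [Algebra (Localization.AtPrime q) Sh]
  [IsLocalHom (algebraMap (Localization.AtPrime q) Sh)]
  [Algebra S Sh] [IsScalarTower S (Localization.AtPrime q) Sh] [Algebra R Sh] [IsScalarTower R S Sh]
  [Algebra Rh Sh] [IsScalarTower R Rh Sh]

/-- The map from the tensor product to the henselization upstairs. -/
noncomputable def toSh : Rh ⊗[R] S →ₐ[R] Sh :=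
  Algebra.TensorProduct.lift (IsScalarTower.toAlgHom R Rh Sh) (IsScalarTower.toAlgHom R S Sh)
    (fun _ _ => Commute.all _ _)

theorem toSh_tmul (r : Rh) (s : S) :
    toSh R S Rh Sh (r ⊗ₜ s) = algebraMap Rh Sh r * algebraMap S Sh s := rfl

variable (Q : Ideal (Rh ⊗[R] S)) [Q.IsPrime]
  (E : Type u) [CommRing E] [IsLocalRing E] [Algebra (Localization.AtPrime Q) E]
  [IsLocalHom (algebraMap (Localization.AtPrime Q) E)]

/-- The map from the tensor product to a henselization at a prime. -/
noncomputable def toE : Rh ⊗[R] S →+* E :=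
  (algebraMap (Localization.AtPrime Q) E).comp (algebraMap (Rh ⊗[R] S) (Localization.AtPrime Q))

variable {R S p q Rh Sh Q E}

omit [Algebra R Rh] [IsScalarTower R (Localization.AtPrime p) Rh] in
theorem atPrime_comap {T : Type u} [CommRing T] [IsLocalRing T]
    [Algebra (Localization.AtPrime p) T] [IsLocalHom (algebraMap (Localization.AtPrime p) T)]
    [Algebra R T] [IsScalarTower R (Localization.AtPrime p) T] :
    (maximalIdeal T).comap (algebraMap R T) = p := by
  rw [IsScalarTower.algebraMap_eq R (Localization.AtPrime p) T, ← Ideal.comap_comap,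
    comap_maximalIdeal_of_isLocalHom (algebraMap (Localization.AtPrime p) T)]
  exact IsLocalization.AtPrime.under_maximalIdeal (Localization.AtPrime p) p

theorem isLocalHom_lift {D T : Type u} [CommRing D] [CommRing T] [IsLocalRing T] (P : Ideal D)
    [P.IsPrime] (F : Localization.AtPrime P →+* T)
    (h : (maximalIdeal T).comap (F.comp (algebraMap D _)) = P) : IsLocalHom F := ⟨fun x hx => by
  obtain ⟨a, s, rfl⟩ := IsLocalization.exists_mk'_eq P.primeCompl x
  rw [IsLocalization.AtPrime.isUnit_mk'_iff (Localization.AtPrime P) P]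
  show a ∉ P
  intro ha
  rw [← h] at ha
  refine ha ?_
  rw [RingHom.comp_apply, ← IsLocalization.mk'_spec (Localization.AtPrime P) a s, map_mul]
  exact hx.mul ((IsLocalization.map_units (Localization.AtPrime P) s).map F)⟩

theorem comap_toE : (maximalIdeal E).comap (toE R S Rh Q E) = Q := by
  rw [toE, ← Ideal.comap_comap,
    comap_maximalIdeal_of_isLocalHom (algebraMap (Localization.AtPrime Q) E)]
  exact IsLocalization.AtPrime.under_maximalIdeal (Localization.AtPrime Q) Q

variable (R S p q Rh Sh Q E)

theorem exists_toSh_map (hQ : Q = (maximalIdeal Sh).comap (toSh R S Rh Sh)) :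
    ∃ fD : Localization.AtPrime Q →+* Sh, IsLocalHom fD ∧
      ∀ d, fD (algebraMap _ _ d) = toSh R S Rh Sh d := by
  have hu : ∀ y : Q.primeCompl, IsUnit (toSh R S Rh Sh (y : Rh ⊗[R] S)) := fun y =>
    of_not_not fun hn => y.2 (hQ ▸ hn)
  refine ⟨IsLocalization.lift (M := Q.primeCompl) (g := (toSh R S Rh Sh).toRingHom) hu, ?_,
    fun d => IsLocalization.lift_eq _ d⟩
  refine isLocalHom_lift Q _ ?_
  rw [IsLocalization.lift_comp]
  exact hQ.symm

theorem exists_ofS_map (hQ : Q = (maximalIdeal Sh).comap (toSh R S Rh Sh)) :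
    ∃ fS : Localization.AtPrime q →+* E, IsLocalHom fS ∧
      ∀ s, fS (algebraMap _ _ s) = toE R S Rh Q E ((1 : Rh) ⊗ₜ s) := by
  let i : S →+* E :=
    (toE R S Rh Q E).comp (Algebra.TensorProduct.includeRight : S →ₐ[R] Rh ⊗[R] S).toRingHom
  have hi : (maximalIdeal E).comap i = q := by
    rw [show (maximalIdeal E).comap i = ((maximalIdeal E).comap (toE R S Rh Q E)).comap
        (Algebra.TensorProduct.includeRight : S →ₐ[R] Rh ⊗[R] S).toRingHom from
      (Ideal.comap_comap _ _).symm, comap_toE]
    refine (Ideal.ext fun s => ?_).trans (atPrime_comap (p := q) (T := Sh))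
    rw [Ideal.mem_comap, Ideal.mem_comap, hQ, Ideal.mem_comap]
    show toSh R S Rh Sh ((1 : Rh) ⊗ₜ s) ∈ _ ↔ _
    rw [toSh_tmul, map_one, one_mul]
  have hu : ∀ y : q.primeCompl, IsUnit (i (y : S)) := fun y =>
    of_not_not fun hn => y.2 (hi ▸ (hn : (y : S) ∈ (maximalIdeal E).comap i))
  refine ⟨IsLocalization.lift (M := q.primeCompl) (g := i) hu, ?_,
    fun s => IsLocalization.lift_eq _ s⟩
  refine isLocalHom_lift q _ ?_
  rw [IsLocalization.lift_comp]
  exact hi

/-- The comparison of the two maps from `Rh` to `E` on the base. -/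
theorem comp_base_eq (h : Sh →+* E)
    (hh : ∀ s, h (algebraMap S Sh s) = toE R S Rh Q E ((1 : Rh) ⊗ₜ s)) :
    (h.comp (algebraMap Rh Sh)).comp (algebraMap (Localization.AtPrime p) Rh) =
      ((toE R S Rh Q E).comp (algebraMap Rh (Rh ⊗[R] S))).comp
        (algebraMap (Localization.AtPrime p) Rh) := by
  refine IsLocalization.ringHom_ext p.primeCompl (RingHom.ext fun r => ?_)
  simp only [RingHom.comp_apply]
  rw [← IsScalarTower.algebraMap_apply R (Localization.AtPrime p) Rh,
    ← IsScalarTower.algebraMap_apply R Rh Sh, IsScalarTower.algebraMap_apply R S Sh, hh]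
  congr 1
  show (1 : Rh) ⊗ₜ[R] algebraMap R S r = algebraMap R Rh r ⊗ₜ[R] (1 : S)
  rw [Algebra.algebraMap_eq_smul_one, Algebra.algebraMap_eq_smul_one, TensorProduct.tmul_smul,
    TensorProduct.smul_tmul']

include q in
theorem isLocalHom_base (hQ : Q = (maximalIdeal Sh).comap (toSh R S Rh Sh))
    (hRh : (maximalIdeal (Localization.AtPrime p)).map (algebraMap (Localization.AtPrime p) Rh) =
      maximalIdeal Rh) :
    IsLocalHom (((toE R S Rh Q E).comp (algebraMap Rh (Rh ⊗[R] S))).comp
      (algebraMap (Localization.AtPrime p) Rh)) := by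
  refine isLocalHom_lift p _ ?_
  rw [RingHom.comp_assoc, ← IsScalarTower.algebraMap_eq, ← Ideal.comap_comap, ← Ideal.comap_comap,
    comap_toE]
  have h1 : Q.comap (algebraMap Rh (Rh ⊗[R] S)) = (maximalIdeal Sh).comap (algebraMap Rh Sh) := by
    refine Ideal.ext fun r => ?_
    rw [Ideal.mem_comap, hQ, Ideal.mem_comap, Ideal.mem_comap]
    show toSh R S Rh Sh (r ⊗ₜ (1 : S)) ∈ _ ↔ _
    rw [toSh_tmul, map_one, mul_one]
  rw [h1, Ideal.comap_comap, ← IsScalarTower.algebraMap_eq R Rh Sh,
    IsScalarTower.algebraMap_eq R S Sh, ← Ideal.comap_comap, atPrime_comap (p := q) (T := Sh)]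
  exact (Ideal.LiesOver.over (p := p) (P := q)).symm

theorem henselization_tensor_at_prime
    [Hensel.IsHenselization (Localization.AtPrime p) Rh]
    [Hensel.IsHenselization (Localization.AtPrime q) Sh]
    [Hensel.IsHenselization (Localization.AtPrime Q) E]
    (hQ : Q = (maximalIdeal Sh).comap (toSh R S Rh Sh)) :
    ∃ e : E ≃+* Sh, ∀ d, e (toE R S Rh Q E d) = toSh R S Rh Sh d := by
  have : HenselianLocalRing Sh :=
    Hensel.IsHenselization.henselian (R := Localization.AtPrime q)
  have : HenselianLocalRing E := Hensel.IsHenselization.henselian (R := Localization.AtPrime Q)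
  obtain ⟨fD, hfD, hfD'⟩ := exists_toSh_map R S Rh Sh Q hQ
  obtain ⟨fS, hfS, hfS'⟩ := exists_ofS_map R S q Rh Sh Q E hQ
  obtain ⟨g, hg, -⟩ := Hensel.IsHenselization.universal (R := Localization.AtPrime Q) (S := E) Sh
    fD hfD
  obtain ⟨h, hh, -⟩ := Hensel.IsHenselization.universal (R := Localization.AtPrime q) (S := Sh) E
    fS hfS
  have hgd : ∀ d, g (toE R S Rh Q E d) = toSh R S Rh Sh d := fun d =>
    (congr($hg (algebraMap _ _ d))).trans (hfD' d)
  have hhs : ∀ s, h (algebraMap S Sh s) = toE R S Rh Q E ((1 : Rh) ⊗ₜ s) := fun s => by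
    rw [IsScalarTower.algebraMap_apply S (Localization.AtPrime q) Sh]
    exact (congr($hh (algebraMap _ _ s))).trans (hfS' s)
  have h1 : g.comp h = RingHom.id Sh := by
    have : IsLocalHom ((RingHom.id Sh).comp (algebraMap (Localization.AtPrime q) Sh)) := by
      rw [RingHom.id_comp]; infer_instance
    refine henselization_hom_ext (Localization.AtPrime q) Sh _ _
      (IsLocalization.ringHom_ext q.primeCompl (RingHom.ext fun s => ?_))
    simp only [RingHom.comp_apply, RingHom.id_apply]
    rw [← IsScalarTower.algebraMap_apply, hhs, hgd, toSh_tmul, map_one, one_mul]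
  have h2 : h.comp g = RingHom.id E := by
    have : IsLocalHom ((RingHom.id E).comp (algebraMap (Localization.AtPrime Q) E)) := by
      rw [RingHom.id_comp]; infer_instance
    refine henselization_hom_ext (Localization.AtPrime Q) E _ _
      (IsLocalization.ringHom_ext Q.primeCompl (RingHom.ext fun d => ?_))
    simp only [RingHom.comp_apply, RingHom.id_apply]
    show h (g (toE R S Rh Q E d)) = toE R S Rh Q E d
    rw [hgd]
    have hb := isLocalHom_base R S p q Rh Sh Q E hQ
      (henselization_map_maximalIdeal (Localization.AtPrime p) Rh)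
    have hrh := henselization_hom_ext (Localization.AtPrime p) Rh
      ((toE R S Rh Q E).comp (algebraMap Rh (Rh ⊗[R] S))) (h.comp (algebraMap Rh Sh))
      (comp_base_eq R S p Rh Sh Q E h hhs)
    induction d with
    | zero => simp
    | add x y hx hy => rw [map_add, map_add, map_add, hx, hy]
    | tmul r s =>
      rw [toSh_tmul, map_mul, hhs, show h (algebraMap Rh Sh r) =
        toE R S Rh Q E (r ⊗ₜ (1 : S)) from congr($hrh r), ← map_mul,
        Algebra.TensorProduct.tmul_mul_tmul, mul_one, one_mul]
  exact ⟨RingEquiv.ofRingHom g h h1 h2, hgd⟩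

theorem strictHenselization_tensor_at_prime
    [Hensel.IsStrictHenselization (Localization.AtPrime p) Rh]
    [Hensel.IsStrictHenselization (Localization.AtPrime q) Sh]
    [Hensel.IsStrictHenselization (Localization.AtPrime Q) E]
    (hQ : Q = (maximalIdeal Sh).comap (toSh R S Rh Sh)) :
    ∃ e : E ≃+* Sh, ∀ d, e (toE R S Rh Q E d) = toSh R S Rh Sh d := by
  have : HenselianLocalRing Sh :=
    Hensel.IsStrictHenselization.henselian (R := Localization.AtPrime q)
  have : HenselianLocalRing E :=
    Hensel.IsStrictHenselization.henselian (R := Localization.AtPrime Q)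
  have := (Hensel.IsStrictHenselization.isSepClosure (R := Localization.AtPrime q) (S := Sh)).1
  have hsepS := (Hensel.IsStrictHenselization.isSepClosure (R := Localization.AtPrime q) (S := Sh)).2
  have := (Hensel.IsStrictHenselization.isSepClosure (R := Localization.AtPrime Q) (S := E)).1
  obtain ⟨fD, hfD, hfD'⟩ := exists_toSh_map R S Rh Sh Q hQ
  obtain ⟨fS, hfS, hfS'⟩ := exists_ofS_map R S q Rh Sh Q E hQ
  obtain ⟨τ, hτ⟩ := exists_residue_lift (Localization.AtPrime Q) E fD
  obtain ⟨g, ⟨hg, hgτ⟩, -⟩ := Hensel.IsStrictHenselization.universal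
    (R := Localization.AtPrime Q) (S := E) Sh fD τ hτ
  have hgd : ∀ d, g (toE R S Rh Q E d) = toSh R S Rh Sh d := fun d =>
    (congr($hg (algebraMap _ _ d))).trans (hfD' d)
  have hcomm : g.comp fS = algebraMap (Localization.AtPrime q) Sh :=
    IsLocalization.ringHom_ext q.primeCompl (RingHom.ext fun s => by
      simp only [RingHom.comp_apply]
      rw [hfS', hgd, toSh_tmul, map_one, one_mul, ← IsScalarTower.algebraMap_apply])
  have hτS : τ.comp (ResidueField.map fS) = algebraMap _ (ResidueField Sh) := by
    refine RingHom.ext fun x => ?_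
    obtain ⟨a, rfl⟩ := residue_surjective x
    show τ (residue E (fS a)) = residue Sh (algebraMap _ Sh a)
    rw [← hgτ, ← hcomm]
    rfl
  let τe := RingEquiv.ofBijective τ ⟨τ.injective,
    surjective_of_isSepClosed τ (ResidueField.map fS) hτS⟩
  have hτe : ∀ y, τe.symm (τ y) = y := fun y => τe.symm_apply_apply y
  obtain ⟨h, ⟨hh, hhτ⟩, -⟩ := Hensel.IsStrictHenselization.universal
    (R := Localization.AtPrime q) (S := Sh) E fS τe.symm.toRingHom (by
      refine RingHom.ext fun x => ?_
      show τe.symm (algebraMap _ (ResidueField Sh) x) = ResidueField.map fS x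
      rw [← hτS, RingHom.comp_apply, hτe])
  have hhτ' : ∀ x, residue E (h x) = τe.symm (residue Sh x) := hhτ
  have hhs : ∀ s, h (algebraMap S Sh s) = toE R S Rh Q E ((1 : Rh) ⊗ₜ s) := fun s => by
    rw [IsScalarTower.algebraMap_apply S (Localization.AtPrime q) Sh]
    exact (congr($hh (algebraMap _ _ s))).trans (hfS' s)
  have h1 : g.comp h = RingHom.id Sh := by
    have : IsLocalHom ((RingHom.id Sh).comp (algebraMap (Localization.AtPrime q) Sh)) := by
      rw [RingHom.id_comp]; infer_instance
    refine strictHenselization_hom_ext (Localization.AtPrime q) Sh _ _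
      (IsLocalization.ringHom_ext q.primeCompl (RingHom.ext fun s => ?_)) fun x => ?_
    · simp only [RingHom.comp_apply, RingHom.id_apply]
      rw [← IsScalarTower.algebraMap_apply, hhs, hgd, toSh_tmul, map_one, one_mul]
    · rw [RingHom.comp_apply, hgτ, hhτ']
      exact τe.apply_symm_apply _
  have h2 : h.comp g = RingHom.id E := by
    have : IsLocalHom ((RingHom.id E).comp (algebraMap (Localization.AtPrime Q) E)) := by
      rw [RingHom.id_comp]; infer_instance
    refine strictHenselization_hom_ext (Localization.AtPrime Q) E _ _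
      (IsLocalization.ringHom_ext Q.primeCompl (RingHom.ext fun d => ?_)) fun x => ?_
    · simp only [RingHom.comp_apply, RingHom.id_apply]
      show h (g (toE R S Rh Q E d)) = toE R S Rh Q E d
      rw [hgd]
      have hb := isLocalHom_base R S p q Rh Sh Q E hQ
        (strictHenselization_map_maximalIdeal (Localization.AtPrime p) Rh)
      have hrh := strictHenselization_hom_ext (Localization.AtPrime p) Rh
        ((toE R S Rh Q E).comp (algebraMap Rh (Rh ⊗[R] S))) (h.comp (algebraMap Rh Sh))
        (comp_base_eq R S p Rh Sh Q E h hhs) fun r => by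
          rw [RingHom.comp_apply, RingHom.comp_apply, hhτ']
          have : algebraMap Rh Sh r = g (toE R S Rh Q E (algebraMap Rh (Rh ⊗[R] S) r)) := by
            rw [hgd]
            show _ = toSh R S Rh Sh (r ⊗ₜ (1 : S))
            rw [toSh_tmul, map_one, mul_one]
          rw [this, hgτ, hτe]
      induction d with
      | zero => simp
      | add x y hx hy => rw [map_add, map_add, map_add, hx, hy]
      | tmul r s =>
        rw [toSh_tmul, map_mul, hhs, show h (algebraMap Rh Sh r) =
          toE R S Rh Q E (r ⊗ₜ (1 : S)) from congr($hrh r), ← map_mul,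
          Algebra.TensorProduct.tmul_mul_tmul, mul_one, one_mul]
    · rw [RingHom.comp_apply, hhτ', hgτ]
      exact hτe _
  exact ⟨RingEquiv.ofRingHom g h h1 h2, hgd⟩

/-- A strict henselization upstairs is integral over the one downstairs as soon as the elements
of the localised tensor product come from quasi-finite algebras. -/
theorem isIntegral_strictHenselization_of_cover
    [Hensel.IsStrictHenselization (Localization.AtPrime p) Rh]
    [Hensel.IsStrictHenselization (Localization.AtPrime q) Sh]
    (h : ∀ (Q : Ideal (Rh ⊗[R] S)) [Q.IsPrime], Q = (maximalIdeal Sh).comap (toSh R S Rh Sh) →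
      ∀ x : Rh ⊗[R] S, ∃ (S₀ : Type u) (_ : CommRing S₀) (_ : Algebra Rh S₀)
        (φ : S₀ →ₐ[Rh] Localization.AtPrime Q) (s : S₀), Algebra.FiniteType Rh S₀ ∧
          Algebra.QuasiFiniteAt Rh ((maximalIdeal (Localization.AtPrime Q)).comap φ) ∧
          φ s = algebraMap _ _ x) :
    Algebra.IsIntegral Rh Sh ∧ ∃ _ : IsLocalHom (algebraMap Rh Sh), True := by
  have : HenselianLocalRing Rh :=
    Hensel.IsStrictHenselization.henselian (R := Localization.AtPrime p)
  have := (Hensel.IsStrictHenselization.isSepClosure (R := Localization.AtPrime p) (S := Rh)).1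
  let Q := (maximalIdeal Sh).comap (toSh R S Rh Sh)
  have hlocRS : IsLocalHom (algebraMap Rh Sh) := ⟨fun x hx => by
    by_contra hn
    have hle : (maximalIdeal (Localization.AtPrime p)).map (algebraMap _ Rh) ≤
        (maximalIdeal Sh).comap (algebraMap Rh Sh) := by
      rw [← Localization.AtPrime.map_eq_maximalIdeal, Ideal.map_map, ← IsScalarTower.algebraMap_eq,
        Ideal.map_le_iff_le_comap, Ideal.comap_comap, ← IsScalarTower.algebraMap_eq R Rh Sh,
        IsScalarTower.algebraMap_eq R S Sh, ← Ideal.comap_comap, atPrime_comap (p := q) (T := Sh)]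
      exact (Ideal.LiesOver.over (p := p) (P := q)).le
    rw [strictHenselization_map_maximalIdeal (Localization.AtPrime p) Rh] at hle
    exact (hle hn : algebraMap Rh Sh x ∈ maximalIdeal Sh) hx⟩
  let L := Localization.AtPrime Q
  have hQR : Q.comap (algebraMap Rh (Rh ⊗[R] S)) = maximalIdeal Rh := by
    refine Ideal.ext fun r => ?_
    show toSh R S Rh Sh (r ⊗ₜ (1 : S)) ∈ maximalIdeal Sh ↔ _
    rw [toSh_tmul, map_one, mul_one]
    exact map_mem_nonunits_iff (algebraMap Rh Sh) r
  have hloc : IsLocalHom (algebraMap Rh L) := ⟨fun r hr => by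
    by_contra hn
    have hrQ : algebraMap Rh (Rh ⊗[R] S) r ∈ Q := hQR.ge hn
    rw [IsScalarTower.algebraMap_apply Rh (Rh ⊗[R] S) L] at hr
    exact ((IsLocalization.AtPrime.to_map_mem_maximal_iff L Q _).mpr hrQ) hr⟩
  have hint : Algebra.IsIntegral Rh L := by
    refine ⟨fun y => ?_⟩
    obtain ⟨a, t, rfl⟩ := IsLocalization.exists_mk'_eq Q.primeCompl y
    have hx : ∀ x, IsIntegral Rh (algebraMap (Rh ⊗[R] S) L x) := by
      intro x
      obtain ⟨S₀, _, _, φ, s, hft, hqf, hs⟩ := h Q rfl x
      have hq0 : ((maximalIdeal L).comap φ).LiesOver (maximalIdeal Rh) := ⟨by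
        show _ = ((maximalIdeal L).comap φ.toRingHom).comap (algebraMap Rh S₀)
        rw [Ideal.comap_comap, show φ.toRingHom.comp (algebraMap Rh S₀) = algebraMap Rh L from
          φ.comp_algebraMap]
        exact Eq.symm (comap_maximalIdeal_of_isLocalHom (algebraMap Rh L))⟩
      let q₀ := (maximalIdeal L).comap φ
      have : Module.Finite Rh (Localization.AtPrime q₀) := finite_localization_atPrime q₀ hq0 hqf
      let ψ : Localization.AtPrime q₀ →ₐ[Rh] L := IsLocalization.liftAlgHom (M := q₀.primeCompl)
        (f := φ) fun z => of_not_not fun hn => z.2 hn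
      have hψ : ψ (algebraMap S₀ _ s) = φ s := IsLocalization.lift_eq _ s
      rw [← hs, ← hψ]
      exact ((Algebra.IsIntegral.of_finite Rh _).isIntegral _).map ψ
    obtain ⟨u, hu, hu'⟩ := exists_integral_inverse (algebraMap _ L (t : Rh ⊗[R] S)) (hx _)
      (IsLocalization.map_units L t)
    have h4 : IsLocalization.mk' L a t = algebraMap _ L a * u := by
      rw [← IsLocalization.mk'_spec L a t, mul_assoc, hu', mul_one]
    rw [h4]
    exact (hx a).mul hu
  have hLh : HenselianLocalRing L := henselianLocalRing_of_isIntegral Rh L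
  have : IsSepClosed (ResidueField L) := by
    have : Algebra.IsIntegral Rh (ResidueField L) := ⟨fun y => by
      obtain ⟨x, rfl⟩ := residue_surjective y
      exact (hint.isIntegral x).map (IsScalarTower.toAlgHom Rh L (ResidueField L))⟩
    have : Algebra.IsIntegral (ResidueField Rh) (ResidueField L) :=
      ⟨fun y => IsIntegral.tower_top (Algebra.IsIntegral.isIntegral (R := Rh) y)⟩
    have : Algebra.IsAlgebraic (ResidueField Rh) (ResidueField L) := inferInstance
    exact isSepClosed_of_isAlgebraic (ResidueField Rh) (ResidueField L)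
  have : IsLocalHom (algebraMap L L) := ⟨fun _ h => h⟩
  have : Hensel.IsStrictHenselization L L := isStrictHenselization_self L
  obtain ⟨e, he⟩ := strictHenselization_tensor_at_prime R S p q Rh Sh Q L rfl
  refine ⟨⟨fun y => ?_⟩, hlocRS, trivial⟩
  obtain ⟨y, rfl⟩ := e.surjective y
  obtain ⟨f, hf, hfy⟩ := hint.isIntegral y
  refine ⟨f, hf, ?_⟩
  rw [show algebraMap Rh Sh = e.toRingHom.comp (algebraMap Rh L) from RingHom.ext fun r => by
    show _ = e (algebraMap Rh L r)
    rw [IsScalarTower.algebraMap_apply Rh (Rh ⊗[R] S) L]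
    refine Eq.trans ?_ (he (algebraMap Rh (Rh ⊗[R] S) r)).symm
    show _ = toSh R S Rh Sh (r ⊗ₜ (1 : S))
    rw [toSh_tmul, map_one, mul_one], show e y = e.toRingHom y from rfl, ← Polynomial.hom_eval₂,
    hfy, map_zero]

end AtPrime

end Groth.Agent.Hens
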