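import Groth.Agent.Lib.Hens.TensorQF

/-!
Base change of strict henselizations along maps which are integral on strict henselizations.
-/

open IsLocalRing

open scoped TensorProduct

namespace Groth.Agent.Hens

universe u

theorem isAlgebraic_residueField (R A : Type u) [CommRing R] [IsLocalRing R] [CommRing A]
    [IsLocalRing A] [Algebra R A] [IsLocalHom (algebraMap R A)] [Algebra.IsIntegral R A] :
    Algebra.IsAlgebraic (ResidueField R) (ResidueField A) := by
  have : Algebra.IsIntegral R (ResidueField A) := ⟨fun y => by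
    obtain ⟨x, rfl⟩ := residue_surjective y
    exact (Algebra.IsIntegral.isIntegral (R := R) x).map (IsScalarTower.toAlgHom R A _)⟩
  have : Algebra.IsIntegral (ResidueField R) (ResidueField A) :=
    ⟨fun y => IsIntegral.tower_top (Algebra.IsIntegral.isIntegral (R := R) y)⟩
  infer_instance

theorem isIntegral_includeRight (R A B : Type u) [CommRing R] [CommRing A] [CommRing B]
    [Algebra R A] [Algebra R B] [Algebra.IsIntegral R A] :
    (Algebra.TensorProduct.includeRight : B →ₐ[R] A ⊗[R] B).toRingHom.IsIntegral := by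
  let iB : B →+* A ⊗[R] B := (Algebra.TensorProduct.includeRight : B →ₐ[R] A ⊗[R] B).toRingHom
  intro x
  induction x using TensorProduct.induction_on with
  | zero => exact iB.isIntegralElem_zero
  | add x y hx hy => exact RingHom.IsIntegralElem.add iB hx hy
  | tmul a b =>
    obtain ⟨p, hp, hpa⟩ := Algebra.IsIntegral.isIntegral (R := R) a
    let iA : A →+* A ⊗[R] B := (Algebra.TensorProduct.includeLeft : A →ₐ[R] A ⊗[R] B).toRingHom
    have h1 : iB.IsIntegralElem (a ⊗ₜ[R] (1 : B)) := by
      refine ⟨p.map (algebraMap R B), hp.map _, ?_⟩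
      rw [Polynomial.eval₂_map, show iB.comp (algebraMap R B) = iA.comp (algebraMap R A) from
        RingHom.ext fun r => by
          show (1 : A) ⊗ₜ[R] algebraMap R B r = algebraMap R A r ⊗ₜ[R] (1 : B)
          rw [Algebra.algebraMap_eq_smul_one, Algebra.algebraMap_eq_smul_one,
            TensorProduct.tmul_smul, TensorProduct.smul_tmul'],
        show a ⊗ₜ[R] (1 : B) = iA a from rfl, ← Polynomial.hom_eval₂, hpa, map_zero]
    have h2 := RingHom.IsIntegralElem.mul iB h1 (iB.isIntegralElem_map (x := b))
    rwa [show iB b = (1 : A) ⊗ₜ[R] b from rfl, Algebra.TensorProduct.tmul_mul_tmul, mul_one,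
      one_mul] at h2

theorem strictHenselization_tensor_bijective (A B C : Type u) [CommRing A] [CommRing B]
    [CommRing C] [Algebra A B] [Algebra A C]
    (pB : Ideal B) [pB.IsPrime] (pC : Ideal C) [pC.IsPrime]
    (pD : Ideal (B ⊗[A] C)) [pD.IsPrime]
    (Ash : Type u) [CommRing Ash] [HenselianLocalRing Ash] [IsSepClosed (ResidueField Ash)]
    [Algebra A Ash]
    (Bsh : Type u) [CommRing Bsh] [IsLocalRing Bsh] [Algebra (Localization.AtPrime pB) Bsh]
    [IsLocalHom (algebraMap (Localization.AtPrime pB) Bsh)]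
    [Hensel.IsStrictHenselization (Localization.AtPrime pB) Bsh] [Algebra B Bsh]
    [IsScalarTower B (Localization.AtPrime pB) Bsh] [Algebra A Bsh] [IsScalarTower A B Bsh]
    [Algebra Ash Bsh] [IsScalarTower A Ash Bsh] [IsLocalHom (algebraMap Ash Bsh)]
    [Algebra.IsIntegral Ash Bsh]
    (Csh : Type u) [CommRing Csh] [IsLocalRing Csh] [Algebra (Localization.AtPrime pC) Csh]
    [IsLocalHom (algebraMap (Localization.AtPrime pC) Csh)]
    [Hensel.IsStrictHenselization (Localization.AtPrime pC) Csh] [Algebra C Csh]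
    [IsScalarTower C (Localization.AtPrime pC) Csh] [Algebra A Csh] [IsScalarTower A C Csh]
    [Algebra Ash Csh] [IsScalarTower A Ash Csh] [IsLocalHom (algebraMap Ash Csh)]
    (Dsh : Type u) [CommRing Dsh] [IsLocalRing Dsh] [Algebra (Localization.AtPrime pD) Dsh]
    [IsLocalHom (algebraMap (Localization.AtPrime pD) Dsh)]
    [Hensel.IsStrictHenselization (Localization.AtPrime pD) Dsh] [Algebra (B ⊗[A] C) Dsh]
    [IsScalarTower (B ⊗[A] C) (Localization.AtPrime pD) Dsh]
    [Algebra Bsh Dsh] [IsLocalHom (algebraMap Bsh Dsh)] [Algebra B Dsh] [IsScalarTower B Bsh Dsh]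
    [IsScalarTower B (B ⊗[A] C) Dsh]
    [Algebra Csh Dsh] [IsLocalHom (algebraMap Csh Dsh)]
    (hC : ∀ c : C, algebraMap Csh Dsh (algebraMap C Csh c) =
      algebraMap (B ⊗[A] C) Dsh (1 ⊗ₜ[A] c))
    [Algebra Ash Dsh] [IsScalarTower Ash Bsh Dsh] [IsScalarTower Ash Csh Dsh] :
    Function.Bijective (Algebra.TensorProduct.lift (IsScalarTower.toAlgHom Ash Bsh Dsh)
      (IsScalarTower.toAlgHom Ash Csh Dsh) (fun _ _ => Commute.all _ _)) := by
  let X := Bsh ⊗[Ash] Csh
  let iB : Bsh →+* X := (Algebra.TensorProduct.includeLeft : Bsh →ₐ[Ash] X).toRingHom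
  let iC : Csh →+* X := (Algebra.TensorProduct.includeRight : Csh →ₐ[Ash] X).toRingHom
  let Ψ : X →ₐ[Ash] Dsh := Algebra.TensorProduct.lift (IsScalarTower.toAlgHom Ash Bsh Dsh)
    (IsScalarTower.toAlgHom Ash Csh Dsh) (fun _ _ => Commute.all _ _)
  show Function.Bijective Ψ
  have hΨB : ∀ b : Bsh, Ψ (iB b) = algebraMap Bsh Dsh b := fun b => by
    show Algebra.TensorProduct.lift _ _ _ (b ⊗ₜ[Ash] (1 : Csh)) = _
    rw [Algebra.TensorProduct.lift_tmul, map_one, mul_one, IsScalarTower.coe_toAlgHom']
  have hΨC : ∀ c : Csh, Ψ (iC c) = algebraMap Csh Dsh c := fun c => by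
    show Algebra.TensorProduct.lift _ _ _ ((1 : Bsh) ⊗ₜ[Ash] c) = _
    rw [Algebra.TensorProduct.lift_tmul, map_one, one_mul, IsScalarTower.coe_toAlgHom']
  have : HenselianLocalRing Csh :=
    Hensel.IsStrictHenselization.henselian (R := Localization.AtPrime pC)
  have : HenselianLocalRing Dsh :=
    Hensel.IsStrictHenselization.henselian (R := Localization.AtPrime pD)
  have := (Hensel.IsStrictHenselization.isSepClosure (R := Localization.AtPrime pC) (S := Csh)).1
  have hsepD := (Hensel.IsStrictHenselization.isSepClosure (R := Localization.AtPrime pD) (S := Dsh)).2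
  have := isAlgebraic_residueField Ash Bsh
  obtain ⟨hX, hiC, -⟩ := isLocalRing_tensor_of_purelyInseparable Ash Bsh Csh
  let _ : Algebra Csh X := iC.toAlgebra
  have : IsLocalHom (algebraMap Csh X) := hiC
  have : Algebra.IsIntegral Csh X := ⟨isIntegral_includeRight Ash Bsh Csh⟩
  have hXh : HenselianLocalRing X := henselianLocalRing_of_isIntegral Csh X
  have hXs : IsSepClosed (ResidueField X) := by
    have := isAlgebraic_residueField Csh X
    exact isSepClosed_of_isAlgebraic (ResidueField Csh) (ResidueField X)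
  have hΨ : (maximalIdeal Dsh).comap Ψ.toRingHom = maximalIdeal X := by
    refine eq_maximalIdeal (Ideal.isMaximal_of_isIntegral_of_isMaximal_comap (R := Csh) _ ?_)
    rw [Ideal.comap_comap, show Ψ.toRingHom.comp (algebraMap Csh X) = algebraMap Csh Dsh from
      RingHom.ext hΨC, comap_maximalIdeal_of_isLocalHom (algebraMap Csh Dsh)]
    infer_instance
  have hΨloc : IsLocalHom Ψ.toRingHom := ⟨fun x hx => by
    by_contra hn
    exact (hΨ.ge hn : Ψ x ∈ maximalIdeal Dsh) hx⟩
  -- the map from the tensor product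
  let fB : B →ₐ[A] X :=
    { iB.comp (algebraMap B Bsh) with
      commutes' := fun a => by
        show algebraMap B Bsh (algebraMap A B a) ⊗ₜ[Ash] (1 : Csh) =
          algebraMap A Bsh a ⊗ₜ[Ash] (1 : Csh)
        rw [← IsScalarTower.algebraMap_apply A B Bsh] }
  let fC : C →ₐ[A] X :=
    { iC.comp (algebraMap C Csh) with
      commutes' := fun a => by
        show (1 : Bsh) ⊗ₜ[Ash] algebraMap C Csh (algebraMap A C a) =
          algebraMap A Bsh a ⊗ₜ[Ash] (1 : Csh)
        rw [← IsScalarTower.algebraMap_apply A C Csh, IsScalarTower.algebraMap_apply A Ash Csh,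
          IsScalarTower.algebraMap_apply A Ash Bsh,
          Algebra.algebraMap_eq_smul_one, Algebra.algebraMap_eq_smul_one (A := Bsh),
          TensorProduct.tmul_smul, TensorProduct.smul_tmul'] }
  let k : B ⊗[A] C →ₐ[A] X := Algebra.TensorProduct.lift fB fC fun _ _ => .all _ _
  have hΨk : ∀ d, Ψ (k d) = algebraMap (B ⊗[A] C) Dsh d := by
    intro d
    induction d with
    | zero => simp
    | add x y hx hy => rw [map_add, map_add, map_add, hx, hy]
    | tmul b c =>
      rw [show k (b ⊗ₜ c) = fB b * fC c from Algebra.TensorProduct.lift_tmul .., map_mul,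
        show Ψ (fB b) = algebraMap Bsh Dsh (algebraMap B Bsh b) from hΨB _,
        show Ψ (fC c) = algebraMap Csh Dsh (algebraMap C Csh c) from hΨC _, hC,
        ← IsScalarTower.algebraMap_apply B Bsh Dsh,
        IsScalarTower.algebraMap_apply B (B ⊗[A] C) Dsh, ← map_mul,
        Algebra.TensorProduct.algebraMap_apply, Algebra.TensorProduct.tmul_mul_tmul,
        Algebra.algebraMap_self_apply, mul_one, one_mul]
  have hk : (maximalIdeal X).comap k.toRingHom = pD := by
    rw [← hΨ, Ideal.comap_comap, show Ψ.toRingHom.comp k.toRingHom = algebraMap (B ⊗[A] C) Dsh from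
      RingHom.ext hΨk, atPrime_comap (p := pD) (T := Dsh)]
  have hu : ∀ y : pD.primeCompl, IsUnit (k.toRingHom (y : B ⊗[A] C)) := fun y =>
    of_not_not fun hn => y.2 (hk ▸ (hn : (y : B ⊗[A] C) ∈ (maximalIdeal X).comap k.toRingHom))
  let f : Localization.AtPrime pD →+* X :=
    IsLocalization.lift (M := pD.primeCompl) (g := k.toRingHom) hu
  have hf : IsLocalHom f := by
    refine isLocalHom_lift pD _ ?_
    rw [IsLocalization.lift_comp]
    exact hk
  have hΨf : Ψ.toRingHom.comp f = algebraMap (Localization.AtPrime pD) Dsh :=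
    IsLocalization.ringHom_ext pD.primeCompl (RingHom.ext fun d => by
      show Ψ (f (algebraMap _ _ d)) = algebraMap _ Dsh (algebraMap _ _ d)
      rw [show f (algebraMap _ _ d) = k d from IsLocalization.lift_eq _ d, hΨk,
        ← IsScalarTower.algebraMap_apply])
  let τ : ResidueField X →+* ResidueField Dsh := ResidueField.map Ψ.toRingHom
  have hτ : τ.comp (ResidueField.map f) = algebraMap _ (ResidueField Dsh) := by
    refine RingHom.ext fun x => ?_
    obtain ⟨a, rfl⟩ := residue_surjective x
    show residue Dsh (Ψ (f a)) = residue Dsh (algebraMap _ Dsh a)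
    rw [show Ψ (f a) = algebraMap _ Dsh a from congr($hΨf a)]
  let τe := RingEquiv.ofBijective τ
    ⟨τ.injective, surjective_of_isSepClosed τ (ResidueField.map f) hτ⟩
  have hτe : ∀ x, τe.symm (residue Dsh (Ψ x)) = residue X x := fun x =>
    τe.symm_apply_apply (residue X x)
  obtain ⟨h, ⟨hh, hhτ⟩, -⟩ := Hensel.IsStrictHenselization.universal
    (R := Localization.AtPrime pD) (S := Dsh) X f τe.symm.toRingHom (by
      refine RingHom.ext fun x => ?_
      show τe.symm (algebraMap _ (ResidueField Dsh) x) = ResidueField.map f x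
      rw [← hτ]
      exact τe.symm_apply_apply _)
  have hhd : ∀ d, h (algebraMap (B ⊗[A] C) Dsh d) = k d := fun d => by
    rw [IsScalarTower.algebraMap_apply (B ⊗[A] C) (Localization.AtPrime pD) Dsh]
    exact (congr($hh (algebraMap _ _ d))).trans (IsLocalization.lift_eq _ d)
  have hhτ' : ∀ y, residue X (h y) = τe.symm (residue Dsh y) := hhτ
  have h1 : ∀ y, Ψ (h y) = y := by
    have : IsLocalHom ((RingHom.id Dsh).comp (algebraMap (Localization.AtPrime pD) Dsh)) := by
      rw [RingHom.id_comp]; infer_instance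
    have := strictHenselization_hom_ext (Localization.AtPrime pD) Dsh (RingHom.id Dsh)
      (Ψ.toRingHom.comp h) (by
        rw [RingHom.id_comp, RingHom.comp_assoc, hh, hΨf]) fun x => by
      show residue Dsh (Ψ (h x)) = residue Dsh x
      rw [show residue Dsh (Ψ (h x)) = τe (residue X (h x)) from rfl, hhτ', τe.apply_symm_apply]
    exact fun y => congr($this y)
  have hB : ∀ b, h (algebraMap Bsh Dsh b) = iB b := by
    have : IsLocalHom ((Ψ.toRingHom.comp iB).comp (algebraMap (Localization.AtPrime pB) Bsh)) := by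
      rw [show Ψ.toRingHom.comp iB = algebraMap Bsh Dsh from RingHom.ext hΨB]
      infer_instance
    have : IsLocalHom (iB.comp (algebraMap (Localization.AtPrime pB) Bsh)) :=
      isLocalHom_of_comp (iB.comp (algebraMap (Localization.AtPrime pB) Bsh)) Ψ.toRingHom
    have := strictHenselization_hom_ext (Localization.AtPrime pB) Bsh iB
      (h.comp (algebraMap Bsh Dsh)) (IsLocalization.ringHom_ext pB.primeCompl (RingHom.ext fun b => by
        simp only [RingHom.comp_apply]
        rw [← IsScalarTower.algebraMap_apply B (Localization.AtPrime pB) Bsh,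
          ← IsScalarTower.algebraMap_apply B Bsh Dsh,
          IsScalarTower.algebraMap_apply B (B ⊗[A] C) Dsh, hhd]
        show k (b ⊗ₜ[A] (1 : C)) = _
        rw [show k (b ⊗ₜ[A] (1 : C)) = fB b * fC 1 from Algebra.TensorProduct.lift_tmul ..,
          map_one, mul_one]
        rfl)) fun x => by
      rw [RingHom.comp_apply, hhτ', ← hΨB, hτe]
    exact fun b => congr($this b)
  have hC' : ∀ c, h (algebraMap Csh Dsh c) = iC c := by
    have : IsLocalHom ((Ψ.toRingHom.comp iC).comp (algebraMap (Localization.AtPrime pC) Csh)) := by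
      rw [show Ψ.toRingHom.comp iC = algebraMap Csh Dsh from RingHom.ext hΨC]
      infer_instance
    have : IsLocalHom (iC.comp (algebraMap (Localization.AtPrime pC) Csh)) :=
      isLocalHom_of_comp (iC.comp (algebraMap (Localization.AtPrime pC) Csh)) Ψ.toRingHom
    have := strictHenselization_hom_ext (Localization.AtPrime pC) Csh iC
      (h.comp (algebraMap Csh Dsh)) (IsLocalization.ringHom_ext pC.primeCompl (RingHom.ext fun c => by
        simp only [RingHom.comp_apply]
        rw [← IsScalarTower.algebraMap_apply C (Localization.AtPrime pC) Csh, hC, hhd,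
          show k ((1 : B) ⊗ₜ[A] c) = fB 1 * fC c from Algebra.TensorProduct.lift_tmul ..,
          map_one, one_mul]
        rfl)) fun x => by
      rw [RingHom.comp_apply, hhτ', ← hΨC, hτe]
    exact fun c => congr($this c)
  have h2 : ∀ x, h (Ψ x) = x := by
    intro x
    induction x using TensorProduct.induction_on with
    | zero => simp
    | add x y hx hy => rw [map_add, map_add, hx, hy]
    | tmul b c =>
      have hbc : b ⊗ₜ[Ash] c = iB b * iC c := by
        show _ = (b ⊗ₜ[Ash] (1 : Csh)) * ((1 : Bsh) ⊗ₜ[Ash] c)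
        rw [Algebra.TensorProduct.tmul_mul_tmul, mul_one, one_mul]
      rw [hbc, map_mul, map_mul, hΨB, hΨC, hB, hC']
  exact ⟨fun a b hab => by rw [← h2 a, hab, h2], fun y => ⟨h y, h1 y⟩⟩

end Groth.Agent.Hens

namespace Groth.Agent.Hens

universe u

/-- An element of a tensor product only involves finitely many elements of the right factor. -/
theorem exists_finset_forall_mem_range (R A B : Type u) [CommRing R] [CommRing A] [CommRing B]
    [Algebra R A] [Algebra R B] (x : A ⊗[R] B) :
    ∃ s : Finset B, ∀ B₀ : Subalgebra R B, (↑s : Set B) ⊆ ↑B₀ →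
      x ∈ (Algebra.TensorProduct.map (AlgHom.id A A) B₀.val).range := by
  classical
  induction x using TensorProduct.induction_on with
  | zero => exact ⟨∅, fun B₀ _ => zero_mem _⟩
  | add x y hx hy =>
    obtain ⟨s, hs⟩ := hx
    obtain ⟨t, ht⟩ := hy
    refine ⟨s ∪ t, fun B₀ h => add_mem (hs B₀ ?_) (ht B₀ ?_)⟩
    · exact fun z hz => h (Finset.mem_union_left _ hz)
    · exact fun z hz => h (Finset.mem_union_right _ hz)
  | tmul a b =>
    exact ⟨{b}, fun B₀ h => ⟨a ⊗ₜ ⟨b, h (Finset.mem_singleton_self b)⟩, by simp⟩⟩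

section Cover

variable (R S : Type u) [CommRing R] [CommRing S] [Algebra R S] (p : Ideal R) [p.IsPrime]
  (q : Ideal S) [q.IsPrime] [q.LiesOver p]
  (Rh : Type u) [CommRing Rh] [IsLocalRing Rh] [Algebra (Localization.AtPrime p) Rh]
  [IsLocalHom (algebraMap (Localization.AtPrime p) Rh)]
  [Algebra R Rh] [IsScalarTower R (Localization.AtPrime p) Rh]
  [Hensel.IsStrictHenselization (Localization.AtPrime p) Rh]
  (Sh : Type u) [CommRing Sh] [IsLocalRing Sh] [Algebra (Localization.AtPrime q) Sh]
  [IsLocalHom (algebraMap (Localization.AtPrime q) Sh)]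
  [Hensel.IsStrictHenselization (Localization.AtPrime q) Sh]
  [Algebra S Sh] [IsScalarTower S (Localization.AtPrime q) Sh] [Algebra R Sh] [IsScalarTower R S Sh]
  [Algebra Rh Sh] [IsScalarTower R Rh Sh]

include R S p q in
/-- Ind-quasi-finite algebras give integral maps on strict henselizations. -/
theorem isIntegral_strictHenselization_of_indQuasiFinite
    (hB : ∀ s : Finset S, ∃ B₀ : Subalgebra R S, (↑s : Set S) ⊆ ↑B₀ ∧
      Algebra.FiniteType R ↥B₀ ∧ Algebra.QuasiFinite R ↥B₀) :
    Algebra.IsIntegral Rh Sh := by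
  refine (isIntegral_strictHenselization_of_cover R S p q Rh Sh fun Q _ _ x => ?_).1
  obtain ⟨s, hs⟩ := exists_finset_forall_mem_range R Rh S x
  obtain ⟨B₀, hsB, hft, hqf⟩ := hB s
  obtain ⟨z, hz⟩ := hs B₀ hsB
  refine ⟨Rh ⊗[R] B₀, inferInstance, inferInstance,
    (IsScalarTower.toAlgHom Rh (Rh ⊗[R] S) (Localization.AtPrime Q)).comp
      (Algebra.TensorProduct.map (AlgHom.id Rh Rh) B₀.val), z, inferInstance, inferInstance, ?_⟩
  rw [← hz]
  rfl

include R S p q in
theorem isIntegral_strictHenselization_of_isIntegral [Algebra.IsIntegral R S] :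
    Algebra.IsIntegral Rh Sh := by
  refine isIntegral_strictHenselization_of_indQuasiFinite R S p q Rh Sh fun s => ?_
  refine ⟨Algebra.adjoin R (↑s : Set S), Algebra.subset_adjoin, ?_⟩
  have : Module.Finite R (Algebra.adjoin R (↑s : Set S)) := Module.Finite.iff_fg.mpr
    (fg_adjoin_of_finite s.finite_toSet fun y _ => Algebra.IsIntegral.isIntegral y)
  exact ⟨inferInstance, inferInstance⟩

variable [Algebra (Localization.AtPrime p) (Localization.AtPrime q)]
  [IsScalarTower R (Localization.AtPrime p) (Localization.AtPrime q)]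

include R S p q in
theorem isIntegral_strictHenselization_of_indQuasiFinite_localization
    (hB : ∀ s : Finset (Localization.AtPrime q),
      ∃ B₀ : Subalgebra (Localization.AtPrime p) (Localization.AtPrime q),
        (↑s : Set (Localization.AtPrime q)) ⊆ ↑B₀ ∧
          Algebra.FiniteType (Localization.AtPrime p) ↥B₀ ∧
            Algebra.QuasiFinite (Localization.AtPrime p) ↥B₀) :
    Algebra.IsIntegral Rh Sh := by
  classical
  refine (isIntegral_strictHenselization_of_cover R S p q Rh Sh fun Q _ hQ x => ?_).1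
  let i : S →+* Localization.AtPrime Q := (algebraMap (Rh ⊗[R] S) _).comp
    (Algebra.TensorProduct.includeRight : S →ₐ[R] Rh ⊗[R] S).toRingHom
  have hu : ∀ y : q.primeCompl, IsUnit (i (y : S)) := fun y => by
    refine IsLocalization.map_units _ (⟨_, fun hy => y.2 ?_⟩ : Q.primeCompl)
    subst hQ
    exact (comap_includeRight_eq R S q Rh Sh).le hy
  let j : Localization.AtPrime q →+* Localization.AtPrime Q :=
    IsLocalization.lift (M := q.primeCompl) (g := i) hu
  have hj : j.comp (algebraMap (Localization.AtPrime p) (Localization.AtPrime q)) =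
      algebraMap (Localization.AtPrime p) (Localization.AtPrime Q) := by
    refine IsLocalization.ringHom_ext p.primeCompl (RingHom.ext fun r => ?_)
    simp only [RingHom.comp_apply]
    rw [← IsScalarTower.algebraMap_apply R (Localization.AtPrime p) (Localization.AtPrime q),
      IsScalarTower.algebraMap_apply R S (Localization.AtPrime q),
      show j (algebraMap S _ (algebraMap R S r)) = i (algebraMap R S r) from
        IsLocalization.lift_eq _ _,
      IsScalarTower.algebraMap_apply (Localization.AtPrime p) Rh (Localization.AtPrime Q),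
      ← IsScalarTower.algebraMap_apply R (Localization.AtPrime p) Rh,
      IsScalarTower.algebraMap_apply Rh (Rh ⊗[R] S) (Localization.AtPrime Q)]
    show algebraMap _ _ ((1 : Rh) ⊗ₜ[R] algebraMap R S r) =
      algebraMap _ _ (algebraMap R Rh r ⊗ₜ[R] (1 : S))
    rw [Algebra.algebraMap_eq_smul_one (A := Rh), Algebra.algebraMap_eq_smul_one (A := S),
      TensorProduct.tmul_smul, TensorProduct.smul_tmul']
  have key : ∀ x : Rh ⊗[R] S, ∃ s : Finset (Localization.AtPrime q),
      ∀ B₀ : Subalgebra (Localization.AtPrime p) (Localization.AtPrime q),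
      (↑s : Set (Localization.AtPrime q)) ⊆ ↑B₀ →
      ∀ φ : Rh ⊗[Localization.AtPrime p] B₀ →ₐ[Rh] Localization.AtPrime Q,
        (∀ b : B₀, φ (1 ⊗ₜ b) = j b) → algebraMap _ _ x ∈ φ.range := by
    intro x
    induction x using TensorProduct.induction_on with
    | zero => exact ⟨∅, fun B₀ _ φ _ => by rw [map_zero]; exact zero_mem _⟩
    | add x y hx hy =>
      obtain ⟨s, hs⟩ := hx
      obtain ⟨t, ht⟩ := hy
      refine ⟨s ∪ t, fun B₀ h φ hφ => ?_⟩
      rw [map_add]
      exact add_mem (hs B₀ (fun z hz => h (Finset.mem_union_left _ hz)) φ hφ)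
        (ht B₀ (fun z hz => h (Finset.mem_union_right _ hz)) φ hφ)
    | tmul a b =>
      refine ⟨{algebraMap S _ b}, fun B₀ h φ hφ => ⟨a • ((1 : Rh) ⊗ₜ
        (⟨algebraMap S _ b, h (Finset.mem_singleton_self _)⟩ : B₀)), ?_⟩⟩
      show φ _ = _
      rw [map_smul, hφ, Algebra.smul_def,
        IsScalarTower.algebraMap_apply Rh (Rh ⊗[R] S) (Localization.AtPrime Q)]
      show algebraMap _ _ (algebraMap Rh (Rh ⊗[R] S) a) * j (algebraMap S _ b) = _
      rw [show j (algebraMap S _ b) = i b from IsLocalization.lift_eq _ _]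
      show algebraMap _ _ (a ⊗ₜ[R] (1 : S)) * algebraMap _ _ ((1 : Rh) ⊗ₜ[R] b) = _
      rw [← map_mul, Algebra.TensorProduct.tmul_mul_tmul, mul_one, one_mul]
  obtain ⟨s, hs⟩ := key x
  obtain ⟨B₀, hsB, hft, hqf⟩ := hB s
  let jB : B₀ →ₐ[Localization.AtPrime p] Localization.AtPrime Q :=
    { j.comp B₀.val.toRingHom with commutes' := fun r => congr($hj r) }
  let φ : Rh ⊗[Localization.AtPrime p] B₀ →ₐ[Rh] Localization.AtPrime Q :=
    Algebra.TensorProduct.lift (Algebra.ofId Rh _) jB fun _ _ => .all _ _
  obtain ⟨z, hz⟩ := hs B₀ hsB φ fun b => by simp [φ, jB]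
  exact ⟨_, inferInstance, inferInstance, φ, z, inferInstance, inferInstance, hz⟩

end Cover

end Groth.Agent.Hens
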