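import Groth.Agent.Lib.Hens.PairColim

/-!
Properties of henselizations of pairs and of étale neighbourhoods of a pair.
-/

open scoped TensorProduct

namespace Groth.Agent.Hens

universe u v

variable {R : Type u} [CommRing R] {I : Ideal R}

theorem exists_point_of_bijective {S : Type u} [CommRing S] [Algebra R S]
    (h : Function.Bijective (Ideal.quotientMap (I.map (algebraMap R S)) (algebraMap R S)
      Ideal.le_comap_map)) :
    ∃ σ : S →ₐ[R] R ⧸ I, RingHom.ker σ = I.map (algebraMap R S) := by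
  let e := RingEquiv.ofBijective _ h
  let σ : S →+* R ⧸ I := e.symm.toRingHom.comp (Ideal.Quotient.mk (I.map (algebraMap R S)))
  refine ⟨{ σ with commutes' := fun r => ?_ }, ?_⟩
  · refine e.injective ?_
    show e (e.symm (Ideal.Quotient.mk _ (algebraMap R S r))) = e (Ideal.Quotient.mk I r)
    rw [e.apply_symm_apply]
    rfl
  · ext x
    show e.symm (Ideal.Quotient.mk _ x) = 0 ↔ _
    rw [map_eq_zero_iff _ e.symm.injective, Ideal.Quotient.eq_zero_iff_mem]

theorem bijective_of_point {S : Type u} [CommRing S] [Algebra R S] (σ : S →ₐ[R] R ⧸ I)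
    (h : RingHom.ker σ = I.map (algebraMap R S)) :
    Function.Bijective (Ideal.quotientMap (I.map (algebraMap R S)) (algebraMap R S)
      Ideal.le_comap_map) := by
  refine ⟨Ideal.quotientMap_injective' fun r hr => ?_, fun y => ?_⟩
  · rw [Ideal.mem_comap, ← h, RingHom.mem_ker, AlgHom.commutes] at hr
    exact Ideal.Quotient.eq_zero_iff_mem.mp hr
  · obtain ⟨x, rfl⟩ := Ideal.Quotient.mk_surjective y
    obtain ⟨r, hr⟩ := exists_sub_mem_of_ker_eq σ h x
    exact ⟨Ideal.Quotient.mk I r, (Ideal.Quotient.eq.mpr hr).symm⟩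

section Congr

variable {S T : Type u} [CommRing S] [CommRing T] [Algebra R S] [Algebra R T] {J : Ideal T}

/-- Two maps out of an algebra equal to `R` modulo `I` are congruent. -/
theorem sub_mem_of_map_le (hS : ∀ x : S, ∃ r : R, x - algebraMap R S r ∈ I.map (algebraMap R S))
    (hIJ : I.map (algebraMap R T) ≤ J) (f g : S →ₐ[R] T) (x : S) : f x - g x ∈ J := by
  obtain ⟨r, hr⟩ := hS x
  have hmem : ∀ h : S →ₐ[R] T, h (x - algebraMap R S r) ∈ J := fun h => by
    let h' : S →+* T := h.toRingHom
    have h2 := Ideal.mem_map_of_mem h' hr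
    rw [Ideal.map_map, show h'.comp (algebraMap R S) = algebraMap R T from h.comp_algebraMap]
      at h2
    exact hIJ h2
  have := sub_mem (hmem f) (hmem g)
  simpa [AlgHom.commutes] using this

/-- An étale neighbourhood maps uniquely to a henselian pair. -/
theorem existsUnique_algHom_of_point [Algebra.Etale R S] (σ : S →ₐ[R] R ⧸ I)
    (hσ : RingHom.ker σ = I.map (algebraMap R S)) (hT : HenselianRing T J)
    (hIJ : I.map (algebraMap R T) ≤ J) : ∃! g : S →ₐ[R] T, True := by
  let τ : R ⧸ I →ₐ[R] T ⧸ J := Ideal.Quotient.liftₐ I (Algebra.ofId R (T ⧸ J)) fun a ha => by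
    show algebraMap R (T ⧸ J) a = 0
    rw [IsScalarTower.algebraMap_apply R T (T ⧸ J), Ideal.Quotient.algebraMap_eq,
      Ideal.Quotient.eq_zero_iff_mem]
    exact hIJ (Ideal.mem_map_of_mem _ ha)
  obtain ⟨φ, -, -⟩ := existsUnique_algHom_lift hT (τ.comp σ)
  exact ⟨φ, trivial, fun g _ => algHom_ext_of_le_jacobson hT.jac fun x =>
    sub_mem_of_map_le (exists_sub_mem_of_ker_eq σ hσ) hIJ g φ x⟩

end Congr

section Henselization

variable {B : Type u} [CommRing B] [Algebra R B] (hB : Hens2.IsPairHenselization R I B)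

include hB

theorem IsPairHenselization.exists_algHom {T : Type u} [CommRing T] [Algebra R T] {J : Ideal T}
    (hT : HenselianRing T J) (hIJ : I.map (algebraMap R T) ≤ J) : Nonempty (B →ₐ[R] T) := by
  obtain ⟨g, hg, -⟩ := hB.2 T J (algebraMap R T) hT hIJ
  exact ⟨{ g with commutes' := fun r => congr($hg r) }⟩

theorem IsPairHenselization.algHom_eq {T : Type u} [CommRing T] [Algebra R T] {J : Ideal T}
    (hT : HenselianRing T J) (hIJ : I.map (algebraMap R T) ≤ J) (f g : B →ₐ[R] T) : f = g :=
  AlgHom.coe_ringHom_injective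
    ((hB.2 T J (algebraMap R T) hT hIJ).unique f.comp_algebraMap g.comp_algebraMap)

theorem IsPairHenselization.flat : Module.Flat R B := by
  obtain ⟨e⟩ := exists_pairHenselization_equiv I B hB
  exact Module.Flat.of_linearEquiv e.symm.toLinearEquiv

theorem IsPairHenselization.exists_sub_mem (x : B) :
    ∃ r : R, x - algebraMap R B r ∈ I.map (algebraMap R B) := by
  obtain ⟨e⟩ := exists_pairHenselization_equiv I B hB
  obtain ⟨r, hr⟩ := PHs.exists_sub_mem (e.symm x)
  refine ⟨r, ?_⟩
  let e' : PHs I →+* B := e.toAlgHom.toRingHom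
  have h := Ideal.mem_map_of_mem e' hr
  rw [Ideal.map_map, show e'.comp (algebraMap R (PHs I)) = algebraMap R B from
    e.toAlgHom.comp_algebraMap, map_sub] at h
  rwa [show e' (e.symm x) = x from e.apply_symm_apply x,
    show e' (algebraMap R (PHs I) r) = algebraMap R B r from e.commutes r] at h

/-- The henselization does not change thickenings of the closed subscheme. -/
theorem IsPairHenselization.quotientMap_bijective (K : Ideal R) (hK : I ≤ K.radical) :
    Function.Bijective (Ideal.quotientMap (K.map (algebraMap R B)) (algebraMap R B)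
      Ideal.le_comap_map) := by
  have hnil : ∀ (T : Type u) [CommRing T] [Algebra R T] (L : Ideal T),
      K.map (algebraMap R T) ≤ L →
      HenselianRing (T ⧸ L) (I.map (algebraMap R (T ⧸ L))) := by
    intro T _ _ L hL
    refine henselianRing_of_nilpotent fun x hx => ?_
    have h0 : ∀ a ∈ I, IsNilpotent (algebraMap R (T ⧸ L) a) := fun a ha => by
      obtain ⟨n, hn⟩ := hK ha
      refine ⟨n, ?_⟩
      rw [← map_pow, IsScalarTower.algebraMap_apply R T (T ⧸ L), Ideal.Quotient.algebraMap_eq,
        Ideal.Quotient.eq_zero_iff_mem]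
      exact hL (Ideal.mem_map_of_mem _ hn)
    exact mem_nilradical.mp ((Ideal.map_le_iff_le_comap.mpr fun a ha =>
      mem_nilradical.mpr (h0 a ha) : I.map (algebraMap R (T ⧸ L)) ≤ nilradical (T ⧸ L)) hx)
  obtain ⟨g⟩ := IsPairHenselization.exists_algHom hB (hnil R K (by simp)) le_rfl
  let KB := K.map (algebraMap R B)
  let q : R ⧸ K →ₐ[R] B ⧸ KB := Ideal.Quotient.liftₐ K (Algebra.ofId R (B ⧸ KB)) fun a ha => by
    show algebraMap R (B ⧸ KB) a = 0
    rw [IsScalarTower.algebraMap_apply R B (B ⧸ KB), Ideal.Quotient.algebraMap_eq,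
      Ideal.Quotient.eq_zero_iff_mem]
    exact Ideal.mem_map_of_mem _ ha
  have hq : q.comp g = Ideal.Quotient.mkₐ R KB :=
    IsPairHenselization.algHom_eq hB (hnil B KB le_rfl) le_rfl _ _
  refine ⟨Ideal.quotientMap_injective' fun r hr => ?_, fun y => ?_⟩
  · have hg : K.map (algebraMap R B) ≤ RingHom.ker g := Ideal.map_le_iff_le_comap.mpr fun a ha => by
      rw [Ideal.mem_comap, RingHom.mem_ker, AlgHom.commutes]
      exact Ideal.Quotient.eq_zero_iff_mem.mpr ha
    have h0 : g (algebraMap R B r) = 0 := hg hr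
    rw [AlgHom.commutes] at h0
    exact Ideal.Quotient.eq_zero_iff_mem.mp h0
  · obtain ⟨b, rfl⟩ := Ideal.Quotient.mk_surjective y
    obtain ⟨r, hr⟩ := Ideal.Quotient.mk_surjective (g b)
    refine ⟨Ideal.Quotient.mk K r, ?_⟩
    show q (Ideal.Quotient.mk K r) = _
    rw [hr]
    exact congr($hq b)

end Henselization

namespace PNbhd

theorem exists_upper (i j : PNbhd I) : ∃ (k : PNbhd I) (φ : i.S →ₐ[R] k.S) (ψ : j.S →ₐ[R] k.S),
    k.σ.comp φ = i.σ ∧ k.σ.comp ψ = j.σ := by
  have : Algebra.Etale R (i.S ⊗[R] j.S) := Algebra.Etale.comp R i.S _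
  obtain ⟨k, φ, hφ⟩ := exists_of_point (i.S ⊗[R] j.S)
    (Algebra.TensorProduct.lift i.σ j.σ fun _ _ => .all _ _)
  exact ⟨k, φ.comp Algebra.TensorProduct.includeLeft, φ.comp Algebra.TensorProduct.includeRight,
    by ext x; simp [hφ], by ext x; simp [hφ]⟩

/-- Two maps of étale neighbourhoods agree on a smaller one. -/
theorem exists_equalizer {E F : Type u} [CommRing E] [Algebra R E] [Algebra.Etale R E]
    [CommRing F] [Algebra R F] [Algebra.Etale R F] (σ : F →ₐ[R] R ⧸ I) (f g : E →ₐ[R] F)
    (h : σ.comp f = σ.comp g) :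
    ∃ (i : PNbhd I) (φ : F →ₐ[R] i.S), (∀ x, i.σ (φ x) = σ x) ∧ φ.comp f = φ.comp g := by
  obtain ⟨ε, hε, hspan⟩ := (Ideal.isIdempotentElem_iff_of_fg _ (KaehlerDifferential.ideal_fg R E)).mp
    ((Ideal.cotangent_subsingleton_iff _).mp
      (inferInstanceAs (Subsingleton (KaehlerDifferential R E))))
  let m : E ⊗[R] E →ₐ[R] F := Algebra.TensorProduct.lift f g fun _ _ => .all _ _
  let e := 1 - m ε
  have hσ : σ e = 1 := by
    have h1 : σ.comp m = (σ.comp f).comp (Algebra.TensorProduct.lmul' R) :=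
      Algebra.TensorProduct.ext' fun a b => by simp [m, show σ (g b) = σ (f b) from (congr($h b)).symm]
    have h2 : Algebra.TensorProduct.lmul' R (S := E) ε = 0 :=
      RingHom.mem_ker.mp (hspan.ge (Ideal.mem_span_singleton_self ε))
    rw [map_sub, map_one, show σ (m ε) = 0 by
      rw [show σ (m ε) = (σ.comp m) ε from rfl, h1, AlgHom.comp_apply, h2, map_zero], sub_zero]
  have : Algebra.Etale R (Localization.Away e) := by
    have := Algebra.Etale.of_isLocalizationAway (R := F) (A := Localization.Away e) e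
    exact Algebra.Etale.comp R F _
  let σ' : Localization.Away e →ₐ[R] R ⧸ I :=
    IsLocalization.Away.liftAlgHom e (f := σ) (by rw [hσ]; exact isUnit_one)
  obtain ⟨i, φ, hφ⟩ := exists_of_point _ σ'
  refine ⟨i, φ.comp (IsScalarTower.toAlgHom R F _), fun x => (hφ _).trans ?_, AlgHom.ext fun x => ?_⟩
  · exact IsLocalization.Away.lift_eq (S := Localization.Away e) e (g := σ.toRingHom) (by
      show IsUnit (σ e); rw [hσ]; exact isUnit_one) x
  · show φ (algebraMap F _ (f x)) = φ (algebraMap F _ (g x))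
    congr 1
    have hmem : x ⊗ₜ[R] (1 : E) - (1 : E) ⊗ₜ[R] x ∈ KaehlerDifferential.ideal R E := by
      simp [KaehlerDifferential.ideal, RingHom.mem_ker]
    rw [hspan, Ideal.mem_span_singleton] at hmem
    obtain ⟨w, hw⟩ := hmem
    have h0 : algebraMap F (Localization.Away e) (m ε) = 0 := by
      refine (IsLocalization.Away.algebraMap_isUnit (S := Localization.Away e) e).mul_right_eq_zero.mp ?_
      rw [← map_mul, show e * m ε = 0 by
        rw [sub_mul, one_mul, ← map_mul, hε.eq, sub_self], map_zero]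
    have h3 := congrArg (fun z => algebraMap F (Localization.Away e) (m z)) hw
    simp only [map_sub, map_mul, h0, zero_mul] at h3
    rw [← sub_eq_zero, ← map_sub]
    simpa [m] using h3

end PNbhd

end Groth.Agent.Hens

namespace Groth.Agent.Hens

universe u

variable {A : Type u} [CommRing A] {R B : Type u} [CommRing R] [CommRing B] [Algebra A R]
  [Algebra R B] [Algebra A B] [IsScalarTower A R B]

/-- The identification of truncations, as algebras over the truncation of the base. -/
noncomputable def truncEquiv (K : Ideal A)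
    (hb : Function.Bijective (Ideal.quotientMap (K.map (algebraMap A B)) (algebraMap R B)
      (show K.map (algebraMap A R) ≤ (K.map (algebraMap A B)).comap (algebraMap R B) by
        rw [← Ideal.map_le_iff_le_comap, Ideal.map_map, ← IsScalarTower.algebraMap_eq]))) :
    (R ⧸ K.map (algebraMap A R)) ≃ₐ[A ⧸ K] (B ⧸ K.map (algebraMap A B)) :=
  AlgEquiv.ofRingEquiv (f := RingEquiv.ofBijective _ hb) fun x => by
    obtain ⟨a, rfl⟩ := Ideal.Quotient.mk_surjective x
    show Ideal.Quotient.mk _ (algebraMap R B (algebraMap A R a)) =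
      Ideal.Quotient.mk _ (algebraMap A B a)
    rw [← IsScalarTower.algebraMap_apply A R B]

theorem etale_quotient_of_bijective (K : Ideal A) [Algebra.Etale A R] {h}
    (hb : Function.Bijective (Ideal.quotientMap (I := K.map (algebraMap A R))
      (K.map (algebraMap A B)) (algebraMap R B) h)) :
    Algebra.Etale (A ⧸ K) (B ⧸ K.map (algebraMap A B)) := by
  have : Algebra.Etale (A ⧸ K) (R ⧸ K.map (algebraMap A R)) :=
    Algebra.Etale.of_equiv (Algebra.TensorProduct.quotIdealMapEquivQuotTensor R K).symm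
  exact Algebra.Etale.of_equiv (truncEquiv K hb)

theorem smooth_quotient_of_bijective (K : Ideal A) [Algebra.Smooth A R] {h}
    (hb : Function.Bijective (Ideal.quotientMap (I := K.map (algebraMap A R))
      (K.map (algebraMap A B)) (algebraMap R B) h)) :
    Algebra.Smooth (A ⧸ K) (B ⧸ K.map (algebraMap A B)) := by
  have : Algebra.Smooth (A ⧸ K) (R ⧸ K.map (algebraMap A R)) :=
    Algebra.Smooth.of_equiv (Algebra.TensorProduct.quotIdealMapEquivQuotTensor R K).symm
  exact Algebra.Smooth.of_equiv (truncEquiv K hb)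

end Groth.Agent.Hens

namespace Groth.Agent.Hens

universe u

theorem bijective_quotientMap_congr {R B : Type u} [CommRing R] [CommRing B] {f : R →+* B}
    {K : Ideal R} {L M : Ideal B} (h : L = M) {hL : K ≤ L.comap f}
    (hb : Function.Bijective (Ideal.quotientMap L f hL)) :
    Function.Bijective (Ideal.quotientMap M f (show K ≤ M.comap f from h ▸ hL)) := by
  subst h
  exact hb

end Groth.Agent.Hens

namespace Groth.Agent.Hens.PHs

universe u

variable {R : Type u} [CommRing R] {I : Ideal R}

theorem algHom_eq (i : PNbhd I) (f g : i.S →ₐ[R] PHs I) : f = g :=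
  algHom_ext_of_le_jacobson le_jacobson
    (sub_mem_of_map_le (exists_sub_mem_of_ker_eq i.σ i.ker_σ) le_rfl f g)

/-- Every element comes from an étale neighbourhood. -/
theorem exists_of_S (x : PHs I) :
    ∃ (i : PNbhd I) (s : i.S), of i (algebraMap i.S i.G s) = x := by
  obtain ⟨i, y, rfl⟩ := exists_of x
  obtain ⟨s, t, rfl⟩ := IsLocalization.exists_mk'_eq i.M y
  let L := Localization.Away (t : i.S)
  have : Algebra.Etale R L := by
    have := Algebra.Etale.of_isLocalizationAway (R := i.S) (A := L) (t : i.S)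
    exact Algebra.Etale.comp R i.S L
  let σ : L →ₐ[R] R ⧸ I := IsLocalization.Away.liftAlgHom (t : i.S) (f := i.σ) t.2
  obtain ⟨j, φ, -⟩ := PNbhd.exists_of_point L σ
  let ψ : i.S →ₐ[R] j.S := φ.comp (IsScalarTower.toAlgHom R i.S L)
  have h := algHom_eq i ((of j).comp ((IsScalarTower.toAlgHom R j.S j.G).comp ψ))
    ((of i).comp (IsScalarTower.toAlgHom R i.S i.G))
  refine ⟨j, φ (IsLocalization.mk' L s (⟨t, 1, pow_one _⟩ : Submonoid.powers (t : i.S))), ?_⟩
  refine ((IsLocalization.map_units i.G t).map (of i)).mul_right_cancel ?_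
  rw [← map_mul (of i), IsLocalization.mk'_spec]
  have ht : of i (algebraMap i.S i.G t) = of j (algebraMap j.S j.G (ψ t)) := (congr($h t)).symm
  have hs : of i (algebraMap i.S i.G s) = of j (algebraMap j.S j.G (ψ s)) := (congr($h s)).symm
  rw [ht, hs, ← map_mul, ← map_mul]
  congr 2
  show _ * φ (algebraMap i.S L t) = φ (algebraMap i.S L s)
  rw [← map_mul]
  congr 1
  exact IsLocalization.mk'_spec L s (⟨t, 1, pow_one _⟩ : Submonoid.powers (t : i.S))

/-- An element vanishing in the henselization vanishes on a smaller neighbourhood. -/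
theorem exists_eq_zero (i : PNbhd I) (s : i.S) (h : of i (algebraMap i.S i.G s) = 0) :
    ∃ (j : PNbhd I) (ψ : i.S →ₐ[R] j.S), ψ s = 0 := by
  obtain ⟨k, hik, _, hk⟩ := of_eq_of_iff.mp (h.trans (map_zero (of i)).symm)
  rw [map_zero] at hk
  obtain ⟨l, φ, ψ, hφ, hψ⟩ := PNbhd.exists_upper i k
  obtain ⟨hil, hil'⟩ := PNbhd.le_of_algHom φ hφ
  obtain ⟨hkl, -⟩ := PNbhd.le_of_algHom ψ hψ
  have h0 : algebraMap l.S l.G (φ s) = 0 := by
    rw [← hil', show PNbhd.map hil = (PNbhd.map hkl).comp (PNbhd.map hik) from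
      PNbhd.map_eq hil (AlgHom.ext fun x => by simp [PNbhd.res_map]), AlgHom.comp_apply, hk,
      map_zero]
  obtain ⟨t, ht⟩ := (IsLocalization.map_eq_zero_iff l.M l.G (φ s)).mp h0
  let L := Localization.Away (t : l.S)
  have : Algebra.Etale R L := by
    have := Algebra.Etale.of_isLocalizationAway (R := l.S) (A := L) (t : l.S)
    exact Algebra.Etale.comp R l.S L
  obtain ⟨j, χ, -⟩ := PNbhd.exists_of_point L
    (IsLocalization.Away.liftAlgHom (t : l.S) (f := l.σ) t.2)
  refine ⟨j, χ.comp ((IsScalarTower.toAlgHom R l.S L).comp φ), ?_⟩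
  show χ (algebraMap l.S L (φ s)) = 0
  rw [(IsLocalization.map_eq_zero_iff (Submonoid.powers (t : l.S)) L (φ s)).mpr
    ⟨⟨t, 1, pow_one _⟩, ht⟩, map_zero]

end Groth.Agent.Hens.PHs
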