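import Groth.Agent.Lib.Hens.PairOps
import Mathlib.RingTheory.AdicCompletion.Basic
import Mathlib.RingTheory.LocalRing.ResidueField.Basic
import Mathlib.RingTheory.Nilpotent.Lemmas
import Mathlib.Algebra.Module.Projective

/-! Miscellaneous lemmas. -/

open Polynomial

namespace Groth.Agent.Hens

theorem isCoprime_X_sub_C_of_isUnit_eval {R : Type*} [CommRing R] {b : R} {q : R[X]}
    (h : IsUnit (q.eval b)) : IsCoprime (X - C b) q := by
  obtain ⟨k, hk⟩ := X_sub_C_dvd_sub_C_eval (a := b) (p := q)
  obtain ⟨w, hw⟩ := h.exists_left_inv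
  have hC : C w * C (q.eval b) = 1 := by rw [← C_mul, hw, C_1]
  exact ⟨-C w * k, C w, by linear_combination C w * hk + hC⟩



universe u v

/-- A (not nec. monic) factor reducing to a linear polynomial of a monic polynomial has a root. -/
theorem exists_root_of_factor {R : Type u} [CommRing R] [IsLocalRing R] {f g g' : R[X]}
    {a₀ : R} {q : (IsLocalRing.ResidueField R)[X]}
    (hfg : f = g * g') (hf : f.Monic)
    (hg : g.map (IsLocalRing.residue R) = X - C (IsLocalRing.residue R a₀))
    (hq : f.map (IsLocalRing.residue R) = (X - C (IsLocalRing.residue R a₀)) * q) :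
    ∃ a, f.IsRoot a ∧ a - a₀ ∈ IsLocalRing.maximalIdeal R := by
  have h1 : IsUnit (g.coeff 1) := by
    rw [← IsLocalRing.residue_ne_zero_iff_isUnit, ← coeff_map, hg]; simp
  have hq' : g'.map (IsLocalRing.residue R) = q := by
    have := hq
    rw [hfg, Polynomial.map_mul, hg] at this
    exact (monic_X_sub_C _).isRegular.left this
  have hdq : f.natDegree = q.natDegree + 1 := by
    have hqm : q.Monic := (monic_X_sub_C _).of_mul_monic_left (hq ▸ hf.map _)
    rw [← hf.natDegree_map (IsLocalRing.residue R), hq, (monic_X_sub_C _).natDegree_mul hqm,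
      natDegree_X_sub_C, add_comm]
  have hqlead : IsUnit (g'.coeff q.natDegree) := by
    rw [← IsLocalRing.residue_ne_zero_iff_isUnit, ← coeff_map, hq']
    exact leadingCoeff_ne_zero.mpr ((monic_X_sub_C (IsLocalRing.residue R a₀)).of_mul_monic_left
      (hq ▸ hf.map _) : q.Monic).ne_zero
  have hnil : ∀ i, 2 ≤ i → IsNilpotent (g.coeff i) := by
    intro i hi
    rw [← mem_nilradical, nilradical, Ideal.radical_eq_sInf]
    refine Ideal.mem_sInf.mpr fun {P} ⟨_, hP⟩ => ?_
    by_contra hiP
    let φ := Ideal.Quotient.mk P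
    have hgi : (g.map φ).coeff i ≠ 0 := by rw [coeff_map]; exact fun h => hiP (Ideal.Quotient.eq_zero_iff_mem.mp h)
    have hg0 : g.map φ ≠ 0 := fun h => hgi (by rw [h, coeff_zero])
    have hgq : (g'.map φ).coeff q.natDegree ≠ 0 := by
      rw [coeff_map]
      exact fun h => hP.ne_top (Ideal.eq_top_of_isUnit_mem _ (Ideal.Quotient.eq_zero_iff_mem.mp h) hqlead)
    have hg'0 : g'.map φ ≠ 0 := fun h => hgq (by rw [h, coeff_zero])
    have := congrArg (fun p => (Polynomial.map φ p).natDegree) hfg
    simp only [Polynomial.map_mul, natDegree_mul hg0 hg'0, hf.natDegree_map φ, hdq] at this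
    have := le_natDegree_of_ne_zero hgi
    have := le_natDegree_of_ne_zero hgq
    omega
  obtain ⟨w, hw⟩ := h1.exists_left_inv
  let x₀ := -(w * g.coeff 0)
  have hgnil : IsNilpotent (g - (C (g.coeff 1) * X + C (g.coeff 0))) := by
    rw [Polynomial.isNilpotent_iff]
    intro i
    rw [coeff_sub, coeff_add]
    match i with
    | 0 => simp
    | 1 => simp
    | i + 2 => simpa [coeff_C, coeff_X] using hnil (i + 2) (by omega)
  have hx₀ : IsNilpotent (aeval x₀ g) := by
    have h2 := hgnil.map (evalRingHom x₀)
    simp only [coe_evalRingHom, eval_sub, eval_add, eval_mul, eval_C, eval_X] at h2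
    have h3 : g.coeff 1 * x₀ + g.coeff 0 = 0 := by linear_combination (-g.coeff 0) * hw
    rw [coe_aeval_eq_eval]
    rwa [h3, sub_zero] at h2
  have hd : IsUnit (aeval x₀ g.derivative) := by
    rw [coe_aeval_eq_eval, ← IsLocalRing.residue_ne_zero_iff_isUnit, ← eval₂_at_apply, ← eval_map,
      ← derivative_map, hg]
    simp
  obtain ⟨a, ⟨ha, ha'⟩, -⟩ := existsUnique_nilpotent_sub_and_aeval_eq_zero hx₀ hd
  rw [coe_aeval_eq_eval] at ha'
  refine ⟨a, by rw [IsRoot, hfg, eval_mul, ha', zero_mul], ?_⟩
  have h4 := congrArg (IsLocalRing.residue R) ha'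
  rw [← eval₂_at_apply, ← eval_map, hg, eval_sub, eval_X, eval_C, map_zero] at h4
  rw [← IsLocalRing.residue_eq_zero_iff, map_sub]
  exact h4

theorem isAdicComplete_of_retract {A : Type u} [CommRing A] (I : Ideal A) {M : Type v} {N : Type*}
    [AddCommGroup M] [Module A M] [AddCommGroup N] [Module A N] [IsAdicComplete I N]
    (i : M →ₗ[A] N) (r : N →ₗ[A] M) (h : r ∘ₗ i = LinearMap.id) : IsAdicComplete I M where
  haus' x hx := by
    have h1 : i x = 0 := IsHausdorff.haus' (I := I) _ fun n => by
      have := (hx n).map i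
      rw [map_zero, Submodule.map_smul''] at this
      exact this.mono (Submodule.smul_mono le_rfl le_top)
    have h2 := congr($h x)
    simp only [LinearMap.comp_apply, h1, map_zero, LinearMap.id_apply] at h2
    exact h2.symm
  prec' f hf := by
    obtain ⟨L, hL⟩ := IsPrecomplete.prec' (I := I) (fun n => i (f n)) fun {m n} hmn => by
      have := (hf hmn).map i
      rw [Submodule.map_smul''] at this
      exact this.mono (Submodule.smul_mono le_rfl le_top)
    refine ⟨r L, fun n => ?_⟩
    have h1 := (hL n).map r
    rw [Submodule.map_smul''] at h1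
    have h2 : r (i (f n)) = f n := congr($h (f n))
    rw [h2] at h1
    exact h1.mono (Submodule.smul_mono le_rfl le_top)

theorem isAdicComplete_pi {A : Type u} [CommRing A] (I : Ideal A) [IsAdicComplete I A] (n : ℕ) :
    IsAdicComplete I (Fin n → A) where
  haus' x hx := funext fun j => IsHausdorff.haus' (I := I) _ fun k => by
    have := (hx k).map (LinearMap.proj (R := A) (φ := fun _ : Fin n => A) j)
    rw [Submodule.map_smul''] at this
    exact this.mono (Submodule.smul_mono le_rfl le_top)
  prec' f hf := by
    choose L hL using fun j => IsPrecomplete.prec' (I := I) (fun k => f k j) fun {m k} hmk => by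
      have := (hf hmk).map (LinearMap.proj (R := A) (φ := fun _ : Fin n => A) j)
      rw [Submodule.map_smul''] at this
      exact this.mono (Submodule.smul_mono le_rfl le_top)
    refine ⟨L, fun k => ?_⟩
    rw [SModEq.sub_mem]
    have hd : f k - L = ∑ j, (f k j - L j) • (Pi.single j (1 : A) : Fin n → A) := by
      ext m; simp [Finset.sum_apply, Pi.single_apply]
    rw [hd]
    refine Submodule.sum_mem _ fun j _ => Submodule.smul_mem_smul ?_ trivial
    have := hL j k
    rw [SModEq.sub_mem, smul_eq_mul, Ideal.mul_top] at this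
    exact this

theorem isAdicComplete_of_finite_projective {A : Type u} [CommRing A] (I : Ideal A)
    [IsAdicComplete I A] (M : Type v) [AddCommGroup M] [Module A M] [Module.Finite A M]
    [Module.Projective A M] : IsAdicComplete I M := by
  obtain ⟨n, r, hr⟩ := Module.Finite.exists_fin' A M
  obtain ⟨i, hi⟩ := Module.projective_lifting_property r LinearMap.id hr
  have := isAdicComplete_pi I n
  exact isAdicComplete_of_retract I i r hi

end Groth.Agent.Hens
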