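import Groth.Agent.Lib.Hens.Local
import Mathlib.Algebra.Colimit.DirectLimit
import Mathlib.RingTheory.Unramified.LocalRing
import Mathlib.RingTheory.Etale.Field
import Mathlib.RingTheory.Flat.FaithfullyFlat.Algebra
import Mathlib.RingTheory.Flat.EquationalCriterion

/-!
The colimit of the étale neighbourhoods of a field-valued point: construction of henselizations
and strict henselizations.
-/

open Polynomial IsLocalRing

open scoped TensorProduct

namespace Groth.Agent.Hens

universe u v

variable (R : Type u) [CommRing R] (K : Type u) [Field K] [Algebra R K]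

/-- An étale neighbourhood of the point `Spec K → Spec R`, in coordinates. -/
structure Nbhd : Type u where
  n : ℕ
  J : Ideal (MvPolynomial (Fin n) R)
  etale : Algebra.Etale R (MvPolynomial (Fin n) R ⧸ J)
  σ : (MvPolynomial (Fin n) R ⧸ J) →ₐ[R] K

variable {R K}

namespace Nbhd

variable (i : Nbhd R K)

/-- The coordinate ring. -/
abbrev S : Type u := MvPolynomial (Fin i.n) R ⧸ i.J

instance : Algebra.Etale R i.S := i.etale

/-- The prime under the point. -/
noncomputable def q : Ideal i.S := RingHom.ker i.σ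

instance : i.q.IsPrime := RingHom.ker_isPrime _

/-- The local ring at the point. -/
abbrev G : Type u := Localization.AtPrime i.q

theorem isUnit_σ (y : i.q.primeCompl) : IsUnit (i.σ (y : i.S)) :=
  isUnit_iff_ne_zero.mpr y.2

/-- Evaluation at the point. -/
noncomputable def res : i.G →ₐ[R] K :=
  IsLocalization.liftAlgHom (M := i.q.primeCompl) (f := i.σ) i.isUnit_σ

theorem res_algebraMap (x : i.S) : i.res (algebraMap i.S i.G x) = i.σ x := by
  simp [res]

theorem res_eq_zero_iff (x : i.G) : i.res x = 0 ↔ x ∈ maximalIdeal i.G := by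
  obtain ⟨x, ⟨t, ht⟩, rfl⟩ := IsLocalization.exists_mk'_eq i.q.primeCompl x
  rw [IsLocalization.AtPrime.mk'_mem_maximal_iff _ i.q, res, IsLocalization.coe_liftAlgHom,
    IsLocalization.lift_mk']
  simp [q]

instance : Algebra.FormallyEtale R i.G := by
  have : Algebra.FormallyEtale i.S i.G := Algebra.FormallyEtale.of_isLocalization i.q.primeCompl
  exact Algebra.FormallyEtale.comp R i.S i.G

instance : Algebra.EssFiniteType R i.G := Algebra.EssFiniteType.comp R i.S i.G

instance : Module.Flat R i.G :=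
  have : Module.Flat i.S i.G := IsLocalization.flat i.G i.q.primeCompl
  Module.Flat.trans R i.S i.G

theorem hom_ext {T : Type v} [CommRing T] [Algebra R T] [IsLocalRing T] {φ ψ : i.G →ₐ[R] T}
    (h : ∀ x : i.S, φ (algebraMap _ _ x) - ψ (algebraMap _ _ x) ∈ maximalIdeal T) : φ = ψ := by
  refine IsLocalization.algHom_ext i.q.primeCompl ?_
  exact algHom_ext_of_le_jacobson (A := R) (E := i.S) (maximalIdeal_le_jacobson _) h

variable {i}

theorem map_unique {j : Nbhd R K} {φ ψ : i.G →ₐ[R] j.G} (hφ : j.res.comp φ = i.res)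
    (hψ : j.res.comp ψ = i.res) : φ = ψ :=
  hom_ext i (T := j.G) (φ := φ) (ψ := ψ) (fun x => by
    rw [← res_eq_zero_iff, map_sub, sub_eq_zero]
    exact (congr($hφ _)).trans (congr($hψ _)).symm : ∀ x : i.S, φ (algebraMap i.S i.G x) - ψ (algebraMap i.S i.G x) ∈ maximalIdeal j.G)

instance : Preorder (Nbhd R K) where
  le i j := ∃ φ : i.G →ₐ[R] j.G, j.res.comp φ = i.res
  le_refl i := ⟨AlgHom.id R _, AlgHom.comp_id _⟩
  le_trans i j k := fun ⟨φ, hφ⟩ ⟨ψ, hψ⟩ => ⟨ψ.comp φ, by rw [← AlgHom.comp_assoc, hψ, hφ]⟩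

/-- The transition map. -/
noncomputable def map {j : Nbhd R K} (h : i ≤ j) : i.G →ₐ[R] j.G := h.choose

theorem res_map {j : Nbhd R K} (h : i ≤ j) (x : i.G) : j.res (map h x) = i.res x :=
  congr($(h.choose_spec) x)

theorem map_eq {j : Nbhd R K} (h : i ≤ j) {φ : i.G →ₐ[R] j.G} (hφ : j.res.comp φ = i.res) :
    map h = φ :=
  map_unique h.choose_spec hφ

instance : DirectedSystem (fun i : Nbhd R K => i.G) (fun i j h => ⇑(map (i := i) (j := j) h)) where
  map_self i x := congr($(map_eq (le_refl i) (φ := AlgHom.id R _) (AlgHom.comp_id _)) x)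
  map_map k j i hij hjk x :=
    (congr($(map_eq (hij.trans hjk) (φ := (map hjk).comp (map hij))
      (AlgHom.ext fun z => by simp [res_map])) x)).symm

theorem le_of_algHom {j : Nbhd R K} (ψ : i.S →ₐ[R] j.S) (hψ : j.σ.comp ψ = i.σ) :
    ∃ h : i ≤ j, ∀ x, map h (algebraMap i.S i.G x) = algebraMap j.S j.G (ψ x) := by
  have hu : ∀ y : i.q.primeCompl,
      IsUnit (((IsScalarTower.toAlgHom R j.S j.G).comp ψ) (y : i.S)) := fun ⟨y, hy⟩ =>
    IsLocalization.map_units (M := j.q.primeCompl) j.G ⟨ψ y, fun h => hy (by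
      show i.σ y = 0
      rw [← hψ]; exact h)⟩
  let φ : i.G →ₐ[R] j.G := IsLocalization.liftAlgHom (M := i.q.primeCompl)
    (f := (IsScalarTower.toAlgHom R j.S j.G).comp ψ) hu
  have hφ : j.res.comp φ = i.res := by
    refine IsLocalization.algHom_ext i.q.primeCompl ?_
    ext x
    show j.res (φ (algebraMap i.S i.G x)) = i.res (algebraMap i.S i.G x)
    rw [res_algebraMap, show φ (algebraMap i.S i.G x) = algebraMap j.S j.G (ψ x) from
      IsLocalization.lift_eq _ x, res_algebraMap, ← hψ]
    rfl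
  refine ⟨⟨φ, hφ⟩, fun x => ?_⟩
  rw [map_eq ⟨φ, hφ⟩ hφ]
  simp [φ]

theorem exists_of (E : Type u) [CommRing E] [Algebra R E] [Algebra.Etale R E] (σ : E →ₐ[R] K) :
    ∃ (i : Nbhd R K) (e : E ≃ₐ[R] i.S), ∀ x, i.σ (e x) = σ x := by
  obtain ⟨n, f, hf, hker⟩ := (Algebra.FinitePresentation.out : ∃ (n : ℕ)
    (f : MvPolynomial (Fin n) R →ₐ[R] E), Function.Surjective f ∧ (RingHom.ker f.toRingHom).FG)
  let e := (Ideal.quotientKerAlgEquivOfSurjective (f := f) hf).symm
  exact ⟨⟨n, RingHom.ker f, Algebra.Etale.of_equiv e, σ.comp e.symm.toAlgHom⟩, e,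
    fun x => congrArg σ (e.symm_apply_apply x)⟩

instance : Nonempty (Nbhd R K) :=
  ⟨(exists_of R (Algebra.ofId R K)).choose⟩

instance : IsDirectedOrder (Nbhd R K) where
  directed i j := by
    have : Algebra.Etale R (i.S ⊗[R] j.S) := Algebra.Etale.comp R i.S _
    obtain ⟨k, e, he⟩ := exists_of (i.S ⊗[R] j.S)
      (Algebra.TensorProduct.lift i.σ j.σ fun _ _ => .all _ _)
    refine ⟨k, (le_of_algHom (e.toAlgHom.comp Algebra.TensorProduct.includeLeft) ?_).1,
      (le_of_algHom (e.toAlgHom.comp Algebra.TensorProduct.includeRight) ?_).1⟩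
    · ext x; simp [he]
    · ext x; simp [he]

end Nbhd

variable (R K)

/-- The colimit of all étale neighbourhoods of `Spec K → Spec R`. -/
def Hs : Type u :=
  DirectLimit (fun i : Nbhd R K => i.G) (fun i j h => Nbhd.map (i := i) (j := j) h)

noncomputable instance : CommRing (Hs R K) :=
  inferInstanceAs (CommRing (DirectLimit (fun i : Nbhd R K => i.G)
    (fun i j h => Nbhd.map (i := i) (j := j) h)))

noncomputable instance : Algebra R (Hs R K) :=
  inferInstanceAs (Algebra R (DirectLimit (fun i : Nbhd R K => i.G)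
    (fun i j h => Nbhd.map (i := i) (j := j) h)))

namespace Hs

variable {R K}

/-- The canonical map. -/
noncomputable def of (i : Nbhd R K) : i.G →ₐ[R] Hs R K :=
  DirectLimit.Algebra.of (fun i : Nbhd R K => i.G) (fun i j h => Nbhd.map (i := i) (j := j) h) i

theorem of_map {i j : Nbhd R K} (h : i ≤ j) (x : i.G) : of j (Nbhd.map h x) = of i x :=
  DirectLimit.Algebra.of_f (f := fun i j h => Nbhd.map (i := i) (j := j) h) h x

theorem exists_of (x : Hs R K) : ∃ i y, of i y = x := by
  obtain ⟨i, y, rfl⟩ := DirectLimit.exists_eq_mk _ x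
  exact ⟨i, y, rfl⟩

theorem of_eq_of_iff {i j : Nbhd R K} {x : i.G} {y : j.G} :
    of i x = of j y ↔ ∃ (k : Nbhd R K) (hi : i ≤ k) (hj : j ≤ k), Nbhd.map hi x = Nbhd.map hj y := by
  refine ⟨fun h => ?_, fun ⟨k, hi, hj, h⟩ => by rw [← of_map hi, ← of_map hj, h]⟩
  obtain ⟨k, hi, hj, hk⟩ := Quotient.exact h
  exact ⟨k, hi, hj, hk⟩

theorem exists_of_finset {ι : Type*} (s : Finset ι) (x : ι → Hs R K) :
    ∃ i : Nbhd R K, ∀ a ∈ s, ∃ y, of i y = x a := by
  classical
  induction s using Finset.induction with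
  | empty => exact ⟨Classical.arbitrary _, by simp⟩
  | insert a s _ ih =>
    obtain ⟨i, hi⟩ := ih
    obtain ⟨j, y, hy⟩ := exists_of (x a)
    obtain ⟨k, hik, hjk⟩ := exists_ge_ge i j
    refine ⟨k, fun b hb => ?_⟩
    rcases Finset.mem_insert.mp hb with rfl | hb
    · exact ⟨Nbhd.map hjk y, by rw [of_map, hy]⟩
    · obtain ⟨z, hz⟩ := hi b hb
      exact ⟨Nbhd.map hik z, by rw [of_map, hz]⟩

/-- Evaluation at the point. -/
noncomputable def res : Hs R K →ₐ[R] K :=
  DirectLimit.Algebra.lift (fun i : Nbhd R K => i.G) (fun i j h => Nbhd.map (i := i) (j := j) h)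
    K (fun i => i.res) fun _ _ h x => Nbhd.res_map h x

theorem res_of (i : Nbhd R K) (x : i.G) : res (of i x) = i.res x := rfl

theorem isUnit_iff (x : Hs R K) : IsUnit x ↔ res x ≠ 0 := by
  refine ⟨fun h => (h.map res).ne_zero, fun h => ?_⟩
  obtain ⟨i, y, rfl⟩ := exists_of x
  rw [res_of, ne_eq, Nbhd.res_eq_zero_iff, mem_maximalIdeal, mem_nonunits_iff, not_not] at h
  exact h.map _

instance : IsLocalRing (Hs R K) :=
  have : Nontrivial (Hs R K) := (res (R := R) (K := K)).toRingHom.domain_nontrivial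
  IsLocalRing.of_nonunits_add fun {a b} ha hb => by
    simp only [mem_nonunits_iff, isUnit_iff, not_not, map_add] at *
    rw [ha, hb, add_zero]

theorem res_eq_zero_iff (x : Hs R K) : res x = 0 ↔ x ∈ maximalIdeal (Hs R K) := by
  rw [mem_maximalIdeal, mem_nonunits_iff, isUnit_iff, not_not]

theorem isUnit_mk_maximalIdeal {x : Hs R K} (h : res x ≠ 0) : IsUnit x := (isUnit_iff x).mpr h

/-- Elements of `G i` come from a standard open of `S i`. -/
theorem exists_away (i : Nbhd R K) {ι : Type*} (s : Finset ι) (x : ι → i.G) :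
    ∃ (g : i.S) (hg : i.σ g ≠ 0), ∀ a ∈ s, ∃ y : Localization.Away g,
      IsLocalization.Away.lift g (S := Localization.Away g)
        (IsLocalization.map_units (M := i.q.primeCompl) i.G ⟨g, hg⟩) y = x a := by
  obtain ⟨⟨g, hg⟩, h⟩ := IsLocalization.exist_integer_multiples i.q.primeCompl s x
  refine ⟨g, hg, fun a ha => ?_⟩
  obtain ⟨z, hz⟩ := h a ha
  refine ⟨IsLocalization.mk' _ z (⟨g, 1, pow_one g⟩ : Submonoid.powers g), ?_⟩
  have hu := IsLocalization.map_units (M := i.q.primeCompl) i.G ⟨g, hg⟩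
  refine hu.mul_left_cancel ?_
  have h1 : algebraMap i.S (Localization.Away g) g *
      IsLocalization.mk' _ z (⟨g, 1, pow_one g⟩ : Submonoid.powers g) = algebraMap i.S _ z :=
    IsLocalization.mk'_spec' (Localization.Away g) z (⟨g, 1, pow_one g⟩ : Submonoid.powers g)
  rw [← IsLocalization.Away.lift_eq g (S := Localization.Away g) hu g, ← map_mul, h1,
    IsLocalization.Away.lift_eq, IsLocalization.Away.lift_eq, hz, Algebra.smul_def]

/-- The map to the colimit from a standard open neighbourhood of the point. -/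
noncomputable def awayToHs (i : Nbhd R K) (g : i.S) (hg : i.σ g ≠ 0) :
    Localization.Away g →+* Hs R K :=
  (of i).toRingHom.comp (IsLocalization.Away.lift g (g := algebraMap i.S i.G)
    (IsLocalization.map_units (M := i.q.primeCompl) i.G ⟨g, hg⟩))

theorem awayToHs_apply (i : Nbhd R K) (g : i.S) (hg : i.σ g ≠ 0) (z : Localization.Away g) :
    awayToHs i g hg z = of i (IsLocalization.Away.lift g (g := algebraMap i.S i.G)
      (IsLocalization.map_units (M := i.q.primeCompl) i.G ⟨g, hg⟩) z) :=
  rfl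

theorem awayToHs_algebraMap (i : Nbhd R K) (g : i.S) (hg : i.σ g ≠ 0) (x : i.S) :
    awayToHs i g hg (algebraMap i.S _ x) = of i (algebraMap i.S i.G x) := by
  rw [awayToHs_apply, IsLocalization.Away.lift_eq]

/-- A monic polynomial over the colimit comes from a standard open neighbourhood. -/
theorem exists_away_monic (f : (Hs R K)[X]) (hf : f.Monic) :
    ∃ (i : Nbhd R K) (g : i.S) (hg : i.σ g ≠ 0) (f' : (Localization.Away g)[X]),
      f'.Monic ∧ f'.map (awayToHs i g hg) = f := by
  classical
  obtain ⟨i, hi⟩ := exists_of_finset (Finset.range f.natDegree) fun k => f.coeff k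
  choose y hy using hi
  obtain ⟨g, hg, hgy⟩ := exists_away i (Finset.range f.natDegree).attach fun k => y k.1 k.2
  choose z hz using hgy
  have hl : f ∈ lifts (awayToHs i g hg) := by
    refine (lifts_iff_coeff_lifts f).mpr fun k => ?_
    rcases lt_trichotomy k f.natDegree with hk | hk | hk
    · refine ⟨z ⟨k, Finset.mem_range.mpr hk⟩ (Finset.mem_attach _ _), ?_⟩
      rw [awayToHs_apply, hz, hy]
    · exact ⟨1, by rw [map_one, hk, hf.coeff_natDegree]⟩
    · exact ⟨0, by rw [map_zero, coeff_eq_zero_of_natDegree_lt hk]⟩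
  obtain ⟨f', hf', -, hm⟩ := lifts_and_degree_eq_and_monic hl hf
  exact ⟨i, g, hg, f', hm, hf'⟩

/-- A residually simple root lifts. -/
theorem exists_root (f : (Hs R K)[X]) (hf : f.Monic) (b : K)
    (h₀ : (f.map (res : Hs R K →ₐ[R] K).toRingHom).eval b = 0)
    (h₁ : ((f.map (res : Hs R K →ₐ[R] K).toRingHom).derivative).eval b ≠ 0) :
    ∃ a, f.IsRoot a ∧ res a = b := by
  obtain ⟨i, g, hg, f', hf', hmap⟩ := exists_away_monic f hf
  set A := Localization.Away g
  let toH : A →+* Hs R K := awayToHs i g hg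
  let σA : A →ₐ[R] K := IsLocalization.Away.liftAlgHom g (f := i.σ) (isUnit_iff_ne_zero.mpr hg)
  have hσA : σA.toRingHom = (res : Hs R K →ₐ[R] K).toRingHom.comp toH := by
    refine IsLocalization.ringHom_ext (Submonoid.powers g) (RingHom.ext fun x => ?_)
    show σA (algebraMap i.S A x) = res (awayToHs i g hg (algebraMap i.S A x))
    rw [awayToHs_algebraMap, res_of, Nbhd.res_algebraMap]
    exact IsLocalization.Away.lift_eq (S := A) g (g := i.σ.toRingHom) (isUnit_iff_ne_zero.mpr hg) x
  let _ : Algebra A K := σA.toRingHom.toAlgebra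
  have : IsScalarTower R A K := IsScalarTower.of_algebraMap_eq fun r => (σA.commutes r).symm
  let P : StandardEtalePair A := ⟨f', hf', derivative f', 1, 0, 1, by simp⟩
  have hfK : f'.map (algebraMap A K) = f.map (res : Hs R K →ₐ[R] K).toRingHom := by
    rw [show algebraMap A K = (res : Hs R K →ₐ[R] K).toRingHom.comp toH from hσA,
      ← Polynomial.map_map, hmap]
  have hP : P.HasMap b := by
    refine ⟨?_, isUnit_iff_ne_zero.mpr ?_⟩
    · rw [aeval_def, ← eval_map, hfK]; exact h₀
    · rw [aeval_def, ← eval_map, ← derivative_map, hfK]; exact h₁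
  let _ : Algebra R P.Ring := ((algebraMap A P.Ring).comp (algebraMap R A)).toAlgebra
  have : IsScalarTower R A P.Ring := IsScalarTower.of_algebraMap_eq' rfl
  have : Algebra.Etale R A := by
    have := Algebra.Etale.of_isLocalizationAway (R := i.S) (A := A) g
    exact Algebra.Etale.comp R i.S A
  have : Algebra.Etale R P.Ring := Algebra.Etale.comp R A P.Ring
  let σE : P.Ring →ₐ[R] K := (P.lift b hP).restrictScalars R
  obtain ⟨j, e, he⟩ := Nbhd.exists_of P.Ring σE
  let ψ : i.S →ₐ[R] j.S := e.toAlgHom.comp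
    ((IsScalarTower.toAlgHom R A P.Ring).comp (IsScalarTower.toAlgHom R i.S A))
  obtain ⟨hij, hij'⟩ := Nbhd.le_of_algHom ψ (by
    ext x
    show j.σ (e (algebraMap A P.Ring (algebraMap i.S A x))) = i.σ x
    rw [he]
    show P.lift b hP (algebraMap A P.Ring _) = _
    rw [AlgHom.commutes]
    show σA (algebraMap i.S A x) = i.σ x
    exact IsLocalization.Away.lift_eq (S := A) g (g := i.σ.toRingHom) (isUnit_iff_ne_zero.mpr hg) x)
  let toH' : P.Ring →+* Hs R K :=
    (of j).toRingHom.comp ((algebraMap j.S j.G).comp e.toRingHom)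
  have hcomp : toH'.comp (algebraMap A P.Ring) = toH := by
    refine IsLocalization.ringHom_ext (Submonoid.powers g) (RingHom.ext fun x => ?_)
    show of j (algebraMap j.S j.G (ψ x)) = awayToHs i g hg (algebraMap i.S A x)
    rw [awayToHs_algebraMap, ← hij', of_map]
  refine ⟨toH' P.X, ?_, ?_⟩
  · have h2 : aeval P.X P.f = 0 := P.hasMap_X.1
    rw [aeval_def] at h2
    have h3 := congrArg toH' h2
    rw [hom_eval₂, map_zero, hcomp, ← eval_map, hmap] at h3
    exact h3
  · show res (of j (algebraMap j.S j.G (e P.X))) = b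
    rw [res_of, Nbhd.res_algebraMap, he]
    exact StandardEtalePair.lift_X P b hP

instance : HenselianLocalRing (Hs R K) where
  is_henselian f hf a₀ h₀ h₁ := by
    obtain ⟨a, ha, ha'⟩ := exists_root f hf (res a₀)
      (by
        rw [eval_map]
        show eval₂ _ ((res : Hs R K →ₐ[R] K).toRingHom a₀) f = 0
        rw [eval₂_at_apply]
        exact (res_eq_zero_iff _).mpr h₀)
      (by
        rw [derivative_map, eval_map]
        show eval₂ _ ((res : Hs R K →ₐ[R] K).toRingHom a₀) _ ≠ 0
        rw [eval₂_at_apply]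
        exact (isUnit_iff _).mp h₁)
    exact ⟨a, ha, by rw [← res_eq_zero_iff, map_sub, ha', sub_self]⟩

instance : Module.Flat R (Hs R K) := by
  refine Module.Flat.iff_forall_isTrivialRelation.mpr ?_
  intro l c x hx
  obtain ⟨i, hi⟩ := exists_of_finset Finset.univ x
  choose y hy using hi
  have h0 : of i (∑ a, c a • y a (Finset.mem_univ a)) = of i 0 := by
    rw [map_sum, map_zero, ← hx]
    simp only [map_smul, hy]
  obtain ⟨k, hik, hik', hk⟩ := of_eq_of_iff.mp h0
  rw [map_zero, map_sum] at hk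
  simp only [map_smul] at hk
  obtain ⟨m, α, w, hw, hα⟩ := (Module.Flat.iff_forall_isTrivialRelation (R := R) (M := k.G)).mp
    inferInstance (f := c) (x := fun a => Nbhd.map hik (y a (Finset.mem_univ a))) hk
  refine ⟨m, α, fun a => of k (w a), fun a => ?_, hα⟩
  have h2 := congrArg (of k) (hw a)
  rw [of_map, hy, map_sum] at h2
  simpa only [map_smul] using h2

section Local

variable [IsLocalRing R] [Algebra (ResidueField R) K] [IsScalarTower R (ResidueField R) K]

theorem algebraMap_eq_zero_iff_mem (r : R) : algebraMap R K r = 0 ↔ r ∈ maximalIdeal R := by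
  rw [IsScalarTower.algebraMap_apply R (ResidueField R) K, map_eq_zero,
    IsLocalRing.ResidueField.algebraMap_eq, residue_eq_zero_iff]

instance (i : Nbhd R K) : IsLocalHom (algebraMap R i.G) where
  map_nonunit r hr := by
    have h := (hr.map i.res).ne_zero
    rw [AlgHom.commutes] at h
    by_contra hn
    exact h ((algebraMap_eq_zero_iff_mem r).mpr hn)

instance : IsLocalHom (algebraMap R (Hs R K)) where
  map_nonunit r hr := by
    rw [isUnit_iff, AlgHom.commutes] at hr
    by_contra hn
    exact hr ((algebraMap_eq_zero_iff_mem r).mpr hn)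

theorem map_maximalIdeal :
    (maximalIdeal R).map (algebraMap R (Hs R K)) = maximalIdeal (Hs R K) := by
  refine le_antisymm (((local_hom_TFAE (algebraMap R (Hs R K))).out 0 2 rfl rfl).mp inferInstance)
    fun x hx => ?_
  obtain ⟨i, y, rfl⟩ := exists_of x
  rw [← res_eq_zero_iff, res_of, Nbhd.res_eq_zero_iff] at hx
  have := Ideal.mem_map_of_mem (of i).toRingHom
    ((Algebra.FormallyUnramified.map_maximalIdeal (R := R) (S := i.G)).ge hx)
  rwa [Ideal.map_map, AlgHom.toRingHom_eq_coe, AlgHom.comp_algebraMap] at this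

instance : Module.FaithfullyFlat R (Hs R K) := Module.FaithfullyFlat.of_flat_of_isLocalHom

/-- Every separable element of `K` over the residue field is a residue. -/
theorem exists_res_eq [Algebra.IsSeparable (ResidueField R) K] (b : K) :
    ∃ a : Hs R K, res a = b := by
  have hb : IsIntegral (ResidueField R) b := Algebra.IsSeparable.isIntegral _ b
  obtain ⟨f, hfmap, -, hf⟩ := lifts_and_degree_eq_and_monic
    (mem_lifts_of_surjective residue_surjective (minpoly (ResidueField R) b)) (minpoly.monic hb)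
  have hcomp : (res : Hs R K →ₐ[R] K).toRingHom.comp (algebraMap R (Hs R K)) =
      (algebraMap (ResidueField R) K).comp (residue R) := by
    rw [AlgHom.toRingHom_eq_coe, AlgHom.comp_algebraMap, ← IsLocalRing.ResidueField.algebraMap_eq,
      ← IsScalarTower.algebraMap_eq]
  obtain ⟨a, -, ha⟩ := exists_root (f.map (algebraMap R (Hs R K))) (hf.map _) b
    (by rw [Polynomial.map_map, hcomp, ← Polynomial.map_map, hfmap, eval_map, ← aeval_def,
      minpoly.aeval])
    (by
      rw [Polynomial.map_map, hcomp, ← Polynomial.map_map, hfmap, derivative_map, eval_map,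
        ← aeval_def]
      exact (Algebra.IsSeparable.isSeparable (ResidueField R) b).aeval_derivative_ne_zero
        (minpoly.aeval _ _))
  exact ⟨a, ha⟩

end Local

/-- Universal property of the colimit. -/
theorem existsUnique_lift (T : Type v) [CommRing T] [HenselianLocalRing T] [Algebra R T]
    (τ : K →ₐ[R] ResidueField T) :
    ∃! g : Hs R K →ₐ[R] T, ∀ x, residue T (g x) = τ (res x) := by
  have key : ∀ i : Nbhd R K, ∃ φ : i.G →ₐ[R] T, ∀ x, residue T (φ x) = τ (i.res x) := by
    intro i
    obtain ⟨φ₀, hφ₀, -⟩ := existsUnique_algHom_lift (henselianRing_maximalIdeal T) (τ.comp i.σ)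
    have hφ₀' : ∀ x, residue T (φ₀ x) = τ (i.σ x) := fun x => congr($hφ₀ x)
    have hu : ∀ y : i.q.primeCompl, IsUnit (φ₀ (y : i.S)) := fun y => by
      rw [← residue_ne_zero_iff_isUnit, hφ₀']
      exact ((i.isUnit_σ y).map τ).ne_zero
    let φ : i.G →ₐ[R] T := IsLocalization.liftAlgHom (M := i.q.primeCompl) (f := φ₀) hu
    refine ⟨φ, fun x => ?_⟩
    have : ((IsScalarTower.toAlgHom R T (ResidueField T)).comp φ) = τ.comp i.res := by
      refine IsLocalization.algHom_ext i.q.primeCompl ?_
      ext z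
      show residue T (φ (algebraMap i.S i.G z)) = τ (i.res (algebraMap i.S i.G z))
      rw [Nbhd.res_algebraMap, show φ (algebraMap i.S i.G z) = φ₀ z from IsLocalization.lift_eq _ z]
      exact hφ₀' z
    exact congr($this x)
  choose φ hφ using key
  let g : Hs R K →ₐ[R] T := DirectLimit.Algebra.lift (fun i : Nbhd R K => i.G)
    (fun i j h => Nbhd.map (i := i) (j := j) h) T φ (fun i j h x => by
      have : (φ j).comp (Nbhd.map h) = φ i := i.hom_ext fun z => by
        rw [← residue_eq_zero_iff, map_sub, AlgHom.comp_apply, hφ, hφ, Nbhd.res_map, sub_self]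
      exact congr($this x))
  refine ⟨g, fun x => ?_, fun g' hg' => ?_⟩
  · obtain ⟨i, y, rfl⟩ := exists_of x
    exact hφ i y
  · refine AlgHom.ext fun x => ?_
    obtain ⟨i, y, rfl⟩ := exists_of x
    have : g'.comp (of i) = g.comp (of i) := i.hom_ext fun z => by
      rw [← residue_eq_zero_iff, map_sub, AlgHom.comp_apply, hg', AlgHom.comp_apply,
        show g (of i (algebraMap i.S i.G z)) = φ i (algebraMap i.S i.G z) from rfl, hφ, res_of,
        sub_self]
    exact congr($this y)

end Hs

end Groth.Agent.Hens
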