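import Groth.Agent.Lib.Hens.Root
import Mathlib.RingTheory.ZariskisMainTheorem
import Mathlib.RingTheory.Etale.Basic
import Mathlib.RingTheory.Etale.StandardEtale
import Mathlib.RingTheory.Ideal.Pure
import Mathlib.RingTheory.Unramified.LocalStructure

/-!
Etale lifting over a pair with root lifting.
-/

open Polynomial

namespace Groth.Agent.Hens

universe u v w

variable {A : Type u} [CommRing A] {I : Ideal A}

/-- An ideal `J ≤ jacobson ⊥` with étale quotient is zero. -/
theorem eq_bot_of_etale_quotient {J : Ideal A} (hJ : J ≤ Ideal.jacobson ⊥)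
    [Algebra.Etale A (A ⧸ J)] : J = ⊥ := by
  have hfg : J.FG := by
    have := Algebra.FinitePresentation.ker_fG_of_surjective (Ideal.Quotient.mkₐ A J)
      Ideal.Quotient.mk_surjective
    rwa [show RingHom.ker (Ideal.Quotient.mkₐ A J).toRingHom = J from Ideal.mk_ker] at this
  have : J.Pure := (inferInstance : Module.Flat A (A ⧸ J))
  refine Submodule.eq_bot_of_le_smul_of_le_jacobson_bot J J hfg ?_ hJ
  rw [Ideal.smul_eq_mul, (Ideal.isIdempotentElem_of_pure J).eq]

/-- The ideal of a section of a formally unramified algebra is idempotent modulo `I`. -/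
theorem ker_le_sq_of_formallyUnramified {B : Type v} [CommRing B] [Algebra A B]
    [Algebra.FormallyUnramified A B] (σ : B →ₐ[A] A ⧸ I) :
    RingHom.ker σ ≤ RingHom.ker σ * RingHom.ker σ ⊔ I.map (algebraMap A B) := by
  set K : Ideal B := RingHom.ker σ
  set M : Ideal B := K * K ⊔ I.map (algebraMap A B)
  have hIK : I.map (algebraMap A B) ≤ K := by
    rw [Ideal.map_le_iff_le_comap]
    intro a ha
    simp only [K, Ideal.mem_comap, RingHom.mem_ker, AlgHom.commutes]
    exact Ideal.Quotient.eq_zero_iff_mem.mpr ha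
  let ρ : A ⧸ I →ₐ[A] B ⧸ M := Ideal.Quotient.liftₐ I (Algebra.ofId A (B ⧸ M)) fun a ha => by
    show algebraMap A (B ⧸ M) a = 0
    rw [IsScalarTower.algebraMap_apply A B (B ⧸ M), Ideal.Quotient.algebraMap_eq,
      Ideal.Quotient.eq_zero_iff_mem]
    exact Ideal.mem_sup_right (Ideal.mem_map_of_mem _ ha)
  let Q : Ideal (B ⧸ M) := K.map (Ideal.Quotient.mk M)
  have hQ : Q ^ 2 = ⊥ := by
    rw [eq_bot_iff, sq, ← Ideal.map_mul, Ideal.map_le_iff_le_comap]
    intro x hx
    rw [Ideal.mem_comap, Ideal.mem_bot, Ideal.Quotient.eq_zero_iff_mem]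
    exact Ideal.mem_sup_left hx
  have heq : Ideal.Quotient.mkₐ A M = ρ.comp σ := by
    apply Algebra.FormallyUnramified.comp_injective Q hQ
    ext x
    obtain ⟨a, ha⟩ := Ideal.Quotient.mk_surjective (σ x)
    have hxK : x - algebraMap A B a ∈ K := by simp [K, ← ha]
    have h1 : ρ (σ x) = algebraMap A (B ⧸ M) a := by rw [← ha]; rfl
    simp only [AlgHom.comp_apply, Ideal.Quotient.mkₐ_eq_mk, h1,
      IsScalarTower.algebraMap_apply A B (B ⧸ M), Ideal.Quotient.algebraMap_eq]
    rw [← sub_eq_zero, ← map_sub, ← map_sub, Ideal.Quotient.eq_zero_iff_mem]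
    exact Ideal.mem_map_of_mem _ hxK
  intro x hx
  have h := congr($heq x)
  simp only [AlgHom.comp_apply, Ideal.Quotient.mkₐ_eq_mk, RingHom.mem_ker.mp hx, map_zero] at h
  exact Ideal.Quotient.eq_zero_iff_mem.mp h

/-- If finitely many elements of a ring generate the unit ideal, and `x` is killed by a power
of each, then `x = 0`. -/
theorem eq_zero_of_span_eq_top {C : Type v} [CommRing C] {ι : Type*} (g : ι → C)
    (hg : Ideal.span (Set.range g) = ⊤) {x : C} (h : ∀ i, ∃ n : ℕ, g i ^ n * x = 0) : x = 0 := by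
  let J : Ideal C := (Submodule.span C {x}).annihilator
  have : J.radical = ⊤ := by
    rw [eq_top_iff, ← hg, Ideal.span_le]
    rintro _ ⟨i, rfl⟩
    obtain ⟨n, hn⟩ := h i
    exact ⟨n, by simpa [J, Submodule.mem_annihilator_span_singleton] using hn⟩
  have h1 : (1 : C) ∈ J := by
    rw [Ideal.radical_eq_top] at this
    simp [this]
  simpa [J, Submodule.mem_annihilator_span_singleton] using h1

/-- A ring map is surjective if every element has, locally on a unit family of the source,
a multiple in the range. -/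
theorem surjective_of_span_eq_top {C : Type v} {D : Type w} [CommRing C] [CommRing D] (f : C →+* D)
    {ι : Type*} (g : ι → C) (hg : Ideal.span (Set.range g) = ⊤)
    (h : ∀ i y, ∃ n : ℕ, f (g i) ^ n * y ∈ f.range) : Function.Surjective f := by
  intro y
  let J : Ideal C :=
    { carrier := {c | f c * y ∈ f.range}
      add_mem' := fun {a b} ha hb => by
        simp only [Set.mem_setOf_eq] at ha hb ⊢
        rw [map_add, add_mul]; exact add_mem ha hb
      zero_mem' := ⟨0, by simp⟩
      smul_mem' := fun c {a} ha => by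
        simp only [Set.mem_setOf_eq, smul_eq_mul, map_mul, mul_assoc] at ha ⊢
        exact mul_mem ⟨c, rfl⟩ ha }
  have : J.radical = ⊤ := by
    rw [eq_top_iff, ← hg, Ideal.span_le]
    rintro _ ⟨i, rfl⟩
    obtain ⟨n, hn⟩ := h i y
    exact ⟨n, by show f (g i ^ n) * y ∈ f.range; rwa [map_pow]⟩
  have h1 : (1 : C) ∈ J := by
    rw [Ideal.radical_eq_top] at this
    simp [this]
  simpa [J] using h1

variable (I) in
/-- Sections modulo `I` of étale algebras lift. -/
def EtaleLift : Prop :=
  ∀ (E : Type u) [CommRing E] [Algebra A E] [Algebra.Etale A E] (σ : E →ₐ[A] A ⧸ I),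
    ∃ τ : E →ₐ[A] A, (Ideal.Quotient.mkₐ A I).comp τ = σ

/-- Lifting a section of an étale algebra that is locally a finite algebra. -/
theorem RootPair.exists_lift_of_locally_finite (hP : RootPair I) {B : Type v} {E : Type w}
    [CommRing B] [CommRing E] [Algebra A B] [Algebra A E] [Algebra.Etale A E] [Module.Finite A B]
    (φ : B →ₐ[A] E) {ι : Type*} (g : ι → B)
    (hg : ∀ i, Function.Bijective (Localization.awayMap φ.toRingHom (g i)))
    (σ : E →ₐ[A] A ⧸ I) (hspan : Ideal.span (Set.range fun i => σ (φ (g i))) = ⊤) :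
    ∃ τ : E →ₐ[A] A, (Ideal.Quotient.mkₐ A I).comp τ = σ := by
  classical
  have hsur : ∀ i (y : E), ∃ (n : ℕ) (b : B), φ (g i) ^ n * y = φ b := by
    intro i y
    obtain ⟨z, hz⟩ := (hg i).2 (algebraMap E _ y)
    obtain ⟨b, ⟨_, n, rfl⟩, rfl⟩ := IsLocalization.exists_mk'_eq (.powers (g i)) z
    rw [Localization.awayMap, IsLocalization.Away.map, IsLocalization.map_mk',
      IsLocalization.mk'_eq_iff_eq_mul, ← map_mul,
      IsLocalization.eq_iff_exists (.powers (φ.toRingHom (g i)))] at hz
    obtain ⟨⟨_, m, rfl⟩, hm⟩ := hz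
    refine ⟨m + n, g i ^ m * b, ?_⟩
    simp only [AlgHom.toRingHom_eq_coe, RingHom.coe_coe] at hm
    simp only [map_mul, map_pow] at hm ⊢
    linear_combination -hm
  have hinj : ∀ i (b : B), φ b = 0 → ∃ n : ℕ, g i ^ n * b = 0 := by
    intro i b hb
    have : Localization.awayMap φ.toRingHom (g i) (algebraMap B _ b) = 0 := by
      simp [Localization.awayMap, IsLocalization.Away.map, IsLocalization.map_eq, hb]
    rw [← map_zero (Localization.awayMap φ.toRingHom (g i)), (hg i).1.eq_iff,
      IsLocalization.map_eq_zero_iff (.powers (g i))] at this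
    obtain ⟨⟨_, n, rfl⟩, hn⟩ := this
    exact ⟨n, hn⟩
  -- the kernel of the composite section is idempotent modulo `I`
  let s : B →ₐ[A] A ⧸ I := σ.comp φ
  have hK : RingHom.ker s ≤ RingHom.ker s * RingHom.ker s ⊔ I.map (algebraMap A B) := by
    intro x hx
    let M : Ideal B := RingHom.ker s * RingHom.ker s ⊔ I.map (algebraMap A B)
    have hloc : ∀ i, ∃ n : ℕ, g i ^ n * x ∈ M := by
      intro i
      have key : ∀ y ∈ RingHom.ker σ * RingHom.ker σ ⊔ I.map (algebraMap A E),
          ∃ (n : ℕ) (b : B), b ∈ M ∧ φ (g i) ^ n * y = φ b := by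
        intro y hy
        let N : Submodule E E :=
          { carrier := {y | ∀ z : E, ∃ (n : ℕ) (b : B), b ∈ M ∧ φ (g i) ^ n * (z * y) = φ b}
            add_mem' := fun {a b} ha hb z => by
              obtain ⟨n, c, hc, hc'⟩ := ha z
              obtain ⟨m, d, hd, hd'⟩ := hb z
              refine ⟨n + m, g i ^ m * c + g i ^ n * d,
                add_mem (M.mul_mem_left _ hc) (M.mul_mem_left _ hd), ?_⟩
              simp only [map_add, map_mul, map_pow, ← hc', ← hd']; ring
            zero_mem' := fun z => ⟨0, 0, M.zero_mem, by simp⟩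
            smul_mem' := fun c a ha z => by
              obtain ⟨n, d, hd, hd'⟩ := ha (z * c)
              exact ⟨n, d, hd, by rw [smul_eq_mul, ← mul_assoc z c a]; exact hd'⟩ }
        have hN : RingHom.ker σ * RingHom.ker σ ⊔ I.map (algebraMap A E) ≤ N := by
          refine sup_le ?_ ?_
          · rw [Ideal.mul_le]
            intro a ha b hb z
            obtain ⟨n₁, a', ha'⟩ := hsur i (z * a)
            obtain ⟨n₂, b', hb'⟩ := hsur i b
            refine ⟨n₁ + n₂, a' * b', Ideal.mem_sup_left (Ideal.mul_mem_mul ?_ ?_), ?_⟩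
            · show σ (φ a') = 0
              rw [← ha']; simp [RingHom.mem_ker.mp ha]
            · show σ (φ b') = 0
              rw [← hb']; simp [RingHom.mem_ker.mp hb]
            · rw [map_mul, ← ha', ← hb']; ring
          · rw [Ideal.map_le_iff_le_comap]
            intro a ha z
            obtain ⟨n, b, hb⟩ := hsur i z
            refine ⟨n, b * algebraMap A B a,
              Ideal.mem_sup_right (Ideal.mul_mem_left _ _ (Ideal.mem_map_of_mem _ ha)), ?_⟩
            rw [map_mul, ← hb, AlgHom.commutes]; ring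
        obtain ⟨n, b, hb, hb'⟩ := hN hy 1
        exact ⟨n, b, hb, by rwa [one_mul] at hb'⟩
      obtain ⟨n, b, hb, hb'⟩ := key (φ x) (ker_le_sq_of_formallyUnramified σ hx)
      have : φ (g i ^ n * x - b) = 0 := by simp [hb']
      obtain ⟨m, hm⟩ := hinj i _ this
      refine ⟨m + n, ?_⟩
      have : g i ^ (m + n) * x = g i ^ m * b := by linear_combination hm
      rw [this]
      exact M.mul_mem_left _ hb
    -- `x` is killed locally modulo `M`, and the family is a unit family modulo `ker s`
    let J : Ideal B := (M.colon {x})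
    have hJ : ∀ i, g i ∈ J.radical := fun i => by
      obtain ⟨n, hn⟩ := hloc i
      exact ⟨n, Submodule.mem_colon_singleton.mpr (by simpa [mul_comm] using hn)⟩
    have hsurj : Function.Surjective s := fun y => by
      obtain ⟨a, rfl⟩ := Ideal.Quotient.mk_surjective y
      exact ⟨algebraMap A B a, s.commutes a⟩
    have hker : RingHom.ker s ≤ J := by
      intro k hk
      refine Submodule.mem_colon_singleton.mpr ?_
      simp only [smul_eq_mul]
      exact Ideal.mem_sup_left (Ideal.mul_mem_mul hk hx)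
    have hmap : (J.radical).map s = ⊤ := by
      rw [eq_top_iff, ← hspan, Ideal.span_le]
      rintro _ ⟨i, rfl⟩
      exact Ideal.mem_map_of_mem s (hJ i)
    have htop : J.radical = ⊤ := by
      have h := congrArg (Ideal.comap s) hmap
      rw [Ideal.comap_map_of_surjective' _ hsurj, Ideal.comap_top,
        sup_eq_left.mpr (hker.trans Ideal.le_radical)] at h
      exact h
    rw [Ideal.radical_eq_top] at htop
    have : (1 : B) ∈ J := by simp [htop]
    simpa using Submodule.mem_colon_singleton.mp this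
  obtain ⟨e, he, hse, hcyc⟩ := hP.exists_idempotent_of_section s hK
  let C := B ⧸ Ideal.span {1 - e}
  have hπ : Function.Surjective (algebraMap A C) := by
    intro c
    obtain ⟨b, rfl⟩ := Ideal.Quotient.mk_surjective c
    obtain ⟨a, ha⟩ := hcyc b
    refine ⟨a, ?_⟩
    rw [IsScalarTower.algebraMap_apply A B C, Ideal.Quotient.algebraMap_eq, Ideal.Quotient.eq,
      Ideal.mem_span_singleton']
    exact ⟨algebraMap A B a - b, by linear_combination ha⟩
  have hker : ∀ a, algebraMap A C a = 0 → a ∈ I := by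
    intro a ha
    rw [IsScalarTower.algebraMap_apply A B C, Ideal.Quotient.algebraMap_eq,
      Ideal.Quotient.eq_zero_iff_mem, Ideal.mem_span_singleton'] at ha
    obtain ⟨y, hy⟩ := ha
    have := congrArg s hy
    rw [map_mul, map_sub, map_one, hse, sub_self, mul_zero, AlgHom.commutes] at this
    exact Ideal.Quotient.eq_zero_iff_mem.mp this.symm
  let D := E ⧸ Ideal.span {φ (1 - e)}
  let f : C →ₐ[A] D := Ideal.Quotient.liftₐ _ ((Ideal.Quotient.mkₐ A _).comp φ) fun a ha => by
    obtain ⟨y, rfl⟩ := Ideal.mem_span_singleton'.mp ha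
    simp only [AlgHom.comp_apply, map_mul]
    rw [Ideal.Quotient.mkₐ_eq_mk, Ideal.Quotient.eq_zero_iff_mem.mpr
      (Ideal.mem_span_singleton_self (φ (1 - e))), mul_zero]
  have hfmk : ∀ b : B, f (Ideal.Quotient.mk _ b) = Ideal.Quotient.mk _ (φ b) := fun b => rfl
  let gC : ι → C := fun i => Ideal.Quotient.mk _ (g i)
  let sC : C →+* A ⧸ I := Ideal.Quotient.lift _ s.toRingHom fun a ha => by
    obtain ⟨y, rfl⟩ := Ideal.mem_span_singleton'.mp ha
    simp [hse]
  have hsC : ∀ c, sC c = 0 → c ∈ (I.map (algebraMap A C)) := by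
    intro c hc
    obtain ⟨a, rfl⟩ := hπ c
    refine Ideal.mem_map_of_mem _ ?_
    rw [← Ideal.Quotient.eq_zero_iff_mem, ← hc]
    exact (s.commutes a).symm
  have hgC : Ideal.span (Set.range gC) = ⊤ := by
    by_contra hne
    obtain ⟨m, hm, hle⟩ := Ideal.exists_le_maximal _ hne
    have hI' : I.map (algebraMap A C) ≤ m := by
      have : (m.comap (algebraMap A C)).IsMaximal := Ideal.comap_isMaximal_of_surjective _ hπ
      rw [Ideal.map_le_iff_le_comap]
      exact hP.jac.trans (sInf_le ⟨bot_le, this⟩)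
    have hs' : Function.Surjective sC := fun y => by
      obtain ⟨a, rfl⟩ := Ideal.Quotient.mk_surjective y
      exact ⟨algebraMap A C a, s.commutes a⟩
    have h1 : m.map sC = ⊤ := by
      rw [eq_top_iff, ← hspan, Ideal.span_le]
      rintro _ ⟨i, rfl⟩
      exact Ideal.mem_map_of_mem sC (hle (Ideal.subset_span ⟨i, rfl⟩))
    have h2 := congrArg (Ideal.comap sC) h1
    rw [Ideal.comap_map_of_surjective' _ hs', Ideal.comap_top,
      sup_eq_left.mpr (fun c hc => hI' (hsC c (RingHom.mem_ker.mp hc)))] at h2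
    exact hm.ne_top h2
  have hf : Function.Bijective f := by
    constructor
    · rw [injective_iff_map_eq_zero]
      intro c hc
      obtain ⟨b, rfl⟩ := Ideal.Quotient.mk_surjective c
      rw [hfmk, Ideal.Quotient.eq_zero_iff_mem, Ideal.mem_span_singleton'] at hc
      obtain ⟨y, hy⟩ := hc
      refine eq_zero_of_span_eq_top gC hgC fun i => ?_
      obtain ⟨n, z, hz⟩ := hsur i y
      obtain ⟨m, hm⟩ := hinj i (g i ^ n * b - z * (1 - e))
        (by rw [map_sub, map_mul, map_mul, map_pow, ← hz, ← hy]; ring)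
      refine ⟨m + n, ?_⟩
      show Ideal.Quotient.mk _ (g i) ^ (m + n) * Ideal.Quotient.mk _ b = 0
      rw [← map_pow, ← map_mul, Ideal.Quotient.eq_zero_iff_mem, Ideal.mem_span_singleton']
      exact ⟨g i ^ m * z, by linear_combination -hm⟩
    · refine surjective_of_span_eq_top f.toRingHom gC hgC fun i y => ?_
      obtain ⟨y, rfl⟩ := Ideal.Quotient.mk_surjective y
      obtain ⟨n, b, hb⟩ := hsur i y
      refine ⟨n, Ideal.Quotient.mk _ b, ?_⟩
      show f _ = f (gC i) ^ n * _
      rw [hfmk, hfmk, ← map_pow, ← map_mul, hb]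
  let eD : C ≃ₐ[A] D := AlgEquiv.ofBijective f hf
  have : Algebra.Etale A D := by
    have : IsLocalization.Away (φ e) D := by
      have := IsLocalization.away_of_isIdempotentElem (R := E) (S := D) (e := φ e) (he.map φ)
        (by rw [Ideal.Quotient.algebraMap_eq, Ideal.mk_ker, map_sub, map_one])
        Ideal.Quotient.mk_surjective
      exact this
    have := Algebra.Etale.of_isLocalizationAway (R := E) (A := D) (φ e)
    exact Algebra.Etale.comp A E D
  let J : Ideal A := RingHom.ker (algebraMap A C)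
  let eJ : (A ⧸ J) ≃ₐ[A] D :=
    (Ideal.quotientKerAlgEquivOfSurjective (f := Algebra.ofId A C) hπ).trans eD
  have : Algebra.Etale A (A ⧸ J) := Algebra.Etale.of_equiv eJ.symm
  have hJ : J = ⊥ := eq_bot_of_etale_quotient fun a ha => hP.jac (hker a ha)
  have hbij : Function.Bijective (Algebra.ofId A C) :=
    ⟨(RingHom.injective_iff_ker_eq_bot _).mpr hJ, hπ⟩
  let eA : A ≃ₐ[A] C := AlgEquiv.ofBijective (Algebra.ofId A C) hbij
  refine ⟨(eA.symm.toAlgHom.comp eD.symm.toAlgHom).comp (Ideal.Quotient.mkₐ A _), ?_⟩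
  apply AlgHom.ext
  intro y
  obtain ⟨b, hb⟩ := Ideal.Quotient.mk_surjective (eD.symm (Ideal.Quotient.mk _ y))
  obtain ⟨a, ha⟩ := hπ (Ideal.Quotient.mk _ b)
  have h1 : eA.symm (eD.symm (Ideal.Quotient.mk _ y)) = a := by
    rw [← hb, ← ha]; exact eA.symm_apply_apply a
  have h2 : σ y = Ideal.Quotient.mk I a := by
    have h3 : f (algebraMap A C a) = Ideal.Quotient.mk _ y := by
      rw [ha, hb]; exact eD.apply_symm_apply _
    rw [AlgHom.commutes, IsScalarTower.algebraMap_apply A E D, Ideal.Quotient.algebraMap_eq,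
      Ideal.Quotient.eq, Ideal.mem_span_singleton'] at h3
    obtain ⟨z, hz⟩ := h3
    have h4 := congrArg σ hz
    rw [map_mul, show σ (φ (1 - e)) = 0 by simp [s] at hse; simp [hse], mul_zero, map_sub,
      AlgHom.commutes, eq_comm, sub_eq_zero] at h4
    exact h4.symm
  simp only [AlgHom.comp_apply, AlgEquiv.coe_toAlgHom, Ideal.Quotient.mkₐ_eq_mk]
  rw [h2]; exact congrArg _ h1

/-- Zariski's main theorem for étale algebras: locally a finite algebra. -/
theorem exists_finite_cover_of_etale {E : Type v} [CommRing E] [Algebra A E] [Algebra.Etale A E] :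
    ∃ (B : Subalgebra A E), Module.Finite A B ∧ ∃ G : Finset B,
      (∀ g ∈ G, Function.Bijective (Localization.awayMap B.val.toRingHom g)) ∧
      Ideal.span ((fun g : B => (g : E)) '' G) = ⊤ := by
  classical
  choose S hS r hr hbij using fun p : PrimeSpectrum E =>
    Algebra.QuasiFiniteAt.exists_fg_and_exists_notMem_and_awayMap_bijective (R := A) p.asIdeal
  have htop : Ideal.span (Set.range fun p : PrimeSpectrum E => (r p : E)) = ⊤ := by
    by_contra hne
    obtain ⟨m, hm, hle⟩ := Ideal.exists_le_maximal _ hne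
    exact hr ⟨m, hm.isPrime⟩ (hle (Ideal.subset_span ⟨⟨m, hm.isPrime⟩, rfl⟩))
  rw [Ideal.eq_top_iff_one, Finsupp.mem_span_range_iff_exists_finsupp] at htop
  obtain ⟨c, hc⟩ := htop
  let B : Subalgebra A E := Algebra.adjoin A (⋃ p ∈ c.support, (S p : Set E))
  have hle : ∀ p ∈ c.support, S p ≤ B := fun p hp x hx =>
    Algebra.subset_adjoin (Set.mem_biUnion hp hx)
  have hfin : Module.Finite A B := by
    have hfg : (B.toSubmodule).FG := by
      choose T hT using fun p => hS p
      have hB : B = Algebra.adjoin A (⋃ p ∈ c.support, (T p : Set E)) := by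
        refine le_antisymm (Algebra.adjoin_le ?_) (Algebra.adjoin_mono ?_)
        · refine Set.iUnion₂_subset fun p hp => ?_
          have hle' : Submodule.span A (T p : Set E) ≤
              (Algebra.adjoin A (⋃ p ∈ c.support, (T p : Set E))).toSubmodule :=
            Submodule.span_le.mpr fun y hy => Algebra.subset_adjoin (Set.mem_biUnion hp hy)
          rw [hT p] at hle'
          exact hle'
        · refine Set.iUnion₂_mono fun p hp x hx => ?_
          have : x ∈ (S p).toSubmodule := hT p ▸ Submodule.subset_span hx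
          exact this
      rw [hB]
      refine fg_adjoin_of_finite (Set.Finite.biUnion (Finset.finite_toSet _)
        fun p _ => (T p).finite_toSet) fun x hx => ?_
      obtain ⟨p, hp, hx⟩ := Set.mem_iUnion₂.mp hx
      have hxS : x ∈ (S p).toSubmodule := hT p ▸ Submodule.subset_span hx
      exact IsIntegral.of_mem_of_fg (S p) (hS p) x hxS
    exact Module.Finite.iff_fg.mpr hfg
  refine ⟨B, hfin, c.support.attach.image fun p => ⟨r p.1, hle _ p.2 (r p.1).2⟩, ?_, ?_⟩
  · intro g hg
    simp only [Finset.mem_image, Finset.mem_attach, true_and, Subtype.exists] at hg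
    obtain ⟨p, hp, rfl⟩ := hg
    constructor
    · exact IsLocalization.map_injective_of_injective _ _ _ Subtype.val_injective
    · intro z
      obtain ⟨w, hw⟩ := (hbij p).2 z
      obtain ⟨x, ⟨_, n, rfl⟩, rfl⟩ := IsLocalization.exists_mk'_eq (.powers (r p)) w
      refine ⟨IsLocalization.mk' _ (⟨x, hle p hp x.2⟩ : B) (⟨_, n, rfl⟩ : Submonoid.powers (⟨r p, hle p hp (r p).2⟩ : B)), ?_⟩
      rw [← hw]
      simp only [Localization.awayMap, IsLocalization.Away.map, IsLocalization.map_mk']
      rfl
  · rw [Ideal.eq_top_iff_one, ← hc]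
    refine Ideal.sum_mem _ fun p hp => ?_
    refine Ideal.mul_mem_left _ _ (Ideal.subset_span ⟨⟨r p, hle p hp (r p).2⟩, ?_, rfl⟩)
    simp only [Finset.coe_image, Set.mem_image, Finset.mem_coe, Finset.mem_attach, true_and]
    exact ⟨⟨p, hp⟩, rfl⟩

theorem RootPair.etaleLift (hP : RootPair I) : EtaleLift I := by
  intro E _ _ _ σ
  obtain ⟨B, hB, G, hG, hspan⟩ := exists_finite_cover_of_etale (A := A) (E := E)
  refine hP.exists_lift_of_locally_finite B.val (fun g : G => g.1) (fun g => hG _ g.2) σ ?_
  rw [← Ideal.map_top σ, ← hspan, Ideal.map_span, ← Set.image_comp]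
  congr 1
  ext x
  simp

end Groth.Agent.Hens
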