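import Groth.Agent.Lib.Hens.Local
import Groth.Agent.Lib.Hens.PairOps
import Groth.Prelude.Def_Hens2
import Mathlib.Algebra.Colimit.DirectLimit
import Mathlib.RingTheory.Etale.Field
import Mathlib.RingTheory.Ideal.IdempotentFG
import Mathlib.RingTheory.Flat.EquationalCriterion

/-!
The henselization of a pair, as the colimit of its étale neighbourhoods.
-/

open Polynomial

open scoped TensorProduct

namespace Groth.Agent.Hens

universe u v

variable {R : Type u} [CommRing R]

theorem ker_eq_map_of_sub_mem {I : Ideal R} {S : Type u} [CommRing S] [Algebra R S]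
    (σ : S →ₐ[R] R ⧸ I) (h : ∀ x : S, ∃ r : R, x - algebraMap R S r ∈ I.map (algebraMap R S)) :
    RingHom.ker σ = I.map (algebraMap R S) := by
  have hle : I.map (algebraMap R S) ≤ RingHom.ker σ := Ideal.map_le_iff_le_comap.mpr fun a ha => by
    rw [Ideal.mem_comap, RingHom.mem_ker, σ.commutes]
    exact Ideal.Quotient.eq_zero_iff_mem.mpr ha
  refine le_antisymm (fun x hx => ?_) hle
  obtain ⟨r, hr⟩ := h x
  have h0 : σ (x - algebraMap R S r) = 0 := hle hr
  rw [map_sub, RingHom.mem_ker.mp hx, zero_sub, neg_eq_zero, σ.commutes,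
    Ideal.Quotient.algebraMap_eq, Ideal.Quotient.eq_zero_iff_mem] at h0
  simpa using add_mem hr (Ideal.mem_map_of_mem (algebraMap R S) h0)

theorem exists_sub_mem_of_ker_eq {I : Ideal R} {S : Type u} [CommRing S] [Algebra R S]
    (σ : S →ₐ[R] R ⧸ I) (h : RingHom.ker σ = I.map (algebraMap R S)) (x : S) :
    ∃ r : R, x - algebraMap R S r ∈ I.map (algebraMap R S) := by
  obtain ⟨r, hr⟩ := Ideal.Quotient.mk_surjective (σ x)
  refine ⟨r, h.le ?_⟩
  rw [RingHom.mem_ker, map_sub, σ.commutes, Ideal.Quotient.algebraMap_eq, hr, sub_self]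

/-- An étale algebra with a point modulo `I` contains an étale neighbourhood of `I`. -/
theorem exists_shrink {I : Ideal R} {E : Type u} [CommRing E] [Algebra R E] [Algebra.Etale R E]
    (σ : E →ₐ[R] R ⧸ I) :
    ∃ e : E, σ e = 1 ∧ ∀ x, σ x = 0 → e * x ∈ I.map (algebraMap R E) := by
  let J : Ideal E := I.map (algebraMap R E)
  have hle : J ≤ RingHom.ker σ := Ideal.map_le_iff_le_comap.mpr fun a ha => by
    rw [Ideal.mem_comap, RingHom.mem_ker, σ.commutes]
    exact Ideal.Quotient.eq_zero_iff_mem.mpr ha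
  obtain ⟨n, f, hf⟩ := Algebra.FiniteType.iff_quotient_mvPolynomial''.mp
    (inferInstance : Algebra.FiniteType R E)
  choose c hc using fun i => Ideal.Quotient.mk_surjective (σ (f (MvPolynomial.X i)))
  let K₀ : Ideal E := Ideal.span (Set.range fun i => f (MvPolynomial.X i) - algebraMap R E (c i))
  have hK₀ : K₀ ≤ RingHom.ker σ := Ideal.span_le.mpr (by
    rintro _ ⟨i, rfl⟩
    simp [← hc i])
  have hdec : ∀ x, ∃ a : R, x - algebraMap R E a ∈ K₀ := by
    intro x
    obtain ⟨p, rfl⟩ := hf x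
    induction p using MvPolynomial.induction_on with
    | C a => exact ⟨a, by simp [← MvPolynomial.algebraMap_eq]⟩
    | add p q hp hq =>
      obtain ⟨a, ha⟩ := hp
      obtain ⟨b, hb⟩ := hq
      exact ⟨a + b, by rw [map_add, map_add, add_sub_add_comm]; exact add_mem ha hb⟩
    | mul_X p i hp =>
      obtain ⟨a, ha⟩ := hp
      refine ⟨a * c i, ?_⟩
      rw [map_mul, map_mul, show f p * f (MvPolynomial.X i) - algebraMap R E a * algebraMap R E (c i) =
        (f p - algebraMap R E a) * f (MvPolynomial.X i) +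
          algebraMap R E a * (f (MvPolynomial.X i) - algebraMap R E (c i)) by ring]
      exact add_mem (Ideal.mul_mem_right _ _ ha)
        (Ideal.mul_mem_left _ _ (Ideal.subset_span ⟨i, rfl⟩))
  have hker : RingHom.ker σ ≤ K₀ ⊔ J := by
    intro x hx
    obtain ⟨a, ha⟩ := hdec x
    have h0 : σ (x - algebraMap R E a) = 0 := hK₀ ha
    rw [map_sub, RingHom.mem_ker.mp hx, zero_sub, neg_eq_zero, σ.commutes,
      Ideal.Quotient.algebraMap_eq, Ideal.Quotient.eq_zero_iff_mem] at h0
    rw [← sub_add_cancel x (algebraMap R E a)]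
    exact add_mem (Ideal.mem_sup_left ha) (Ideal.mem_sup_right (Ideal.mem_map_of_mem _ h0))
  let π : E →+* E ⧸ J := Ideal.Quotient.mk J
  have hKK : K₀.map π = (RingHom.ker σ).map π := by
    refine le_antisymm (Ideal.map_mono hK₀) ((Ideal.map_mono hker).trans ?_)
    rw [Ideal.map_sup, Ideal.map_quotient_self, sup_bot_eq]
  have hidem : IsIdempotentElem (K₀.map π) := by
    show _ * _ = _
    refine le_antisymm Ideal.mul_le_right ?_
    have h2 := Ideal.map_mono (f := π) (ker_le_sq_of_formallyUnramified σ)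
    rw [Ideal.map_sup, Ideal.map_mul] at h2
    simp only [π, J, Ideal.map_quotient_self, sup_bot_eq] at h2
    rw [hKK]
    exact h2
  have hfg : (K₀.map π).FG :=
    Ideal.FG.map (Submodule.fg_span (Set.finite_range _)) π
  obtain ⟨ebar, hebar, hspan⟩ := (Ideal.isIdempotentElem_iff_of_fg _ hfg).mp hidem
  obtain ⟨e', he'⟩ := Ideal.Quotient.mk_surjective ebar
  have he'K : σ e' = 0 := by
    have hmem : π e' ∈ (RingHom.ker σ).map π := by
      rw [← hKK, hspan, he']
      exact Ideal.mem_span_singleton_self _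
    obtain ⟨y, hy, hye⟩ := (Ideal.mem_map_iff_of_surjective π Ideal.Quotient.mk_surjective).mp hmem
    have h0 : σ (y - e') = 0 := hle ((Ideal.Quotient.eq).mp hye)
    rw [map_sub, show σ y = 0 from hy, zero_sub, neg_eq_zero] at h0
    exact h0
  refine ⟨1 - e', by rw [map_sub, map_one, he'K, sub_zero], fun x hx => ?_⟩
  have hxm : π x ∈ Submodule.span (E ⧸ J) {ebar} := hspan ▸ hKK ▸ Ideal.mem_map_of_mem π hx
  obtain ⟨w, hw⟩ := Submodule.mem_span_singleton.mp hxm
  rw [← Ideal.Quotient.eq_zero_iff_mem]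
  show π ((1 - e') * x) = 0
  rw [map_mul, map_sub, map_one, show π e' = ebar from he', ← hw, smul_eq_mul,
    sub_mul, one_mul, mul_left_comm, hebar.eq, sub_self]

variable (I : Ideal R)

/-- An étale neighbourhood of the pair `(R, I)`, in coordinates. -/
structure PNbhd : Type u where
  n : ℕ
  J : Ideal (MvPolynomial (Fin n) R)
  etale : Algebra.Etale R (MvPolynomial (Fin n) R ⧸ J)
  σ : (MvPolynomial (Fin n) R ⧸ J) →ₐ[R] R ⧸ I
  ker_σ : RingHom.ker σ = I.map (algebraMap R (MvPolynomial (Fin n) R ⧸ J))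

variable {I}

namespace PNbhd

variable (i : PNbhd I)

/-- The coordinate ring. -/
abbrev S : Type u := MvPolynomial (Fin i.n) R ⧸ i.J

instance : Algebra.Etale R i.S := i.etale

/-- The elements invertible along `I`. -/
noncomputable def M : Submonoid i.S := (IsUnit.submonoid (R ⧸ I)).comap i.σ

/-- The local ring along `I`. -/
def G : Type u := Localization i.M

noncomputable instance : CommRing i.G := inferInstanceAs (CommRing (Localization i.M))

noncomputable instance : Algebra i.S i.G := inferInstanceAs (Algebra i.S (Localization i.M))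

noncomputable instance : Algebra R i.G := inferInstanceAs (Algebra R (Localization i.M))

instance : IsScalarTower R i.S i.G := inferInstanceAs (IsScalarTower R i.S (Localization i.M))

instance : IsLocalization i.M i.G := inferInstanceAs (IsLocalization i.M (Localization i.M))

/-- Evaluation along `I`. -/
noncomputable def res : i.G →ₐ[R] R ⧸ I :=
  IsLocalization.liftAlgHom (S := i.G) (M := i.M) (f := i.σ) fun y => y.2

theorem res_algebraMap (x : i.S) : i.res (algebraMap i.S i.G x) = i.σ x :=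
  IsLocalization.lift_eq _ x

theorem ker_res : RingHom.ker i.res = I.map (algebraMap R i.G) := by
  refine le_antisymm (fun x hx => ?_) (Ideal.map_le_iff_le_comap.mpr fun a ha => ?_)
  · obtain ⟨x, t, rfl⟩ := IsLocalization.exists_mk'_eq i.M x
    rw [IsScalarTower.algebraMap_eq R i.S i.G, ← Ideal.map_map]
    refine (IsLocalization.mk'_mem_map_algebraMap_iff i.M i.G _ x t).mpr ⟨1, Submonoid.one_mem _, ?_⟩
    rw [one_mul, ← i.ker_σ, RingHom.mem_ker]
    have h := congrArg i.res (IsLocalization.mk'_spec i.G x t)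
    rw [map_mul, RingHom.mem_ker.mp hx, zero_mul, res_algebraMap] at h
    exact h.symm
  · rw [Ideal.mem_comap, RingHom.mem_ker, AlgHom.commutes]
    exact Ideal.Quotient.eq_zero_iff_mem.mpr ha

theorem isUnit_of_res (x : i.G) (h : IsUnit (i.res x)) : IsUnit x := by
  obtain ⟨x, t, rfl⟩ := IsLocalization.exists_mk'_eq i.M x
  have h' := h.mul (t.2 : IsUnit (i.σ t))
  rw [← res_algebraMap i t, ← map_mul, IsLocalization.mk'_spec, res_algebraMap] at h'
  have h2 := IsLocalization.map_units i.G (⟨x, h'⟩ : i.M)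
  refine isUnit_of_mul_isUnit_left (y := algebraMap i.S i.G t) ?_
  rw [show IsLocalization.mk' i.G x t * algebraMap i.S i.G t = algebraMap i.S i.G x from
    IsLocalization.mk'_spec i.G x t]
  exact h2

theorem map_le_jacobson : I.map (algebraMap R i.G) ≤ Ideal.jacobson ⊥ := by
  intro x hx
  rw [Ideal.mem_jacobson_bot]
  intro y
  refine i.isUnit_of_res _ ?_
  rw [map_add, map_mul, map_one, show i.res x = 0 from i.ker_res.ge hx, zero_mul, zero_add]
  exact isUnit_one

instance : Algebra.FormallyEtale R i.G := by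
  have : Algebra.FormallyEtale i.S i.G := Algebra.FormallyEtale.of_isLocalization i.M
  exact Algebra.FormallyEtale.comp R i.S i.G

instance : Algebra.EssFiniteType R i.G :=
  have : Algebra.EssFiniteType i.S i.G := Algebra.EssFiniteType.of_isLocalization i.G i.M
  Algebra.EssFiniteType.comp R i.S i.G

instance : Module.Flat R i.G :=
  have : Module.Flat i.S i.G := IsLocalization.flat i.G i.M
  Module.Flat.trans R i.S i.G

theorem hom_ext {T : Type v} [CommRing T] [Algebra R T] {J : Ideal T} (hJ : J ≤ Ideal.jacobson ⊥)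
    {φ ψ : i.G →ₐ[R] T}
    (h : ∀ x : i.S, φ (algebraMap _ _ x) - ψ (algebraMap _ _ x) ∈ J) : φ = ψ := by
  refine IsLocalization.algHom_ext i.M ?_
  exact algHom_ext_of_le_jacobson (A := R) (E := i.S) hJ h

variable {i}

theorem map_unique {j : PNbhd I} {φ ψ : i.G →ₐ[R] j.G} (hφ : j.res.comp φ = i.res)
    (hψ : j.res.comp ψ = i.res) : φ = ψ := by
  refine hom_ext i (T := j.G) j.map_le_jacobson fun x => ?_
  rw [← j.ker_res, RingHom.mem_ker, map_sub, sub_eq_zero]
  exact (congr($hφ _)).trans (congr($hψ _)).symm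

instance : Preorder (PNbhd I) where
  le i j := ∃ φ : i.G →ₐ[R] j.G, j.res.comp φ = i.res
  le_refl i := ⟨AlgHom.id R _, AlgHom.comp_id _⟩
  le_trans i j k := fun ⟨φ, hφ⟩ ⟨ψ, hψ⟩ => ⟨ψ.comp φ, by rw [← AlgHom.comp_assoc, hψ, hφ]⟩

/-- The transition map. -/
noncomputable def map {j : PNbhd I} (h : i ≤ j) : i.G →ₐ[R] j.G := h.choose

theorem res_map {j : PNbhd I} (h : i ≤ j) (x : i.G) : j.res (map h x) = i.res x :=
  congr($(h.choose_spec) x)

theorem map_eq {j : PNbhd I} (h : i ≤ j) {φ : i.G →ₐ[R] j.G} (hφ : j.res.comp φ = i.res) :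
    map h = φ :=
  map_unique h.choose_spec hφ

instance : DirectedSystem (fun i : PNbhd I => i.G) (fun i j h => ⇑(map (i := i) (j := j) h)) where
  map_self i x := congr($(map_eq (le_refl i) (φ := AlgHom.id R _) (AlgHom.comp_id _)) x)
  map_map k j i hij hjk x :=
    (congr($(map_eq (hij.trans hjk) (φ := (map hjk).comp (map hij))
      (AlgHom.ext fun z => by simp [res_map])) x)).symm

theorem le_of_algHom {j : PNbhd I} (ψ : i.S →ₐ[R] j.S) (hψ : j.σ.comp ψ = i.σ) :
    ∃ h : i ≤ j, ∀ x, map h (algebraMap i.S i.G x) = algebraMap j.S j.G (ψ x) := by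
  have hu : ∀ y : i.M, IsUnit (((IsScalarTower.toAlgHom R j.S j.G).comp ψ) (y : i.S)) :=
    fun ⟨y, hy⟩ => IsLocalization.map_units (M := j.M) j.G ⟨ψ y, by
      show IsUnit (j.σ (ψ y))
      rw [show j.σ (ψ y) = i.σ y from congr($hψ y)]
      exact hy⟩
  let φ : i.G →ₐ[R] j.G := IsLocalization.liftAlgHom (M := i.M)
    (f := (IsScalarTower.toAlgHom R j.S j.G).comp ψ) hu
  have hφ : j.res.comp φ = i.res := by
    refine IsLocalization.algHom_ext i.M ?_
    ext x
    show j.res (φ (algebraMap i.S i.G x)) = i.res (algebraMap i.S i.G x)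
    rw [res_algebraMap, show φ (algebraMap i.S i.G x) = algebraMap j.S j.G (ψ x) from
      IsLocalization.lift_eq _ x, res_algebraMap, ← hψ]
    rfl
  refine ⟨⟨φ, hφ⟩, fun x => ?_⟩
  rw [map_eq ⟨φ, hφ⟩ hφ]
  simp [φ]

theorem exists_of (E : Type u) [CommRing E] [Algebra R E] [Algebra.Etale R E] (σ : E →ₐ[R] R ⧸ I)
    (h : RingHom.ker σ = I.map (algebraMap R E)) :
    ∃ (i : PNbhd I) (e : E ≃ₐ[R] i.S), ∀ x, i.σ (e x) = σ x := by
  obtain ⟨n, f, hf, hker⟩ := (Algebra.FinitePresentation.out : ∃ (n : ℕ)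
    (f : MvPolynomial (Fin n) R →ₐ[R] E), Function.Surjective f ∧ (RingHom.ker f.toRingHom).FG)
  let e := (Ideal.quotientKerAlgEquivOfSurjective (f := f) hf).symm
  refine ⟨⟨n, RingHom.ker f, Algebra.Etale.of_equiv e, σ.comp e.symm.toAlgHom,
    ker_eq_map_of_sub_mem _ fun x => ?_⟩, e, fun x => congrArg σ (e.symm_apply_apply x)⟩
  obtain ⟨r, hr⟩ := exists_sub_mem_of_ker_eq σ h (e.symm x)
  refine ⟨r, ?_⟩
  have h' := Ideal.mem_map_of_mem e.toRingEquiv.toRingHom hr
  rw [Ideal.map_map, show e.toRingEquiv.toRingHom.comp (algebraMap R E) = algebraMap R _ from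
    e.toAlgHom.comp_algebraMap, map_sub] at h'
  rwa [show e.toRingEquiv.toRingHom (e.symm x) = x from e.apply_symm_apply x,
    show e.toRingEquiv.toRingHom (algebraMap R E r) = algebraMap R _ r from e.commutes r] at h'

theorem exists_of_point (E : Type u) [CommRing E] [Algebra R E] [Algebra.Etale R E]
    (σ : E →ₐ[R] R ⧸ I) :
    ∃ (i : PNbhd I) (φ : E →ₐ[R] i.S), ∀ x, i.σ (φ x) = σ x := by
  obtain ⟨e, he, hIx⟩ := exists_shrink σ
  let σ' : Localization.Away e →ₐ[R] R ⧸ I :=
    IsLocalization.Away.liftAlgHom e (f := σ) (by rw [he]; exact isUnit_one)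
  have hσ' : ∀ x, σ' (algebraMap E _ x) = σ x := fun x =>
    IsLocalization.Away.lift_eq (S := Localization.Away e) e (g := σ.toRingHom) (by
      show IsUnit (σ e); rw [he]; exact isUnit_one) x
  have : Algebra.Etale R (Localization.Away e) := by
    have := Algebra.Etale.of_isLocalizationAway (R := E) (A := Localization.Away e) e
    exact Algebra.Etale.comp R E _
  obtain ⟨i, ε, hε⟩ := exists_of (Localization.Away e) σ' (by
    refine le_antisymm (fun x hx => ?_) (Ideal.map_le_iff_le_comap.mpr fun a ha => ?_)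
    · obtain ⟨x, ⟨_, k, rfl⟩, rfl⟩ := IsLocalization.exists_mk'_eq (.powers e) x
      rw [IsScalarTower.algebraMap_eq R E (Localization.Away e), ← Ideal.map_map,
        IsLocalization.mk'_mem_map_algebraMap_iff]
      refine ⟨e, ⟨1, pow_one e⟩, hIx x ?_⟩
      have h := congrArg σ' (IsLocalization.mk'_spec (Localization.Away e) x
        (⟨e ^ k, k, rfl⟩ : Submonoid.powers e))
      rw [map_mul, RingHom.mem_ker.mp hx, zero_mul, hσ'] at h
      exact h.symm
    · rw [Ideal.mem_comap, RingHom.mem_ker, σ'.commutes]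
      exact Ideal.Quotient.eq_zero_iff_mem.mpr ha)
  exact ⟨i, ε.toAlgHom.comp (IsScalarTower.toAlgHom R E _), fun x => (hε _).trans (hσ' x)⟩

instance : Nonempty (PNbhd I) :=
  ⟨(exists_of_point R (Ideal.Quotient.mkₐ R I)).choose⟩

instance : IsDirectedOrder (PNbhd I) where
  directed i j := by
    have : Algebra.Etale R (i.S ⊗[R] j.S) := Algebra.Etale.comp R i.S _
    obtain ⟨k, φ, hφ⟩ := exists_of_point (i.S ⊗[R] j.S)
      (Algebra.TensorProduct.lift i.σ j.σ fun _ _ => .all _ _)
    refine ⟨k, (le_of_algHom (φ.comp Algebra.TensorProduct.includeLeft) ?_).1,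
      (le_of_algHom (φ.comp Algebra.TensorProduct.includeRight) ?_).1⟩
    · ext x; simp [hφ]
    · ext x; simp [hφ]

end PNbhd

variable (I)

/-- The henselization of the pair. -/
def PHs : Type u :=
  DirectLimit (fun i : PNbhd I => i.G) (fun i j h => PNbhd.map (i := i) (j := j) h)

noncomputable instance : CommRing (PHs I) :=
  inferInstanceAs (CommRing (DirectLimit (fun i : PNbhd I => i.G)
    (fun i j h => PNbhd.map (i := i) (j := j) h)))

noncomputable instance : Algebra R (PHs I) :=
  inferInstanceAs (Algebra R (DirectLimit (fun i : PNbhd I => i.G)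
    (fun i j h => PNbhd.map (i := i) (j := j) h)))

namespace PHs

variable {I}

/-- The canonical map. -/
noncomputable def of (i : PNbhd I) : i.G →ₐ[R] PHs I :=
  DirectLimit.Algebra.of (fun i : PNbhd I => i.G) (fun i j h => PNbhd.map (i := i) (j := j) h) i

theorem of_map {i j : PNbhd I} (h : i ≤ j) (x : i.G) : of j (PNbhd.map h x) = of i x :=
  DirectLimit.Algebra.of_f (f := fun i j h => PNbhd.map (i := i) (j := j) h) h x

theorem exists_of (x : PHs I) : ∃ i y, of i y = x := by
  obtain ⟨i, y, rfl⟩ := DirectLimit.exists_eq_mk _ x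
  exact ⟨i, y, rfl⟩

theorem of_eq_of_iff {i j : PNbhd I} {x : i.G} {y : j.G} :
    of i x = of j y ↔ ∃ (k : PNbhd I) (hi : i ≤ k) (hj : j ≤ k), PNbhd.map hi x = PNbhd.map hj y := by
  refine ⟨fun h => ?_, fun ⟨k, hi, hj, h⟩ => by rw [← of_map hi, ← of_map hj, h]⟩
  obtain ⟨k, hi, hj, hk⟩ := Quotient.exact h
  exact ⟨k, hi, hj, hk⟩

theorem exists_of_finset {ι : Type*} (s : Finset ι) (x : ι → PHs I) :
    ∃ i : PNbhd I, ∀ a ∈ s, ∃ y, of i y = x a := by
  classical
  induction s using Finset.induction with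
  | empty => exact ⟨Classical.arbitrary _, by simp⟩
  | insert a s _ ih =>
    obtain ⟨i, hi⟩ := ih
    obtain ⟨j, y, hy⟩ := exists_of (x a)
    obtain ⟨k, hik, hjk⟩ := exists_ge_ge i j
    refine ⟨k, fun b hb => ?_⟩
    rcases Finset.mem_insert.mp hb with rfl | hb
    · exact ⟨PNbhd.map hjk y, by rw [of_map, hy]⟩
    · obtain ⟨z, hz⟩ := hi b hb
      exact ⟨PNbhd.map hik z, by rw [of_map, hz]⟩

/-- Evaluation along `I`. -/
noncomputable def res : PHs I →ₐ[R] R ⧸ I :=
  DirectLimit.Algebra.lift (fun i : PNbhd I => i.G) (fun i j h => PNbhd.map (i := i) (j := j) h)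
    (R ⧸ I) (fun i => i.res) fun _ _ h x => PNbhd.res_map h x

theorem res_of (i : PNbhd I) (x : i.G) : res (of i x) = i.res x := rfl

theorem isUnit_of_res (x : PHs I) (h : IsUnit (res x)) : IsUnit x := by
  obtain ⟨i, y, rfl⟩ := exists_of x
  exact (i.isUnit_of_res y h).map _

theorem ker_res : RingHom.ker (res : PHs I →ₐ[R] R ⧸ I) = I.map (algebraMap R (PHs I)) := by
  refine le_antisymm (fun x hx => ?_) (Ideal.map_le_iff_le_comap.mpr fun a ha => ?_)
  · obtain ⟨i, y, rfl⟩ := exists_of x
    have hy : y ∈ I.map (algebraMap R i.G) := i.ker_res.le hx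
    let φ : i.G →+* PHs I := (of i).toRingHom
    have h := Ideal.mem_map_of_mem φ hy
    rw [Ideal.map_map, show φ.comp (algebraMap R i.G) = algebraMap R (PHs I) from
      (of i).comp_algebraMap] at h
    exact h
  · rw [Ideal.mem_comap, RingHom.mem_ker, AlgHom.commutes]
    exact Ideal.Quotient.eq_zero_iff_mem.mpr ha

theorem exists_away (i : PNbhd I) {ι : Type*} (s : Finset ι) (x : ι → i.G) :
    ∃ (g : i.S) (hg : g ∈ i.M), ∀ a ∈ s, ∃ y : Localization.Away g,
      IsLocalization.Away.lift g (S := Localization.Away g)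
        (IsLocalization.map_units (M := i.M) i.G ⟨g, hg⟩) y = x a := by
  obtain ⟨⟨g, hg⟩, h⟩ := IsLocalization.exist_integer_multiples i.M s x
  refine ⟨g, hg, fun a ha => ?_⟩
  obtain ⟨z, hz⟩ := h a ha
  refine ⟨IsLocalization.mk' _ z (⟨g, 1, pow_one g⟩ : Submonoid.powers g), ?_⟩
  have hu := IsLocalization.map_units (M := i.M) i.G ⟨g, hg⟩
  refine hu.mul_left_cancel ?_
  have h1 : algebraMap i.S (Localization.Away g) g *
      IsLocalization.mk' _ z (⟨g, 1, pow_one g⟩ : Submonoid.powers g) = algebraMap i.S _ z :=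
    IsLocalization.mk'_spec' (Localization.Away g) z (⟨g, 1, pow_one g⟩ : Submonoid.powers g)
  rw [← IsLocalization.Away.lift_eq g (S := Localization.Away g) hu g, ← map_mul, h1,
    IsLocalization.Away.lift_eq, IsLocalization.Away.lift_eq, hz, Algebra.smul_def]

/-- The map to the colimit from a standard open neighbourhood. -/
noncomputable def awayToPHs (i : PNbhd I) (g : i.S) (hg : g ∈ i.M) :
    Localization.Away g →+* PHs I :=
  (of i).toRingHom.comp (IsLocalization.Away.lift g (g := algebraMap i.S i.G)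
    (IsLocalization.map_units (M := i.M) i.G ⟨g, hg⟩))

theorem awayToPHs_apply (i : PNbhd I) (g : i.S) (hg : g ∈ i.M) (z : Localization.Away g) :
    awayToPHs i g hg z = of i (IsLocalization.Away.lift g (g := algebraMap i.S i.G)
      (IsLocalization.map_units (M := i.M) i.G ⟨g, hg⟩) z) :=
  rfl

theorem awayToPHs_algebraMap (i : PNbhd I) (g : i.S) (hg : g ∈ i.M) (x : i.S) :
    awayToPHs i g hg (algebraMap i.S _ x) = of i (algebraMap i.S i.G x) := by
  rw [awayToPHs_apply, IsLocalization.Away.lift_eq]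

theorem exists_away_monic (f : (PHs I)[X]) (hf : f.Monic) :
    ∃ (i : PNbhd I) (g : i.S) (hg : g ∈ i.M) (f' : (Localization.Away g)[X]),
      f'.Monic ∧ f'.map (awayToPHs i g hg) = f := by
  classical
  rcases subsingleton_or_nontrivial (PHs I) with hs | hs
  · let i : PNbhd I := Classical.arbitrary _
    exact ⟨i, 1, one_mem _, 1, monic_one, Subsingleton.elim _ _⟩
  obtain ⟨i, hi⟩ := exists_of_finset (Finset.range f.natDegree) fun k => f.coeff k
  choose y hy using hi
  obtain ⟨g, hg, hgy⟩ := exists_away i (Finset.range f.natDegree).attach fun k => y k.1 k.2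
  choose z hz using hgy
  have hl : f ∈ lifts (awayToPHs i g hg) := by
    refine (lifts_iff_coeff_lifts f).mpr fun k => ?_
    rcases lt_trichotomy k f.natDegree with hk | hk | hk
    · refine ⟨z ⟨k, Finset.mem_range.mpr hk⟩ (Finset.mem_attach _ _), ?_⟩
      rw [awayToPHs_apply, hz, hy]
    · exact ⟨1, by rw [map_one, hk, hf.coeff_natDegree]⟩
    · exact ⟨0, by rw [map_zero, coeff_eq_zero_of_natDegree_lt hk]⟩
  obtain ⟨f', hf', -, hm⟩ := lifts_and_degree_eq_and_monic hl hf
  exact ⟨i, g, hg, f', hm, hf'⟩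

theorem exists_root (f : (PHs I)[X]) (hf : f.Monic) (b : R ⧸ I)
    (h₀ : (f.map (res : PHs I →ₐ[R] R ⧸ I).toRingHom).eval b = 0)
    (h₁ : IsUnit (((f.map (res : PHs I →ₐ[R] R ⧸ I).toRingHom).derivative).eval b)) :
    ∃ a, f.IsRoot a ∧ res a = b := by
  obtain ⟨i, g, hg, f', hf', hmap⟩ := exists_away_monic f hf
  set A := Localization.Away g
  let toH : A →+* PHs I := awayToPHs i g hg
  let σA : A →ₐ[R] R ⧸ I := IsLocalization.Away.liftAlgHom g (f := i.σ) hg
  have hσA : σA.toRingHom = (res : PHs I →ₐ[R] R ⧸ I).toRingHom.comp toH := by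
    refine IsLocalization.ringHom_ext (Submonoid.powers g) (RingHom.ext fun x => ?_)
    show σA (algebraMap i.S A x) = res (awayToPHs i g hg (algebraMap i.S A x))
    rw [awayToPHs_algebraMap, res_of, PNbhd.res_algebraMap]
    exact IsLocalization.Away.lift_eq (S := A) g (g := i.σ.toRingHom) hg x
  let _ : Algebra A (R ⧸ I) := σA.toRingHom.toAlgebra
  have : IsScalarTower R A (R ⧸ I) := IsScalarTower.of_algebraMap_eq fun r => (σA.commutes r).symm
  let P : StandardEtalePair A := ⟨f', hf', derivative f', 1, 0, 1, by simp⟩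
  have hfK : f'.map (algebraMap A (R ⧸ I)) = f.map (res : PHs I →ₐ[R] R ⧸ I).toRingHom := by
    rw [show algebraMap A (R ⧸ I) = (res : PHs I →ₐ[R] R ⧸ I).toRingHom.comp toH from hσA,
      ← Polynomial.map_map, hmap]
  have hP : P.HasMap b := by
    refine ⟨?_, ?_⟩
    · rw [aeval_def, ← eval_map, hfK]; exact h₀
    · rw [aeval_def, ← eval_map, ← derivative_map, hfK]; exact h₁
  let _ : Algebra R P.Ring := ((algebraMap A P.Ring).comp (algebraMap R A)).toAlgebra
  have : IsScalarTower R A P.Ring := IsScalarTower.of_algebraMap_eq' rfl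
  have : Algebra.Etale R A := by
    have := Algebra.Etale.of_isLocalizationAway (R := i.S) (A := A) g
    exact Algebra.Etale.comp R i.S A
  have : Algebra.Etale R P.Ring := Algebra.Etale.comp R A P.Ring
  let σE : P.Ring →ₐ[R] R ⧸ I := (P.lift b hP).restrictScalars R
  obtain ⟨j, ε, hε⟩ := PNbhd.exists_of_point P.Ring σE
  let ψ : i.S →ₐ[R] j.S := ε.comp
    ((IsScalarTower.toAlgHom R A P.Ring).comp (IsScalarTower.toAlgHom R i.S A))
  obtain ⟨hij, hij'⟩ := PNbhd.le_of_algHom ψ (by
    ext x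
    show j.σ (ε (algebraMap A P.Ring (algebraMap i.S A x))) = i.σ x
    rw [hε]
    show P.lift b hP (algebraMap A P.Ring _) = _
    rw [AlgHom.commutes]
    show σA (algebraMap i.S A x) = i.σ x
    exact IsLocalization.Away.lift_eq (S := A) g (g := i.σ.toRingHom) hg x)
  let toH' : P.Ring →+* PHs I :=
    (of j).toRingHom.comp ((algebraMap j.S j.G).comp ε.toRingHom)
  have hcomp : toH'.comp (algebraMap A P.Ring) = toH := by
    refine IsLocalization.ringHom_ext (Submonoid.powers g) (RingHom.ext fun x => ?_)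
    show of j (algebraMap j.S j.G (ψ x)) = awayToPHs i g hg (algebraMap i.S A x)
    rw [awayToPHs_algebraMap, ← hij', of_map]
  refine ⟨toH' P.X, ?_, ?_⟩
  · have h2 : aeval P.X P.f = 0 := P.hasMap_X.1
    rw [aeval_def] at h2
    have h3 := congrArg toH' h2
    rw [hom_eval₂, map_zero, hcomp, ← eval_map, hmap] at h3
    exact h3
  · show res (of j (algebraMap j.S j.G (ε P.X))) = b
    rw [res_of, PNbhd.res_algebraMap, hε]
    exact StandardEtalePair.lift_X P b hP

theorem le_jacobson : I.map (algebraMap R (PHs I)) ≤ Ideal.jacobson ⊥ := by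
  intro x hx
  rw [Ideal.mem_jacobson_bot]
  intro y
  refine isUnit_of_res _ ?_
  rw [map_add, map_mul, map_one, show res x = 0 from ker_res.ge hx, zero_mul, zero_add]
  exact isUnit_one

theorem henselianRing : HenselianRing (PHs I) (I.map (algebraMap R (PHs I))) where
  jac := le_jacobson
  is_henselian f hf a₀ h₀ h₁ := by
    have key : ∀ p : (PHs I)[X], (p.map (res : PHs I →ₐ[R] R ⧸ I).toRingHom).eval (res a₀) =
        res (p.eval a₀) := fun p => by
      rw [eval_map]
      exact eval₂_at_apply (res : PHs I →ₐ[R] R ⧸ I).toRingHom a₀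
    obtain ⟨a, ha, ha'⟩ := exists_root f hf (res a₀)
      (by rw [key]; exact ker_res.ge h₀)
      (by
        rw [derivative_map, key]
        obtain ⟨u, hu⟩ := h₁.exists_right_inv
        obtain ⟨u, rfl⟩ := Ideal.Quotient.mk_surjective u
        rw [← map_mul, ← map_one (Ideal.Quotient.mk _), Ideal.Quotient.eq, ← ker_res,
          RingHom.mem_ker, map_sub, map_one, map_mul, sub_eq_zero] at hu
        exact IsUnit.of_mul_eq_one _ hu)
    exact ⟨a, ha, by rw [← ker_res, RingHom.mem_ker, map_sub, ha', sub_self]⟩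

theorem exists_sub_mem (x : PHs I) :
    ∃ r : R, x - algebraMap R (PHs I) r ∈ I.map (algebraMap R (PHs I)) :=
  exists_sub_mem_of_ker_eq res ker_res x

instance : Module.Flat R (PHs I) := by
  refine Module.Flat.iff_forall_isTrivialRelation.mpr ?_
  intro l c x hx
  obtain ⟨i, hi⟩ := exists_of_finset Finset.univ x
  choose y hy using hi
  have h0 : of i (∑ a, c a • y a (Finset.mem_univ a)) = of i 0 := by
    rw [map_sum, map_zero, ← hx]
    simp only [map_smul, hy]
  obtain ⟨k, hik, hik', hk⟩ := of_eq_of_iff.mp h0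
  rw [map_zero, map_sum] at hk
  simp only [map_smul] at hk
  obtain ⟨m, α, w, hw, hα⟩ := (Module.Flat.iff_forall_isTrivialRelation (R := R) (M := k.G)).mp
    inferInstance (f := c) (x := fun a => PNbhd.map hik (y a (Finset.mem_univ a))) hk
  refine ⟨m, α, fun a => of k (w a), fun a => ?_, hα⟩
  have h2 := congrArg (of k) (hw a)
  rw [of_map, hy, map_sum] at h2
  simpa only [map_smul] using h2

theorem existsUnique_lift (T : Type u) [CommRing T] [Algebra R T] {J : Ideal T}
    (hT : HenselianRing T J) (hIJ : I.map (algebraMap R T) ≤ J) :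
    ∃! g : PHs I →ₐ[R] T, True := by
  let τ : R ⧸ I →ₐ[R] T ⧸ J := Ideal.Quotient.liftₐ I (Algebra.ofId R (T ⧸ J)) fun a ha => by
    show algebraMap R (T ⧸ J) a = 0
    rw [IsScalarTower.algebraMap_apply R T (T ⧸ J), Ideal.Quotient.algebraMap_eq,
      Ideal.Quotient.eq_zero_iff_mem]
    exact hIJ (Ideal.mem_map_of_mem _ ha)
  have key : ∀ i : PNbhd I, ∃ φ : i.G →ₐ[R] T, True := by
    intro i
    obtain ⟨φ₀, hφ₀, -⟩ := existsUnique_algHom_lift hT (τ.comp i.σ)
    have hu : ∀ y : i.M, IsUnit (φ₀ (y : i.S)) := fun y => by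
      refine isUnit_of_isUnit_mk hT.jac ?_
      rw [show Ideal.Quotient.mk J (φ₀ (y : i.S)) = τ (i.σ y) from congr($hφ₀ y)]
      exact (y.2 : IsUnit (i.σ y)).map τ
    exact ⟨IsLocalization.liftAlgHom (M := i.M) (f := φ₀) hu, trivial⟩
  choose φ _ using key
  have hcong : ∀ (S : Type u) [CommRing S] [Algebra R S] (σ : S →ₐ[R] R ⧸ I),
      RingHom.ker σ = I.map (algebraMap R S) → ∀ (f g : S →ₐ[R] T) (x : S), f x - g x ∈ J := by
    intro S _ _ σ hσ f g x
    obtain ⟨r, hr⟩ := exists_sub_mem_of_ker_eq σ hσ x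
    have hmem : ∀ h : S →ₐ[R] T, h (x - algebraMap R S r) ∈ J := fun h => by
      let h' : S →+* T := h.toRingHom
      have h2 := Ideal.mem_map_of_mem h' hr
      rw [Ideal.map_map, show h'.comp (algebraMap R S) = algebraMap R T from h.comp_algebraMap]
        at h2
      exact hIJ h2
    have := sub_mem (hmem f) (hmem g)
    simpa [AlgHom.commutes] using this
  have huniq : ∀ i : PNbhd I, ∀ f g : i.G →ₐ[R] T, f = g := fun i f g =>
    i.hom_ext hT.jac fun x => hcong i.S i.σ i.ker_σ (f.comp (IsScalarTower.toAlgHom R i.S i.G))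
      (g.comp (IsScalarTower.toAlgHom R i.S i.G)) x
  let g : PHs I →ₐ[R] T := DirectLimit.Algebra.lift (fun i : PNbhd I => i.G)
    (fun i j h => PNbhd.map (i := i) (j := j) h) T φ
    (fun i j h x => congr($(huniq i ((φ j).comp (PNbhd.map h)) (φ i)) x))
  refine ⟨g, trivial, fun g' _ => AlgHom.ext fun x => ?_⟩
  obtain ⟨i, y, rfl⟩ := exists_of x
  exact congr($(huniq i (g'.comp (of i)) (g.comp (of i))) y)

theorem isPairHenselization : Hens2.IsPairHenselization R I (PHs I) := by
  refine ⟨henselianRing, fun C _ J f hC hf => ?_⟩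
  let _ := f.toAlgebra
  obtain ⟨g, -, hu⟩ := existsUnique_lift (I := I) C hC hf
  exact ⟨g.toRingHom, g.comp_algebraMap, fun g' hg' =>
    congrArg AlgHom.toRingHom (hu { g' with commutes' := fun r => congr($hg' r) } trivial)⟩

end PHs

theorem exists_pairHenselization_equiv (B : Type u) [CommRing B] [Algebra R B]
    (hB : Hens2.IsPairHenselization R I B) : Nonempty (PHs I ≃ₐ[R] B) := by
  obtain ⟨g, -, hg⟩ := PHs.existsUnique_lift (I := I) B hB.1 le_rfl
  obtain ⟨h, hh, -⟩ := hB.2 (PHs I) _ (algebraMap R (PHs I)) PHs.henselianRing le_rfl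
  let h' : B →ₐ[R] PHs I := { h with commutes' := fun r => congr($hh r) }
  obtain ⟨a, -, ha⟩ := PHs.existsUnique_lift (I := I) (PHs I) PHs.henselianRing le_rfl
  obtain ⟨b, -, hb⟩ := hB.2 B _ (algebraMap R B) hB.1 le_rfl
  refine ⟨AlgEquiv.ofAlgHom g h' ?_ ?_⟩
  · exact AlgHom.coe_ringHom_injective
      ((hb _ (g.comp h').comp_algebraMap).trans (hb _ (AlgHom.id R B).comp_algebraMap).symm)
  · exact (ha _ trivial).trans (ha _ trivial).symm

end Groth.Agent.Hens
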