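import Mathlib.RingTheory.Henselian
import Mathlib.RingTheory.Nakayama
import Mathlib.RingTheory.Ideal.IdempotentFG
import Mathlib.RingTheory.Finiteness.Ideal
import Mathlib.LinearAlgebra.Matrix.Charpoly.Coeff
import Mathlib.Algebra.Polynomial.Div
import Mathlib.LinearAlgebra.Matrix.ToLin
import Mathlib.Tactic.LinearCombination

/-!
From root lifting for polynomials congruent to `X ^ n * (X - 1)` to lifting of idempotents
with cyclic image in finite algebras.
-/

open Polynomial

namespace Groth.Agent.Hens

universe u v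

/-- Gabber's root condition for a pair. -/
structure RootPair {A : Type u} [CommRing A] (I : Ideal A) : Prop where
  jac : I ≤ Ideal.jacobson ⊥
  root : ∀ (n : ℕ) (p : A[X]), 0 < n → p.Monic →
    p.map (Ideal.Quotient.mk I) = X ^ n * (X - 1) → ∃ a : A, p.IsRoot a ∧ a - 1 ∈ I

variable {A : Type u} [CommRing A] {I : Ideal A}

theorem RootPair.of_henselianRing (h : HenselianRing A I) : RootPair I where
  jac := h.jac
  root n p hn hp hmap := by
    refine h.is_henselian p hp 1 ?_ ?_
    · rw [← Ideal.Quotient.eq_zero_iff_mem, ← eval₂_at_apply, ← eval_map, hmap]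
      simp
    · rw [← eval₂_at_apply, ← eval_map, ← derivative_map, hmap]
      simp [derivative_mul]

theorem exists_monic_aeval_eq_zero_of_cyclic {B : Type v} [CommRing B] [Algebra A B]
    [Module.Finite A B] (hI : I ≤ Ideal.jacobson ⊥) (t : B)
    (ht : t * t - t ∈ I.map (algebraMap A B))
    (hcyc : ∀ x : B, ∃ a : A, t * x - algebraMap A B a * t ∈ I.map (algebraMap A B)) :
    ∃ (n : ℕ) (p : A[X]), 0 < n ∧ p.Monic ∧
      p.map (Ideal.Quotient.mk I) = X ^ n * (X - 1) ∧ aeval t p = 0 := by
  classical
  obtain ⟨N, s₀, hs₀⟩ := Module.Finite.exists_fin (R := A) (M := B)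
  let s : Fin (N + 1) → B := Fin.cons 1 s₀
  have hs : Submodule.span A (Set.range s) = ⊤ := by
    refine top_le_iff.mp (hs₀ ▸ Submodule.span_mono ?_)
    rintro _ ⟨i, rfl⟩
    exact ⟨i.succ, by simp [s]⟩
  let x : Option (Fin (N + 1)) → B := fun i => i.elim t fun i => (1 - t) * s i
  have hsm : ∀ y : B, y ∈ I.map (algebraMap A B) ↔ y ∈ I • (⊤ : Submodule A B) := fun y => by
    rw [Ideal.smul_top_eq_map]; rfl
  have hx : Submodule.span A (Set.range x) = ⊤ := by
    refine top_le_iff.mp
      (Submodule.le_of_le_smul_of_le_jacobson_bot Module.Finite.fg_top hI ?_)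
    rw [← hs, Submodule.span_le]
    rintro _ ⟨i, rfl⟩
    obtain ⟨a, ha⟩ := hcyc (s i)
    refine Submodule.mem_sup.mpr ⟨algebraMap A B a * t + (1 - t) * s i, ?_,
      t * s i - algebraMap A B a * t, by rw [hs, ← hsm]; exact ha, by ring⟩
    refine add_mem ?_ (Submodule.subset_span ⟨some i, rfl⟩)
    rw [← Algebra.smul_def]
    exact Submodule.smul_mem _ _ (Submodule.subset_span ⟨none, rfl⟩)
  let d : Option (Fin (N + 1)) → A := fun i => i.elim 1 fun _ => 0
  have key : ∀ j, t * x j - d j • x j ∈ I • Submodule.span A (Set.range x) := by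
    intro j
    rw [hx, ← hsm]
    cases j with
    | none => simpa [d, x] using ht
    | some i =>
      have : t * ((1 - t) * s i) = -(s i * (t * t - t)) := by ring
      simp only [d, x, Option.elim, zero_smul, sub_zero, this]
      exact neg_mem (Ideal.mul_mem_left _ _ ht)
  choose c hcI hc using fun j => (Submodule.mem_ideal_smul_span_iff_exists_sum I x _).mp (key j)
  let M : Matrix (Option (Fin (N + 1))) (Option (Fin (N + 1))) A :=
    Matrix.of fun j i => (if j = i then d j else 0) + c j i
  have hMc : M.charpoly.Monic := Matrix.charpoly_monic M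
  have hM : ∀ j, t * x j = ∑ i, M j i • x i := by
    intro j
    have h := hc j
    rw [Finsupp.sum_fintype _ _ (by simp)] at h
    rw [← sub_add_cancel (t * x j) (d j • x j), ← h]
    simp only [M, Matrix.of_apply, add_smul, Finset.sum_add_distrib, ite_smul, zero_smul]
    simp [add_comm]
  refine ⟨N + 1, M.charpoly, Nat.succ_pos _, hMc, ?_, ?_⟩
  · have : M.map (Ideal.Quotient.mk I) = Matrix.diagonal (fun j => Ideal.Quotient.mk I (d j)) := by
      ext j i
      simp only [M, Matrix.map_apply, Matrix.of_apply, Matrix.diagonal_apply, map_add,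
        Ideal.Quotient.eq_zero_iff_mem.mpr (hcI j i), add_zero]
      split_ifs <;> simp
    rw [← Matrix.charpoly_map, this, Matrix.charpoly_diagonal, Fintype.prod_option]
    simp [d, mul_comm]
  · let P : Matrix (Option (Fin (N + 1))) (Option (Fin (N + 1))) B :=
      Matrix.scalar _ t - M.map (algebraMap A B)
    have h0 : Matrix.mulVec P x = 0 := by
      ext j
      simp only [P, Matrix.sub_mulVec, Pi.sub_apply, Matrix.scalar_apply,
        Matrix.mulVec_diagonal, Pi.zero_apply]
      rw [hM j]
      simp [Matrix.mulVec, dotProduct, Algebra.smul_def]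
    have h1 : ∀ j, P.det * x j = 0 := by
      intro j
      have := congrFun (congrArg (Matrix.mulVec P.adjugate) h0) j
      simpa [Matrix.mulVec_mulVec, Matrix.adjugate_mul, Matrix.smul_mulVec] using this
    have h2 : P.det * (1 : B) = 0 := by
      have h1mem : (1 : B) ∈ Submodule.span A (Set.range x) := hx ▸ Submodule.mem_top
      revert h1mem
      generalize (1 : B) = y
      intro hy
      induction hy using Submodule.span_induction with
      | mem y hy => obtain ⟨j, rfl⟩ := hy; exact h1 j
      | zero => simp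
      | add a b _ _ ha hb => simp [mul_add, ha, hb]
      | smul a b _ hb => simp [hb]
    rw [aeval_def, ← eval_map, ← Matrix.charpoly_map, Matrix.eval_charpoly]
    simpa only [mul_one] using h2

/-- In a finite algebra over a root pair, an idempotent modulo `I` with cyclic image lifts to an
idempotent with cyclic image. -/
theorem RootPair.exists_idempotent_cyclic (hP : RootPair I) {B : Type v} [CommRing B] [Algebra A B]
    [Module.Finite A B] (t : B) (ht : t * t - t ∈ I.map (algebraMap A B))
    (hcyc : ∀ x : B, ∃ a : A, t * x - algebraMap A B a * t ∈ I.map (algebraMap A B)) :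
    ∃ e : B, IsIdempotentElem e ∧ e - t ∈ I.map (algebraMap A B) ∧
      ∀ x : B, ∃ a : A, e * x = algebraMap A B a * e := by
  obtain ⟨n, p, hn, hp, hmap, hpt⟩ := exists_monic_aeval_eq_zero_of_cyclic hP.jac t ht hcyc
  obtain ⟨a, ha, ha1⟩ := hP.root n p hn hp hmap
  obtain ⟨q, hpq⟩ := dvd_iff_isRoot.mpr ha
  have ha1' : Ideal.Quotient.mk I a = 1 := by
    rw [← map_one (Ideal.Quotient.mk I), Ideal.Quotient.eq]; exact ha1
  have hq : q.map (Ideal.Quotient.mk I) = X ^ n := by
    refine (monic_X_sub_C (1 : A ⧸ I)).isRegular.left ?_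
    show (X - C 1) * q.map (Ideal.Quotient.mk I) = (X - C 1) * X ^ n
    have := congrArg (Polynomial.map (Ideal.Quotient.mk I)) hpq
    rw [hmap] at this
    simp only [Polynomial.map_mul, Polynomial.map_sub, map_X, map_C, ha1', C_1] at this
    rw [C_1, ← this, mul_comm]
  have hu : IsUnit (q.eval a) := by
    have := isLocalHom_of_le_jacobson_bot I hP.jac
    apply IsUnit.of_map (Ideal.Quotient.mk I)
    rw [← eval₂_at_apply, ← eval_map, hq, ha1']; simp
  obtain ⟨u, hu1⟩ := hu.exists_left_inv
  set et : B := aeval t q with het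
  have hmul : (t - algebraMap A B a) * et = 0 := by
    rw [het]; simpa [hpq] using hpt
  have hq2 : ∀ g : A[X], aeval t g * et = algebraMap A B (g.eval a) * et := by
    intro g
    obtain ⟨k, hk⟩ := X_sub_C_dvd_sub_C_eval (a := a) (p := g)
    have := congrArg (aeval t) hk
    simp only [map_sub, map_mul, aeval_X, aeval_C] at this
    linear_combination et * this + aeval t k * hmul
  set e : B := algebraMap A B u * et with he
  have he2 : e * e = e := by
    have h1 : et * et = algebraMap A B (q.eval a) * et := hq2 q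
    have h2 : algebraMap A B u * algebraMap A B (q.eval a) = 1 := by rw [← map_mul, hu1, map_one]
    rw [he]
    linear_combination (algebraMap A B u * algebraMap A B u) * h1 + (algebraMap A B u * et) * h2
  have hsub : e - t ∈ I.map (algebraMap A B) := by
    rw [← Ideal.Quotient.eq, he, het, map_mul]
    have hφ : (Ideal.Quotient.mk (I.map (algebraMap A B))).comp (algebraMap A B) =
        (Ideal.Quotient.lift I ((Ideal.Quotient.mk (I.map (algebraMap A B))).comp (algebraMap A B))
          (fun z hz => Ideal.Quotient.eq_zero_iff_mem.mpr (Ideal.mem_map_of_mem _ hz))).comp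
          (Ideal.Quotient.mk I) := RingHom.ext fun _ => rfl
    have hu' : Ideal.Quotient.mk I u = 1 := by
      have hqa : Ideal.Quotient.mk I (q.eval a) = 1 := by
        rw [← eval₂_at_apply, ← eval_map, hq, ha1']; simp
      have := congrArg (Ideal.Quotient.mk I) hu1
      rwa [map_mul, hqa, mul_one, map_one] at this
    have e1 : Ideal.Quotient.mk (I.map (algebraMap A B)) (algebraMap A B u) = 1 := by
      have := congr($hφ u)
      simp only [RingHom.comp_apply] at this
      rw [this, hu', map_one]
    rw [e1, one_mul, aeval_def, hom_eval₂, hφ, ← eval₂_map, hq, eval₂_X_pow]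
    have htt : IsIdempotentElem (Ideal.Quotient.mk (I.map (algebraMap A B)) t) := by
      rw [IsIdempotentElem, ← map_mul, Ideal.Quotient.eq]; exact ht
    exact htt.pow_eq hn.ne'
  refine ⟨e, he2, hsub, ?_⟩
  let L : B →ₗ[A] B := LinearMap.mulLeft A e
  have hL : LinearMap.range L ≤ Submodule.span A {e} := by
    refine Submodule.le_of_le_smul_of_le_jacobson_bot
      (by rw [LinearMap.range_eq_map]; exact Module.Finite.fg_top.map _) hP.jac ?_
    rintro _ ⟨x, rfl⟩
    obtain ⟨c, hc⟩ := hcyc x
    refine Submodule.mem_sup.mpr ⟨c • e, Submodule.smul_mem _ _ (Submodule.mem_span_singleton_self e),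
      e * x - c • e, ?_, by simp [L]⟩
    have : e * x - c • e ∈ I.map (algebraMap A B) := by
      rw [Algebra.smul_def]
      have : e * x - algebraMap A B c * e =
          (t * x - algebraMap A B c * t) + (e - t) * (x - algebraMap A B c) := by ring
      rw [this]
      exact add_mem hc (Ideal.mul_mem_right _ _ hsub)
    have hy : e * x - c • e = L (e * x - c • e) := by
      simp only [L, LinearMap.mulLeft_apply, mul_sub, mul_smul_comm, ← mul_assoc, he2]
    rw [hy, LinearMap.range_eq_map, ← Submodule.map_smul'']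
    refine Submodule.mem_map_of_mem ?_
    rw [Ideal.smul_top_eq_map]; exact this
  intro x
  obtain ⟨c, hc⟩ := Submodule.mem_span_singleton.mp (hL ⟨x, rfl⟩)
  exact ⟨c, by rw [← Algebra.smul_def, hc]; rfl⟩

/-- An `A`-point modulo `I` of a finite algebra which is isolated (its kernel is idempotent modulo
`I`) gives an idempotent with cyclic image. -/
theorem RootPair.exists_idempotent_of_section (hP : RootPair I) {B : Type v} [CommRing B]
    [Algebra A B] [Module.Finite A B] (σ : B →ₐ[A] A ⧸ I)
    (hK : RingHom.ker σ ≤ RingHom.ker σ * RingHom.ker σ ⊔ I.map (algebraMap A B)) :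
    ∃ e : B, IsIdempotentElem e ∧ σ e = 1 ∧ ∀ x : B, ∃ a : A, e * x = algebraMap A B a * e := by
  let IB : Ideal B := I.map (algebraMap A B)
  let K : Ideal B := RingHom.ker σ
  let π : B →+* B ⧸ IB := Ideal.Quotient.mk IB
  have hIK : IB ≤ K := by
    rw [Ideal.map_le_iff_le_comap]
    intro a ha
    simp only [K, Ideal.mem_comap, RingHom.mem_ker, AlgHom.commutes]
    exact Ideal.Quotient.eq_zero_iff_mem.mpr ha
  obtain ⟨N, s, hs⟩ := Module.Finite.exists_fin (R := A) (M := B)
  choose a ha using fun i => Ideal.Quotient.mk_surjective (σ (s i))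
  have hdec : ∀ x : B, ∃ c : A,
      x - algebraMap A B c ∈ Ideal.span (Set.range fun i => s i - algebraMap A B (a i)) := by
    intro x
    have hx : x ∈ Submodule.span A (Set.range s) := hs ▸ Submodule.mem_top
    obtain ⟨g, rfl⟩ := (Submodule.mem_span_range_iff_exists_fun A).mp hx
    refine ⟨∑ i, g i * a i, ?_⟩
    rw [map_sum, ← Finset.sum_sub_distrib]
    refine sum_mem fun i _ => ?_
    rw [map_mul, Algebra.smul_def, ← mul_sub]
    exact Ideal.mul_mem_left _ _ (Ideal.subset_span ⟨i, rfl⟩)
  have hspanK : Ideal.span (Set.range fun i => s i - algebraMap A B (a i)) ≤ K := by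
    rw [Ideal.span_le]
    rintro _ ⟨i, rfl⟩
    simp [K, ← ha i]
  have hKeq : K.map π = (Ideal.span (Set.range fun i => s i - algebraMap A B (a i))).map π := by
    refine le_antisymm ?_ (Ideal.map_mono hspanK)
    rw [Ideal.map_le_iff_le_comap]
    intro x hx
    obtain ⟨c, hc⟩ := hdec x
    rw [Ideal.mem_comap, ← sub_add_cancel x (algebraMap A B c), map_add]
    refine add_mem (Ideal.mem_map_of_mem _ hc) ?_
    have hcI : c ∈ I := by
      have h1 : σ (x - algebraMap A B c) = 0 := RingHom.mem_ker.mp (hspanK hc)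
      rw [map_sub, RingHom.mem_ker.mp hx, zero_sub, neg_eq_zero, AlgHom.commutes] at h1
      exact Ideal.Quotient.eq_zero_iff_mem.mp h1
    have : π (algebraMap A B c) = 0 :=
      Ideal.Quotient.eq_zero_iff_mem.mpr (Ideal.mem_map_of_mem _ hcI)
    rw [this]; exact zero_mem _
  have hfg : (K.map π).FG := by
    rw [hKeq]; exact Ideal.FG.map (Submodule.fg_span (Set.finite_range _)) π
  have hidem : IsIdempotentElem (K.map π) := by
    refine le_antisymm Ideal.mul_le_left ?_
    have h1 := Ideal.map_mono (f := π) hK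
    rw [Ideal.map_sup, Ideal.map_mul, Ideal.map_quotient_self, sup_bot_eq] at h1
    exact h1
  obtain ⟨e₀, he₀, hspan⟩ := ((K.map π).isIdempotentElem_iff_of_fg hfg).mp hidem
  obtain ⟨f, rfl⟩ := Ideal.Quotient.mk_surjective e₀
  have hfK : f ∈ K := by
    have : π f ∈ K.map π := hspan ▸ Ideal.mem_span_singleton_self _
    obtain ⟨k, hk, hkf⟩ := (Ideal.mem_map_iff_of_surjective π Ideal.Quotient.mk_surjective).mp this
    have hd : f - k ∈ IB := Ideal.Quotient.eq.mp hkf.symm
    simpa using add_mem (hIK hd) hk
  have hff : f * f - f ∈ IB := Ideal.Quotient.eq.mp (by rw [map_mul]; exact he₀)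
  have ht : (1 - f) * (1 - f) - (1 - f) ∈ IB := by
    have : (1 - f) * (1 - f) - (1 - f) = f * f - f := by ring
    rwa [this]
  obtain ⟨e, he, het, hcyc⟩ := hP.exists_idempotent_cyclic (1 - f) ht fun x => by
    obtain ⟨c, hc⟩ := Ideal.Quotient.mk_surjective (σ x)
    have hxK : x - algebraMap A B c ∈ K := by simp [K, ← hc]
    refine ⟨c, ?_⟩
    have h1 : π (x - algebraMap A B c) ∈ K.map π := Ideal.mem_map_of_mem _ hxK
    rw [hspan, Ideal.mem_span_singleton'] at h1
    obtain ⟨y, hy⟩ := h1
    have : (1 - f) * x - algebraMap A B c * (1 - f) = (1 - f) * (x - algebraMap A B c) := by ring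
    rw [this, ← Ideal.Quotient.eq_zero_iff_mem]
    show π _ = 0
    rw [map_mul, ← hy, map_sub, map_one]
    linear_combination (-y) * (he₀.eq : π f * π f = π f)
  refine ⟨e, he, ?_, hcyc⟩
  have h1 : σ (e - (1 - f)) = 0 := RingHom.mem_ker.mp (hIK het)
  have h2 : σ f = 0 := RingHom.mem_ker.mp hfK
  simpa [h2, sub_eq_zero] using h1

end Groth.Agent.Hens
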