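import Groth.Agent.Lib.Hens.TensorAtPrime

/-!
Henselizations of quasi-finite algebras, and base change of strict henselizations.
-/

open IsLocalRing

open scoped TensorProduct

namespace Groth.Agent.Hens

universe u

section AtPrime

variable (R S : Type u) [CommRing R] [CommRing S] [Algebra R S] (p : Ideal R) [p.IsPrime]
  (q : Ideal S) [q.IsPrime] [q.LiesOver p]
  (Rh : Type u) [CommRing Rh] [IsLocalRing Rh] [Algebra (Localization.AtPrime p) Rh]
  [IsLocalHom (algebraMap (Localization.AtPrime p) Rh)]
  [Algebra R Rh] [IsScalarTower R (Localization.AtPrime p) Rh]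
  (Sh : Type u) [CommRing Sh] [IsLocalRing Sh] [Algebra (Localization.AtPrime q) Sh]
  [IsLocalHom (algebraMap (Localization.AtPrime q) Sh)]
  [Algebra S Sh] [IsScalarTower S (Localization.AtPrime q) Sh] [Algebra R Sh] [IsScalarTower R S Sh]
  [Algebra Rh Sh] [IsScalarTower R Rh Sh]

theorem comap_includeRight_eq :
    ((maximalIdeal Sh).comap (toSh R S Rh Sh)).comap
      (Algebra.TensorProduct.includeRight : S →ₐ[R] Rh ⊗[R] S).toRingHom = q := by
  refine (Ideal.ext fun s => ?_).trans (atPrime_comap (p := q) (T := Sh))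
  rw [Ideal.mem_comap, Ideal.mem_comap, Ideal.mem_comap]
  show toSh R S Rh Sh ((1 : Rh) ⊗ₜ s) ∈ _ ↔ _
  rw [toSh_tmul, map_one, one_mul]

include S q in
theorem isLocalHom_algebraMap_up
    (hRh : (maximalIdeal (Localization.AtPrime p)).map (algebraMap (Localization.AtPrime p) Rh) =
      maximalIdeal Rh) : IsLocalHom (algebraMap Rh Sh) := ⟨fun x hx => by
  by_contra hn
  have hle : (maximalIdeal (Localization.AtPrime p)).map (algebraMap _ Rh) ≤
      (maximalIdeal Sh).comap (algebraMap Rh Sh) := by
    rw [← Localization.AtPrime.map_eq_maximalIdeal, Ideal.map_map, ← IsScalarTower.algebraMap_eq,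
      Ideal.map_le_iff_le_comap, Ideal.comap_comap, ← IsScalarTower.algebraMap_eq R Rh Sh,
      IsScalarTower.algebraMap_eq R S Sh, ← Ideal.comap_comap, atPrime_comap (p := q) (T := Sh)]
    exact (Ideal.LiesOver.over (p := p) (P := q)).le
  rw [hRh] at hle
  exact (hle hn : algebraMap Rh Sh x ∈ maximalIdeal Sh) hx⟩

theorem liesOver_maximalIdeal [IsLocalHom (algebraMap Rh Sh)] :
    ((maximalIdeal Sh).comap (toSh R S Rh Sh)).LiesOver (maximalIdeal Rh) := ⟨by
  refine (comap_maximalIdeal_of_isLocalHom (algebraMap Rh Sh)).symm.trans (Ideal.ext fun r => ?_)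
  rw [Ideal.mem_comap]
  show algebraMap Rh Sh r ∈ maximalIdeal Sh ↔ toSh R S Rh Sh (r ⊗ₜ (1 : S)) ∈ maximalIdeal Sh
  rw [toSh_tmul, map_one, mul_one]⟩

theorem quasiFiniteAt_tensor [Algebra.QuasiFiniteAt R q] :
    Algebra.QuasiFiniteAt Rh ((maximalIdeal Sh).comap (toSh R S Rh Sh)) :=
  Algebra.QuasiFiniteAt.baseChange q _ (comap_includeRight_eq R S q Rh Sh).symm

theorem finite_tensor_atPrime [HenselianLocalRing Rh] [IsLocalHom (algebraMap Rh Sh)]
    [Algebra.FiniteType R S] [Algebra.QuasiFiniteAt R q] :
    Module.Finite Rh (Localization.AtPrime ((maximalIdeal Sh).comap (toSh R S Rh Sh))) :=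
  finite_localization_atPrime _ (liesOver_maximalIdeal R S Rh Sh)
    (quasiFiniteAt_tensor R S q Rh Sh)

/-- The comparison with the localised tensor product is linear over `Rh`. -/
noncomputable def linearEquivOfCompat (Q : Ideal (Rh ⊗[R] S)) [Q.IsPrime]
    (e : Localization.AtPrime Q ≃+* Sh)
    (he : ∀ d, e (algebraMap _ _ d) = toSh R S Rh Sh d) :
    Localization.AtPrime Q ≃ₐ[Rh] Sh :=
  AlgEquiv.ofRingEquiv (f := e) fun r => by
    rw [IsScalarTower.algebraMap_apply Rh (Rh ⊗[R] S) (Localization.AtPrime Q), he]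
    show toSh R S Rh Sh (r ⊗ₜ (1 : S)) = _
    rw [toSh_tmul, map_one, mul_one]

theorem finite_of_quasiFiniteAt_henselization
    [Hensel.IsHenselization (Localization.AtPrime p) Rh]
    [Hensel.IsHenselization (Localization.AtPrime q) Sh]
    [Algebra.FiniteType R S] [Algebra.QuasiFiniteAt R q] : Module.Finite Rh Sh := by
  have : HenselianLocalRing Rh := Hensel.IsHenselization.henselian (R := Localization.AtPrime p)
  have := isLocalHom_algebraMap_up R S p q Rh Sh
    (henselization_map_maximalIdeal (Localization.AtPrime p) Rh)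
  let Q := (maximalIdeal Sh).comap (toSh R S Rh Sh)
  let L := Localization.AtPrime Q
  have : Module.Finite Rh L := finite_tensor_atPrime R S q Rh Sh
  have : Algebra.IsIntegral Rh L := Algebra.IsIntegral.of_finite Rh L
  have : HenselianLocalRing L := henselianLocalRing_of_isIntegral Rh L
  have : IsLocalHom (algebraMap L L) := ⟨fun _ h => h⟩
  have : Hensel.IsHenselization L L := isHenselization_self L
  obtain ⟨e, he⟩ := henselization_tensor_at_prime R S p q Rh Sh Q L rfl
  exact Module.Finite.equiv (linearEquivOfCompat R S Rh Sh Q e he).toLinearEquiv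

theorem finite_of_quasiFiniteAt_strictHenselization
    [Hensel.IsStrictHenselization (Localization.AtPrime p) Rh]
    [Hensel.IsStrictHenselization (Localization.AtPrime q) Sh]
    [Algebra.FiniteType R S] [Algebra.QuasiFiniteAt R q] : Module.Finite Rh Sh := by
  have : HenselianLocalRing Rh :=
    Hensel.IsStrictHenselization.henselian (R := Localization.AtPrime p)
  have := (Hensel.IsStrictHenselization.isSepClosure (R := Localization.AtPrime p) (S := Rh)).1
  have := isLocalHom_algebraMap_up R S p q Rh Sh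
    (strictHenselization_map_maximalIdeal (Localization.AtPrime p) Rh)
  let Q := (maximalIdeal Sh).comap (toSh R S Rh Sh)
  let L := Localization.AtPrime Q
  have : Module.Finite Rh L := finite_tensor_atPrime R S q Rh Sh
  have : IsLocalHom (algebraMap Rh L) := ⟨fun r hr => by
    by_contra hn
    have hrQ : algebraMap Rh (Rh ⊗[R] S) r ∈ Q := (liesOver_maximalIdeal R S Rh Sh).over.le hn
    rw [IsScalarTower.algebraMap_apply Rh (Rh ⊗[R] S) L] at hr
    exact ((IsLocalization.AtPrime.to_map_mem_maximal_iff L Q _).mpr hrQ) hr⟩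
  obtain ⟨hL, hLs⟩ := isStrictlyHenselian_of_finite Rh L
  have : IsLocalHom (algebraMap L L) := ⟨fun _ h => h⟩
  have : Hensel.IsStrictHenselization L L := isStrictHenselization_self L
  obtain ⟨e, he⟩ := strictHenselization_tensor_at_prime R S p q Rh Sh Q L rfl
  exact Module.Finite.equiv (linearEquivOfCompat R S Rh Sh Q e he).toLinearEquiv

end AtPrime

end Groth.Agent.Hens
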